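import Cfsg.Agent.Nodes.NormalForm
import Cfsg.Agent.Nodes.FrameCent
import Cfsg.Agent.OddHalf.NI3.Sol.Defs
import Cfsg.Agent.OddHalf.NI.FTwo.ChartB
import Cfsg.Agent.OddHalf.NI.FTwo.FactsV
import Cfsg.Agent.Nodes.Reindex
import Cfsg.Agent.Nodes.TypeCForm
import Cfsg.Agent.Nodes.ShortSum
import Cfsg.Agent.Nodes.RankOneSub
import Cfsg.Agent.Nodes.ChartFrame

-- merged: Cfsg.Agent.OddHalf.NI3.Sol.CenZ
section

/-!
# The centraliser of the involution of a long root (type `B₃`)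

`mem_sup_of_comm` : in a root group datum with classical root groups, let `r₀ ∈ R` be such that the roots orthogonal to
`r₀` are `± r₁`, `± r₂` (`r₁ ∈ R`, `r₂ ∉ R`, `r₁ ⊥ r₂`) and `z s = z r₀` only for `s = ± r₀`. Then the centraliser of
`z r₀` is contained in `⟨X (± r₀), X (± r₁), X (± r₂), T⟩`.
-/

set_option autoImplicit false
set_option linter.unusedSectionVars false
set_option linter.dupNamespace false

namespace Cfsg.Agent.OddHalf.NI3.Sol.CenZ

open CoxeterSystem Cfsg.Agent.ChevalleyStructure.CoxeterGeom Cfsg.Agent.Tits.Roots Cfsg.Agent.Tits.Core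
  Cfsg.Agent.Tits.RootComb Cfsg.Agent.Nodes.Comb Cfsg.Agent.Nodes.Reps Cfsg.Agent.Nodes.BNOf
  Cfsg.Agent.Nodes.RGDLib Cfsg.Agent.Nodes.Chart Cfsg.Agent.Nodes.StabComb Cfsg.Agent.Nodes.Bruhat
  Cfsg.Agent.Nodes.ClsNorm Cfsg.Agent.Nodes.SubComb Cfsg.Agent.Nodes.Coroot Cfsg.Agent.Nodes.FreeTorus
  Cfsg.Agent.Nodes.Perp
open Cfsg.Agent.Cit.TypeDet (cm cm_symm cm_iff_le_centralizer cm_mono)

variable {I W Y : Type*} [Fintype I] [DecidableEq I] [Group W] [Fintype W] [Group Y] {M : CoxeterMatrix I}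
  {cs : CoxeterSystem M W} {A : I → I → ℤ} {h : IsCartan M A} {p : ℕ} {T : Subgroup Y} {n : I → Y}
  {X : (I → ℤ) → Subgroup Y} {R : Set (I → ℤ)} {Z : (I → ℤ) → Subgroup Y} {z : (I → ℤ) → Y}
  (C : Cls cs h p T n X R Z z)

include C

/-- an element of odd prime power order inverted and centralised by the same element -/
theorem eq_one_of_sq {p : ℕ} (hp : p.Prime) (hodd : p ≠ 2) {P : Subgroup Y} (hP : IsPGroup p P) {a : Y} (ha : a ∈ P)
    (h2 : a * a = 1) : a = 1 := by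
  obtain ⟨k, hk⟩ := hP ⟨a, ha⟩
  have hk' : a ^ p ^ k = 1 := congrArg Subtype.val hk
  obtain ⟨m, hm⟩ := ((hp.odd_of_ne_two hodd).pow : Odd (p ^ k))
  rw [hm, pow_succ, pow_mul, pow_two, h2, one_pow, one_mul] at hk'
  exact hk'

theorem z_comm_LL (zx : ∀ s ∈ R, Z s = X s) {r : I → ℤ} (hr : r ∈ R) {a : Y} (ha : a ∈ LL X r) :
    z r * a = a * z r := by
  have h1 : LL X r ≤ Subgroup.centralizer {z r} := by
    unfold LL
    refine sup_le (fun b hb => ?_) (fun b hb => ?_)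
    · rw [Subgroup.mem_centralizer_singleton_iff]
      rw [← zx r hr] at hb
      exact (C.z_cent r hr b hb).symm
    · rw [Subgroup.mem_centralizer_singleton_iff]
      rw [← zx (-r) (Cfsg.Agent.Nodes.ClsNorm.neg_mem C hr)] at hb
      have := C.z_cent (-r) (Cfsg.Agent.Nodes.ClsNorm.neg_mem C hr) b hb
      rw [C.z_neg r hr] at this
      exact this.symm
  exact (Subgroup.mem_centralizer_singleton_iff.1 (h1 ha)).symm

/-- **The centraliser of the involution of a long root.** -/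
theorem mem_sup_of_comm (hp : p.Prime) (hodd : p ≠ 2) {r₀ r₁ r₂ : I → ℤ} (h₀ : r₀ ∈ R)
    (h₁ : r₁ ∈ R) (h₂ : IsRoot cs h r₂) (h₂' : r₂ ∉ R) (h01 : form cs h r₁ r₀ = 0) (h02 : form cs h r₂ r₀ = 0)
    (h12 : form cs h r₂ r₁ = 0)
    (perp : ∀ y, IsRoot cs h y → form cs h y r₀ = 0 → y = r₁ ∨ y = -r₁ ∨ y = r₂ ∨ y = -r₂)
    (hz : ∀ s ∈ R, z s = z r₀ → s = r₀ ∨ s = -r₀) {g : Y} (hg : g ∈ GG cs h T X) (hc : z r₀ * g = g * z r₀) :
    g ∈ LL X r₀ ⊔ LL X r₁ ⊔ LL X r₂ ⊔ T := by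
  set P : Subgroup Y := LL X r₀ ⊔ LL X r₁ ⊔ LL X r₂ ⊔ T with hP
  have l0 : LL X r₀ ≤ P := le_sup_of_le_left (le_sup_of_le_left le_sup_left)
  have l1 : LL X r₁ ≤ P := le_sup_of_le_left (le_sup_of_le_left le_sup_right)
  have l2 : LL X r₂ ≤ P := le_sup_of_le_left le_sup_right
  have lT : T ≤ P := le_sup_right
  have hr0 := C.root r₀ h₀
  have hr1 := C.root r₁ h₁
  have hfix : ∀ x ∈ RGD.Pos cs h, X x ⊓ Subgroup.centralizer {z r₀} ≤ P := by
    rintro x hx a ⟨ha, hac⟩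
    have hac' : z r₀ * a = a * z r₀ := Subgroup.mem_centralizer_iff.1 hac _ rfl
    have hxr : IsRoot cs h x := hx.1
    by_cases e1 : x = r₀
    · subst e1; exact l0 (le_sup_left (a := X x) ha)
    by_cases e2 : x = -r₀
    · subst e2; exact l0 (le_sup_right (a := X r₀) ha)
    by_cases e3 : form cs h x r₀ = 0
    · rcases perp x hxr e3 with rfl | rfl | rfl | rfl
      · exact l1 (le_sup_left (a := X x) ha)
      · exact l1 (le_sup_right (a := X r₁) ha)
      · exact l2 (le_sup_left (a := X x) ha)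
      · exact l2 (le_sup_right (a := X r₂) ha)
    · have h3 := C.z_inv r₀ h₀ x hxr e1 e2 e3 a ha
      rw [hac', mul_assoc, C.z_sq r₀ h₀, mul_one] at h3
      have h4 : a = 1 := eq_one_of_sq C hp hodd (C.rgd.pgrp' hxr) ha (by nth_rw 2 [h3]; group)
      rw [h4]; exact one_mem _
  have hgc : g ∈ Subgroup.centralizer {z r₀} := Subgroup.mem_centralizer_iff.2 fun s hs => by
    rw [Set.mem_singleton_iff.1 hs]; exact hc
  obtain ⟨u, hu, w, k, hk, hkc, v, hv, rfl⟩ := Cfsg.Agent.Nodes.NormalForm.mem_centralizer C.rgd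
    (S := {z r₀}) (by rintro _ rfl; exact C.z_torus r₀ h₀) hg hgc
  have hu' : u ∈ P := (RGD.Sup_le hfix : _ ≤ P) hu
  have hv' : v ∈ P := (RGD.Sup_le hfix : _ ≤ P) hv
  refine mul_mem (mul_mem hu' ?_) hv'
  -- the Weyl group element
  have hw0 : rep cs h w r₀ = r₀ ∨ rep cs h w r₀ = -r₀ := by
    refine hz _ (C.act r₀ h₀ w) ?_
    rw [← Cfsg.Agent.Nodes.ClsNorm.conj_z C hk h₀]
    have := Subgroup.mem_centralizer_iff.1 hkc (z r₀) rfl
    rw [← this]; group
  -- adjust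
  have adj : ∀ (w : W) (k : Y), Rp cs C.rgd.nsys w k → ∀ {x : I → ℤ} (hx : IsRoot cs h x), LL X x ≤ P →
      (rep cs h w x = x ∨ rep cs h w x = -x) → ∃ w' k', Rp cs C.rgd.nsys w' k' ∧ (k' ∈ P → k ∈ P) ∧
        rep cs h w' x = x ∧ ∀ y, form cs h y x = 0 → rep cs h w y = y → rep cs h w' y = y := by
    intro w k hk x hx hxP hw
    rcases hw with hw | hw
    · exact ⟨w, k, hk, id, hw, fun y _ hy => hy⟩
    · obtain ⟨m, hm, v, hv, hvr⟩ := exists_refl C hx
      refine ⟨v * w, m * k, hv.mul hk, fun h1 => ?_, ?_, fun y hy hwy => ?_⟩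
      · have : k = m⁻¹ * (m * k) := by group
        rw [this]; exact mul_mem (inv_mem (hxP hm)) h1
      · rw [rep_mul_apply, hw, map_neg, hvr, cpr_self cs h hx, two_smul]; abel
      · rw [rep_mul_apply, hwy, hvr, (cpr_zero_iff cs h y hx).2 hy, zero_smul, sub_zero]
  obtain ⟨w1, k1, hk1, i1, f1, -⟩ := adj w k hk hr0 l0 hw0
  apply i1
  -- an element fixing `r₀`
  have horth : ∀ w, rep cs h w r₀ = r₀ → ∀ y, form cs h y r₀ = 0 → form cs h (rep cs h w y) r₀ = 0 := by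
    intro w hw y hy
    have := form_rep cs h w y r₀
    rw [hw, hy] at this
    exact this
  have hA : ∀ w, rep cs h w r₀ = r₀ → rep cs h w r₁ = r₁ ∨ rep cs h w r₁ = -r₁ := by
    intro w hw
    rcases perp _ (hr1.act w) (horth w hw r₁ h01) with e | e | e | e
    · exact Or.inl e
    · exact Or.inr e
    · exact absurd (e ▸ C.act r₁ h₁ w) h₂'
    · have h5 := Cfsg.Agent.Nodes.ClsNorm.neg_mem C (C.act r₁ h₁ w)
      rw [e, neg_neg] at h5
      exact absurd h5 h₂'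
  have hB : ∀ w, rep cs h w r₀ = r₀ → rep cs h w r₂ = r₂ ∨ rep cs h w r₂ = -r₂ := by
    intro w hw
    have back : ∀ s ∈ R, rep cs h w r₂ = s → False := by
      intro s hs e
      apply h₂'
      have : r₂ = rep cs h w⁻¹ s := by rw [← e, rep_inv_apply]
      rw [this]; exact C.act s hs _
    rcases perp _ (h₂.act w) (horth w hw r₂ h02) with e | e | e | e
    · exact absurd e (fun e => back _ h₁ e)
    · exact absurd e (fun e => back _ (Cfsg.Agent.Nodes.ClsNorm.neg_mem C h₁) e)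
    · exact Or.inl e
    · exact Or.inr e
  obtain ⟨w2, k2, hk2, i2, f2, g2⟩ := adj w1 k1 hk1 hr1 l1 (hA w1 f1)
  apply i2
  have f20 : rep cs h w2 r₀ = r₀ := g2 r₀ (by rw [form_comm]; exact h01) f1
  have hw2' := hB w2 f20
  obtain ⟨w3, k3, hk3, i3, f3, g3⟩ := adj w2 k2 hk2 h₂ l2 hw2'
  apply i3
  have f30 : rep cs h w3 r₀ = r₀ := g3 r₀ (by rw [form_comm]; exact h02) f20
  have f31 : rep cs h w3 r₁ = r₁ := g3 r₁ (by rw [form_comm]; exact h12) f2
  have hw3 : w3 = 1 := by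
    refine Cfsg.Agent.Nodes.FrameCent.eq_one_of_fix (cs := cs) (h := h) (r := ![r₀, r₁, r₂]) (fun x hx => ?_) (fun k => ?_)
    · by_cases e : form cs h x r₀ = 0
      · have hpos := form_pos cs h hx.ne_zero
        rcases perp x hx e with rfl | rfl | rfl | rfl
        · exact ⟨1, by simpa using hpos.ne'⟩
        · refine ⟨1, ?_⟩
          simp only [Matrix.cons_val_one, Matrix.cons_val_zero, form_neg_left]
          have := form_pos cs h hr1.ne_zero
          omega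
        · exact ⟨2, by simpa using hpos.ne'⟩
        · refine ⟨2, ?_⟩
          simp only [Matrix.cons_val, form_neg_left]
          have := form_pos cs h h₂.ne_zero
          omega
      · exact ⟨0, by simpa using e⟩
    · fin_cases k
      · exact f30
      · exact f31
      · exact f3
  subst hw3
  exact lT hk3.mem_of_one

end Cfsg.Agent.OddHalf.NI3.Sol.CenZ

end

-- merged: Cfsg.Agent.OddHalf.NI3.Sol.EndDefs
section

/-!
# Solomon's configuration: the input of the combinatorial end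

`X 0`, `X 1`, `X 2` : the charts of `K₃`, `K₁`, `K₂` (cyclically: `JJ (X i) (0,0,1) = J i`,
`JJ (X i) (1,-1,0) = J (i+1)`, `JJ (X i) (1,1,0) = J (i+2)`), `Y` : the chart of `K_w`, `w = z 0 (1,0,1)`.
`b` (resp. `c`) : the long root of chart `1` (resp. `2`) with involution `w`.
-/

set_option autoImplicit false

namespace Cfsg.Agent.OddHalf.NI3.Sol

variable {G : Type*} [Group G]

/-- the commutator relations of a chart -/
structure Rel (X : V → Subgroup G) : Prop where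
  comm : ∀ u v, IsR u → IsR v → ¬ IsR (u + v) → u + v ≠ 0 → cm (X u) (X v)
  ncomm : ∀ u v, IsR u → IsR v → IsR (u + v) → ¬ cm (X u) (X v)
  gen : ∀ u v, IsR u → IsR v → IsR (u + v) → X (u + v) ≤ X u ⊔ X v

/-- the short root orthogonal to the long root `v` -/
def sh (v : V) : V := (1 - v.1 * v.1, 1 - v.2.1 * v.2.1, 1 - v.2.2 * v.2.2)

/-- the long root orthogonal to the long root `v` (up to sign) -/
def ol (v : V) : V := if v.2.2 = 0 then (v.1, -v.2.1, 0) else (v.1, v.2.1, -v.2.2)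

/-- `{A u, A (-u)} = {B v, B (-v)}` -/
def Pr (A B : V → Subgroup G) (u v : V) : Prop :=
  (A u = B v ∧ A (-u) = B (-v)) ∨ (A u = B (-v) ∧ A (-u) = B v)

/-- the possible `b`, `c` -/
def IsB (b : V) : Prop := b = (1, 0, 1) ∨ b = (1, 0, -1) ∨ b = (0, 1, 1) ∨ b = (0, 1, -1)

structure EndData (X : Fin 3 → V → Subgroup G) (Y : V → Subgroup G) (b c : V) : Prop where
  rel : ∀ i, Rel (X i)
  relY : Rel Y
  sh1 : ∀ i, X i (1, -1, 0) = X (i + 1) (0, 0, 1) ∧ X i (-1, 1, 0) = X (i + 1) (0, 0, -1)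
  sh2 : ∀ i, X i (1, 1, 0) = X (i + 2) (0, 0, 1) ∧ X i (-1, -1, 0) = X (i + 2) (0, 0, -1)
  /-- the element `n i` of `J i` acts on all three charts -/
  n : ∀ i, ∃ g : G, (∀ u, IsR u → cj g (X i u) = X i (refl (0, 0, 1) u)) ∧
    (∀ u, IsR u → cj g (X (i + 1) u) = X (i + 1) (refl (1, 1, 0) u)) ∧
    (∀ u, IsR u → cj g (X (i + 2) u) = X (i + 2) (refl (1, -1, 0) u))
  hb : IsB b
  hc : IsB c
  y1 : Y (0, 0, 1) = X 0 (1, 0, 1) ∧ Y (0, 0, -1) = X 0 (-1, 0, -1)
  y2 : Y (1, -1, 0) = X 0 (1, 0, -1) ∧ Y (-1, 1, 0) = X 0 (-1, 0, 1)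
  y3 : Y (1, 1, 0) = X 0 (0, -1, 0) ∧ Y (-1, -1, 0) = X 0 (0, 1, 0)
  b1 : Pr Y (X 1) (sh b) b
  b2 : Pr Y (X 1) b (sh b)
  b3 : Pr Y (X 1) (ol b) (ol b)
  c1 : Pr Y (X 2) (sh (refl (1, 1, 0) b)) c
  c2 : Pr Y (X 2) (refl (1, 1, 0) b) (sh c)
  c3 : Pr Y (X 2) (ol (refl (1, 1, 0) b)) (ol c)

end Cfsg.Agent.OddHalf.NI3.Sol

end

-- merged: Cfsg.Agent.OddHalf.NI.FTwo.FactsCo
section

/-!
# NI (F2'), facts: coordinates of the roots of a chart of type `B₃`

`Co C P` : `P v` is the root of the chart `C` with the coordinates `v` (`NI3/Sol/Defs.lean`); `exists_co`.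
-/

set_option autoImplicit false
set_option linter.dupNamespace false

namespace Cfsg.Agent.OddHalf.NI.FTwo.FactsCo

open Cfsg
open CoxeterSystem Cfsg.Agent.ChevalleyStructure.CoxeterGeom Cfsg.Agent.Tits.Roots Cfsg.Agent.Tits.Core
  Cfsg.Agent.Tits.RootComb Cfsg.Agent.Nodes.Comb Cfsg.Agent.Nodes.Reps Cfsg.Agent.Nodes.BNOf
  Cfsg.Agent.Nodes.RGDLib Cfsg.Agent.Nodes.Chart Cfsg.Agent.Nodes.Coroot Cfsg.Agent.Nodes.FreeTorus
  Cfsg.Agent.Nodes.Reindex Cfsg.Agent.Nodes.TypeCForm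
open Cfsg.Agent.Nodes.TypeC (wt ng ee bt Ok ee_add ee_injective wt_ng wt_apply)
open Cfsg.Agent.OddHalf.NI3.Sol (V IsR IsS IsL dot shortL longL pr refl)
open FactsV

variable {N : Type*} [Group N] {Om : Set (Subgroup N)} {p : ℕ}

/-! ### `ε`-coordinates -/

/-- `ε`-coordinates of the labels of a chart of type `.B 3` -/
structure Eps (C : Chart Om p (⊤ : Subgroup N)) (E : (C.I → ℤ) →+ (Fin 3 → ℤ)) : Prop where
  inj : Function.Injective E
  root : ∀ x, IsRoot C.cs C.h x ↔ ∃ a b, Ok a b ∧ E x = wt a + wt b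
  cpr : ∀ x y, IsRoot C.cs C.h y → cpr C.cs C.h x y * ip (E y) (E y) = 2 * ip (E x) (E y)
  mem : ∀ x, IsRoot C.cs C.h x → (x ∈ C.R ↔ ip (E x) (E x) = 2)
  ex : ∀ a b, Ok a b → ∃ x, E x = wt a + wt b

theorem exists_eps (C : Chart Om p (⊤ : Subgroup N)) (hty : C.IsTy (.B 3)) : ∃ E, Eps C E := by
  obtain ⟨e, hA, hl⟩ := hty
  change C.I ≃ Fin 3 at e
  change ∀ i j, C.A i j = Nodes.TypeC.A 3 (e i) (e j) at hA
  change ∀ i, sr i ∈ C.R ↔ ((e i : Fin 3) : ℕ) + 1 < 3 at hl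
  have hM := matrix_eq C.h (Nodes.TypeC.isCartan 3) hA
  obtain ⟨cs', hs⟩ := exists_reindex C.cs e hM
  have hR : ∀ x, IsRoot cs' (Nodes.TypeC.isCartan 3) (x ∘ e.symm) ↔ IsRoot C.cs C.h x := fun x =>
    isRoot_reindex (cs := C.cs) (h := C.h) hA hs
  let E : (C.I → ℤ) →+ (Fin 3 → ℤ) := AddMonoidHom.mk' (fun x => ee (x ∘ e.symm)) (fun x y => by
    rw [← ee_add]; rfl)
  have hE : ∀ x, E x = ee (x ∘ e.symm) := fun _ => rfl
  refine ⟨E, ⟨?_, ?_, ?_, ?_, fun a b hab => ?_⟩⟩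
  · intro x y hxy
    rw [hE, hE] at hxy
    exact comp_inj (ee_injective hxy)
  · intro x
    rw [← hR, Nodes.TypeC.isRoot_iff, hE]
  · intro x y hy
    have hy' := (hR y).2 hy
    rw [← cpr_reindex (cs' := cs') (h' := Nodes.TypeC.isCartan 3) hA hs x hy, hE, hE]
    obtain ⟨c, hc, h1⟩ := form_eq cs' hy'
    have h2 := h1 (y ∘ e.symm)
    have h3 := form_pos cs' (Nodes.TypeC.isCartan 3) hy'.ne_zero
    have h4 := mul_right_cancel₀ h3.ne' h2
    have h5 := two_form_cpr cs' (Nodes.TypeC.isCartan 3) (x ∘ e.symm) hy'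
    have h6 := h1 (x ∘ e.symm)
    rw [← h4]
    have h7 : (cpr cs' (Nodes.TypeC.isCartan 3) (x ∘ e.symm) (y ∘ e.symm) * c) *
        form cs' (Nodes.TypeC.isCartan 3) (y ∘ e.symm) (y ∘ e.symm) =
        (2 * ip (ee (x ∘ e.symm)) (ee (y ∘ e.symm))) *
        form cs' (Nodes.TypeC.isCartan 3) (y ∘ e.symm) (y ∘ e.symm) := by
      linear_combination (-c) * h5 + 2 * h6
    exact mul_right_cancel₀ h3.ne' h7
  · rintro x ⟨w, i, rfl⟩
    have h1 : rep C.cs C.h w (sr i) ∈ C.R ↔ sr i ∈ C.R := by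
      constructor
      · intro h0
        have := C.cls.act _ h0 w⁻¹
        rwa [rep_inv_apply] at this
      · exact fun h0 => C.cls.act _ h0 w
    have h2 : E (rep C.cs C.h w (sr i)) = ee (rep cs' (Nodes.TypeC.isCartan 3) w (sr (e i))) := by
      rw [hE, ← rep_reindex (cs := C.cs) (h := C.h) (cs' := cs') (h' := Nodes.TypeC.isCartan 3) hA hs, sr_reindex]
    rw [h1, h2, ip_rep, hl, Nodes.TypeC.ee_sr, ip_bt, Cf_bt_self]
    unfold cc
    split_ifs with h0
    · exact ⟨fun _ => by norm_num, fun _ => h0⟩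
    · exact ⟨fun h3 => absurd h3 h0, fun h3 => by norm_num at h3⟩
  · obtain ⟨x, -, hx⟩ := Nodes.TypeC.rt_of_ok (cs := cs') hab
    exact ⟨x ∘ e, by rw [hE, comp_symm, hx]⟩

/-! ### Signed indices -/

set_option synthInstance.maxHeartbeats 200000 in
set_option synthInstance.maxSize 1000 in
theorem tab_frame : ∀ a a' c c' k : Fin 3 × Bool, a.1 ≠ a'.1 → c.1 ≠ c'.1 →
    ip (wt a + wt a') (wt c + wt c') = 0 → (wt a + wt a') k.1 = 0 → (wt c + wt c') k.1 = 0 →
    a.1 ≠ k.1 ∧ a'.1 ≠ k.1 ∧ (wt c + wt c' = wt a - wt a' ∨ wt c + wt c' = wt a' - wt a) := by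
  decide +kernel

/-- the frame `a₁, a₂, a₃` -/
structure Fr (a₁ a₂ a₃ : Fin 3 × Bool) : Prop where
  ne₁₂ : a₁.1 ≠ a₂.1
  ne₁₃ : a₁.1 ≠ a₃.1
  ne₂₃ : a₂.1 ≠ a₃.1

/-- `v ↦ v₁ a₁ + v₂ a₂ + v₃ a₃` -/
def sg (a₁ a₂ a₃ : Fin 3 × Bool) (v : V) : Fin 3 → ℤ := v.1 • wt a₁ + v.2.1 • wt a₂ + v.2.2 • wt a₃

section Fr

variable {a₁ a₂ a₃ : Fin 3 × Bool}

theorem sg_add (u v : V) : sg a₁ a₂ a₃ (u + v) = sg a₁ a₂ a₃ u + sg a₁ a₂ a₃ v := by
  simp only [sg, Prod.fst_add, Prod.snd_add]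
  module

theorem sg_smul (m : ℤ) (v : V) : sg a₁ a₂ a₃ (m • v) = m • sg a₁ a₂ a₃ v := by
  simp only [sg, Prod.smul_fst, Prod.smul_snd, smul_eq_mul]
  module

theorem sg_neg (v : V) : sg a₁ a₂ a₃ (-v) = -sg a₁ a₂ a₃ v := by
  simp only [sg, Prod.fst_neg, Prod.snd_neg]
  module

theorem sg_sub (u v : V) : sg a₁ a₂ a₃ (u - v) = sg a₁ a₂ a₃ u - sg a₁ a₂ a₃ v := by
  rw [sub_eq_add_neg, sg_add, sg_neg, sub_eq_add_neg]

variable (hF : Fr a₁ a₂ a₃)

include hF

theorem ip_sg (u v : V) : ip (sg a₁ a₂ a₃ u) (sg a₁ a₂ a₃ v) = dot u v := by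
  have h12 := ip_wt_ne hF.ne₁₂
  have h13 := ip_wt_ne hF.ne₁₃
  have h23 := ip_wt_ne hF.ne₂₃
  have h21 := ip_wt_ne hF.ne₁₂.symm
  have h31 := ip_wt_ne hF.ne₁₃.symm
  have h32 := ip_wt_ne hF.ne₂₃.symm
  simp only [sg, dot, ip_add_left, ip_add_right, ip_smul_left, ip_smul_right, h12, h13, h23, h21, h31, h32,
    ip_wt_self]
  ring

theorem sg_inj {u v : V} (e : sg a₁ a₂ a₃ u = sg a₁ a₂ a₃ v) : u = v := by
  have key : ∀ w, dot u w = dot v w := fun w => by rw [← ip_sg hF, ← ip_sg hF, e]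
  have h1 := key (1, 0, 0)
  have h2 := key (0, 1, 0)
  have h3 := key (0, 0, 1)
  simp only [dot] at h1 h2 h3
  ext
  · linarith
  · linarith
  · linarith

/-- every signed index is `± a_i` -/
theorem exists_short (s : Fin 3 × Bool) : ∃ v, v ∈ shortL ∧ sg a₁ a₂ a₃ v = wt s := by
  have key : ∀ b₁ b₂ b₃ t : Fin 3 × Bool, b₁.1 ≠ b₂.1 → b₁.1 ≠ b₃.1 → b₂.1 ≠ b₃.1 →
      t = b₁ ∨ t = ng b₁ ∨ t = b₂ ∨ t = ng b₂ ∨ t = b₃ ∨ t = ng b₃ := by decide
  rcases key a₁ a₂ a₃ s hF.ne₁₂ hF.ne₁₃ hF.ne₂₃ with rfl | rfl | rfl | rfl | rfl | rfl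
  · exact ⟨(1, 0, 0), by decide, by simp only [sg]; module⟩
  · exact ⟨(-1, 0, 0), by decide, by simp only [sg, wt_ng]; module⟩
  · exact ⟨(0, 1, 0), by decide, by simp only [sg]; module⟩
  · exact ⟨(0, -1, 0), by decide, by simp only [sg, wt_ng]; module⟩
  · exact ⟨(0, 0, 1), by decide, by simp only [sg]; module⟩
  · exact ⟨(0, 0, -1), by decide, by simp only [sg, wt_ng]; module⟩

/-- the roots in coordinates -/
theorem exists_ok {v : V} (hv : IsR v) : ∃ s t, Ok s t ∧ la v • sg a₁ a₂ a₃ v = wt s + wt t := by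
  have o1 : ∀ s : Fin 3 × Bool, Ok s s := fun s => Or.inr rfl
  have h12 := hF.ne₁₂
  have h13 := hF.ne₁₃
  have h23 := hF.ne₂₃
  rcases hv with hv | hv
  · simp only [IsS, shortL, List.mem_cons, List.not_mem_nil, or_false] at hv
    rcases hv with rfl | rfl | rfl | rfl | rfl | rfl
    · exact ⟨a₁, a₁, o1 _, by simp only [sg, show la (1, 0, 0) = 2 by decide]; module⟩
    · exact ⟨ng a₁, ng a₁, o1 _, by simp only [sg, show la (-1, 0, 0) = 2 by decide, wt_ng]; module⟩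
    · exact ⟨a₂, a₂, o1 _, by simp only [sg, show la (0, 1, 0) = 2 by decide]; module⟩
    · exact ⟨ng a₂, ng a₂, o1 _, by simp only [sg, show la (0, -1, 0) = 2 by decide, wt_ng]; module⟩
    · exact ⟨a₃, a₃, o1 _, by simp only [sg, show la (0, 0, 1) = 2 by decide]; module⟩
    · exact ⟨ng a₃, ng a₃, o1 _, by simp only [sg, show la (0, 0, -1) = 2 by decide, wt_ng]; module⟩
  · simp only [IsL, longL, List.mem_cons, List.not_mem_nil, or_false] at hv
    rcases hv with rfl | rfl | rfl | rfl | rfl | rfl | rfl | rfl | rfl | rfl | rfl | rfl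
    · exact ⟨a₁, a₂, Or.inl h12, by simp only [sg, show la (1, 1, 0) = 1 by decide]; module⟩
    · exact ⟨a₁, ng a₂, Or.inl h12, by simp only [sg, show la (1, -1, 0) = 1 by decide, wt_ng]; module⟩
    · exact ⟨ng a₁, a₂, Or.inl h12, by simp only [sg, show la (-1, 1, 0) = 1 by decide, wt_ng]; module⟩
    · exact ⟨ng a₁, ng a₂, Or.inl h12, by simp only [sg, show la (-1, -1, 0) = 1 by decide, wt_ng]; module⟩
    · exact ⟨a₁, a₃, Or.inl h13, by simp only [sg, show la (1, 0, 1) = 1 by decide]; module⟩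
    · exact ⟨a₁, ng a₃, Or.inl h13, by simp only [sg, show la (1, 0, -1) = 1 by decide, wt_ng]; module⟩
    · exact ⟨ng a₁, a₃, Or.inl h13, by simp only [sg, show la (-1, 0, 1) = 1 by decide, wt_ng]; module⟩
    · exact ⟨ng a₁, ng a₃, Or.inl h13, by simp only [sg, show la (-1, 0, -1) = 1 by decide, wt_ng]; module⟩
    · exact ⟨a₂, a₃, Or.inl h23, by simp only [sg, show la (0, 1, 1) = 1 by decide]; module⟩
    · exact ⟨a₂, ng a₃, Or.inl h23, by simp only [sg, show la (0, 1, -1) = 1 by decide, wt_ng]; module⟩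
    · exact ⟨ng a₂, a₃, Or.inl h23, by simp only [sg, show la (0, -1, 1) = 1 by decide, wt_ng]; module⟩
    · exact ⟨ng a₂, ng a₃, Or.inl h23, by simp only [sg, show la (0, -1, -1) = 1 by decide, wt_ng]; module⟩

end Fr

/-! ### Coordinates of the roots of `C` -/

/-- `P v` is the root of `C` with the coordinates `v` -/
structure Co (C : Chart Om p (⊤ : Subgroup N)) (P : V → (C.I → ℤ)) : Prop where
  root : ∀ v, IsR v → IsRoot C.cs C.h (P v)
  surj : ∀ y, IsRoot C.cs C.h y → ∃ v, IsR v ∧ P v = y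
  mem : ∀ v, IsR v → (P v ∈ C.R ↔ IsL v)
  neg : ∀ v, IsR v → P (-v) = -P v
  cpr : ∀ u v, IsR u → IsR v → Nodes.Coroot.cpr C.cs C.h (P u) (P v) = la u * dot u v
  refl : ∀ u v, IsR u → IsR v → P u - Nodes.Coroot.cpr C.cs C.h (P u) (P v) • P v = P (refl v u)
  btwn : ∀ u v w, IsR u → IsR v → IsR w → u ≠ v → u ≠ -v → Btwn C.cs C.h (P u) (P v) (P w) → Bet u v w
  two : ∀ u v, IsS u → IsS v → IsR (u + v) → (2 : ℤ) • P (u + v) = P u + P v

theorem co_of (C : Chart Om p (⊤ : Subgroup N)) {E : (C.I → ℤ) →+ (Fin 3 → ℤ)} (hE : Eps C E)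
    {a₁ a₂ a₃ : Fin 3 × Bool} (hF : Fr a₁ a₂ a₃) {P : V → (C.I → ℤ)}
    (hP : ∀ v, IsR v → E (P v) = la v • sg a₁ a₂ a₃ v) : Co C P := by
  have hroot : ∀ v, IsR v → IsRoot C.cs C.h (P v) := fun v hv => by
    obtain ⟨s, t, hst, e⟩ := exists_ok hF hv
    exact (hE.root _).2 ⟨s, t, hst, by rw [hP v hv, e]⟩
  have hcpr : ∀ u v, IsR u → IsR v → Nodes.Coroot.cpr C.cs C.h (P u) (P v) = la u * dot u v := by
    intro u v hu hv
    have h1 := hE.cpr (P u) (P v) (hroot v hv)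
    rw [hP u hu, hP v hv, ip_smul_left, ip_smul_right, ip_smul_left, ip_smul_right, ip_sg hF, ip_sg hF] at h1
    have h2 := tab_la v (mem_rootsL.2 hv)
    have h3 : 0 < la v := by unfold la; split_ifs <;> norm_num
    rw [h2] at h1
    have h4 : la v * Nodes.Coroot.cpr C.cs C.h (P u) (P v) = la v * (la u * dot u v) := by linarith
    exact mul_left_cancel₀ h3.ne' h4
  refine ⟨hroot, ?_, ?_, ?_, hcpr, ?_, ?_, ?_⟩
  · intro y hy
    obtain ⟨s, t, hst, e⟩ := (hE.root y).1 hy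
    obtain ⟨u, hu, eu⟩ := exists_short hF s
    obtain ⟨v, hv, ev⟩ := exists_short hF t
    have : ∃ w, IsR w ∧ la w • sg a₁ a₂ a₃ w = wt s + wt t := by
      rcases hst with hst | rfl
      · have h1 : dot u v = 0 := by rw [← ip_sg hF, eu, ev]; exact ip_wt_ne hst
        have h2 := tab_orth u hu v hv h1
        refine ⟨u + v, Or.inr h2, ?_⟩
        rw [(tab_L _ h2).2.1, one_smul, sg_add, eu, ev]
      · refine ⟨u, Or.inl hu, ?_⟩
        rw [(tab_S _ hu).2.1, eu]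
        module
    obtain ⟨w, hw, ew⟩ := this
    exact ⟨w, hw, hE.inj (by rw [hP w hw, ew, e])⟩
  · intro v hv
    rw [hE.mem _ (hroot v hv), hP v hv, ip_smul_left, ip_smul_right, ip_sg hF, tab_la v (mem_rootsL.2 hv)]
    rcases hv with hv | hv
    · have h1 := tab_S v hv
      rw [h1.2.1]
      exact ⟨fun h0 => by norm_num at h0, fun h0 => absurd h0 h1.1⟩
    · have h1 := tab_L v hv
      rw [h1.2.1]
      exact ⟨fun _ => hv, fun _ => by norm_num⟩
  · intro v hv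
    have h1 := tab_neg v (mem_rootsL.2 hv)
    apply hE.inj
    rw [hP _ h1.1, map_neg, hP v hv, h1.2.1, sg_neg, smul_neg]
  · intro u v hu hv
    have h1 := tab_refl u (mem_rootsL.2 hu) v (mem_rootsL.2 hv)
    have h3 : refl v u = u - pr u v • v := rfl
    apply hE.inj
    rw [hP _ h1.1, h1.2, map_sub, map_zsmul, hP u hu, hP v hv, hcpr u v hu hv, smul_smul, h3, sg_sub, sg_smul,
      smul_sub, smul_smul]
    have h2 : pr u v = la v * dot u v := by unfold NI3.Sol.pr la; split_ifs <;> ring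
    rw [h2]
    congr 2
    ring
  · intro u v w hu hv hw hne hne' hb
    obtain ⟨-, m, a, b, hm, ha, hb, e⟩ := hb
    have h0 : ∀ v, 0 < la v := fun v => by unfold la; split_ifs <;> norm_num
    refine bet_of (mul_pos hm (h0 w)) (mul_pos ha (h0 u)) (mul_pos hb (h0 v)) ?_
      (cr_pos u (mem_rootsL.2 hu) v (mem_rootsL.2 hv) hne hne')
    apply sg_inj hF
    rw [sg_add, sg_smul, sg_smul, sg_smul, mul_smul, mul_smul, mul_smul, ← hP w hw, ← hP u hu, ← hP v hv,
      ← map_zsmul, ← map_zsmul, ← map_zsmul, ← map_add, e]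
  · intro u v hu hv huv
    have h1 := tab_short u hu v hv huv
    apply hE.inj
    rw [map_zsmul, map_add, hP _ huv, hP u (Or.inl hu), hP v (Or.inl hv), (tab_S u hu).2.1, (tab_S v hv).2.1,
      (tab_L _ h1.2.1).2.1, one_smul, sg_add]
    module

/-- **The coordinates of the roots of a `B₃`-chart.** -/
theorem exists_co {C : Chart Om p (⊤ : Subgroup N)} {F : Type} [Field F] [Fintype F] {c d : N}
    {A B A' : Subgroup N} {r r' b : C.I → ℤ} (H : PosB3 C F c d A B A' r r' b) :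
    ∃ P, Co C P ∧ P (1, 1, 0) = r ∧ P (1, -1, 0) = r' ∧ P (0, 0, 1) = b := by
  classical
  obtain ⟨E, hE⟩ := exists_eps C H.ty
  have hr := C.cls.root r H.r_mem
  have hr' := C.cls.root r' H.r'_mem
  have orth : ∀ x y, IsRoot C.cs C.h y → form C.cs C.h x y = 0 → ip (E x) (E y) = 0 := by
    intro x y hy h0
    have h1 := hE.cpr x y hy
    rw [(cpr_zero_iff C.cs C.h x hy).2 h0, zero_mul] at h1
    omega
  have shape : ∀ x, IsRoot C.cs C.h x → x ∈ C.R → ∃ s t : Fin 3 × Bool, s.1 ≠ t.1 ∧ E x = wt s + wt t := by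
    intro x hx hR
    obtain ⟨s, t, hst, e⟩ := (hE.root x).1 hx
    rcases hst with hst | rfl
    · exact ⟨s, t, hst, e⟩
    · exfalso
      have h1 := (hE.mem x hx).1 hR
      rw [e, ip_add_left, ip_add_right, ip_wt_self] at h1
      norm_num at h1
  obtain ⟨s, s', hs, es⟩ := shape r hr H.r_mem
  obtain ⟨t, t', ht, et⟩ := shape r' hr' H.r'_mem
  obtain ⟨k, ek⟩ : ∃ k, E b = wt k + wt k := by
    obtain ⟨k, k', hk, e⟩ := (hE.root b).1 H.b_root
    rcases hk with hk | rfl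
    · exfalso
      apply H.b_not
      rw [hE.mem b H.b_root, e, ip_add_left, ip_add_right, ip_add_right, ip_wt_self, ip_wt_self, ip_wt_ne hk,
        ip_wt_ne hk.symm]
      norm_num
    · exact ⟨k, e⟩
  have hval : ∀ u : Fin 3 → ℤ, ip (wt k + wt k) u = 0 → u k.1 = 0 := by
    intro u hu
    rw [ip_comm, ip_add_right, ip_wt_right] at hu
    have h1 : u k.1 * sn k = 0 := by omega
    rcases mul_eq_zero.1 h1 with h2 | h2
    · exact h2
    · exfalso
      have := sn_mul_self k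
      rw [h2] at this
      norm_num at this
  obtain ⟨h1, h2, h3⟩ := tab_frame s s' t t' k hs ht
    (by rw [← es, ← et]; exact orth r r' hr' H.rr')
    (by rw [← es]; exact hval _ (by rw [← ek]; exact orth b r hr H.br))
    (by rw [← et]; exact hval _ (by rw [← ek]; exact orth b r' hr' H.br'))
  obtain ⟨a₁, a₂, hF, e1, e2⟩ : ∃ a₁ a₂, Fr a₁ a₂ k ∧ E r = wt a₁ + wt a₂ ∧ E r' = wt a₁ - wt a₂ := by
    rcases h3 with h3 | h3
    · exact ⟨s, s', ⟨hs, h1, h2⟩, es, by rw [et, h3]⟩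
    · exact ⟨s', s, ⟨hs.symm, h2, h1⟩, by rw [es, add_comm], by rw [et, h3]⟩
  have hex : ∀ v, IsR v → ∃ x, E x = la v • sg a₁ a₂ k v := by
    intro v hv
    obtain ⟨s, t, hst, e⟩ := exists_ok hF hv
    rw [e]
    exact hE.ex s t hst
  refine ⟨fun v => if h : IsR v then Classical.choose (hex v h) else 0, co_of C hE hF fun v hv => ?_, ?_, ?_, ?_⟩
  · simp only [dif_pos hv]
    exact Classical.choose_spec (hex v hv)
  · have hv : IsR (1, 1, 0) := by decide
    simp only [dif_pos hv]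
    apply hE.inj
    rw [Classical.choose_spec (hex _ hv), e1]
    simp only [sg, show la (1, 1, 0) = 1 by decide]
    module
  · have hv : IsR (1, -1, 0) := by decide
    simp only [dif_pos hv]
    apply hE.inj
    rw [Classical.choose_spec (hex _ hv), e2]
    simp only [sg, show la (1, -1, 0) = 1 by decide]
    module
  · have hv : IsR (0, 0, 1) := by decide
    simp only [dif_pos hv]
    apply hE.inj
    rw [Classical.choose_spec (hex _ hv), ek]
    simp only [sg, show la (0, 0, 1) = 2 by decide]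
    module

end Cfsg.Agent.OddHalf.NI.FTwo.FactsCo

end

-- merged: Cfsg.Agent.OddHalf.NI.FTwo.Facts
section

/-!
# NI (F2'), facts: `PosB3` gives the structure `B3` of `NI3/Sol/Defs.lean`

`b3_of_pos` : the root groups `X v := C.X (P v)` and the involutions `z v` (`v` long: `C.z (P v)`, `v` short: `c`)
satisfy (c1), (c2), (z), (n) and the normalisation by the rank one tori; `exists_b3` : in the position `(c, d, A, B, A')`.
-/

set_option autoImplicit false
set_option linter.dupNamespace false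

namespace Cfsg.Agent.OddHalf.NI.FTwo.Facts

open Cfsg
open CoxeterSystem Cfsg.Agent.ChevalleyStructure.CoxeterGeom Cfsg.Agent.Tits.Roots Cfsg.Agent.Tits.Core
  Cfsg.Agent.Tits.RootComb Cfsg.Agent.Nodes.Comb Cfsg.Agent.Nodes.Reps Cfsg.Agent.Nodes.BNOf
  Cfsg.Agent.Nodes.RGDLib Cfsg.Agent.Nodes.Chart Cfsg.Agent.Nodes.Coroot Cfsg.Agent.Nodes.FreeTorus
  Cfsg.Agent.Nodes.Perp Cfsg.Agent.Nodes.ZRel
open Cfsg.Agent.OddHalf.NI3.Sol (V IsR IsS IsL dot shortL longL pr refl)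
open FactsV FactsCo
open scoped commutatorElement

variable {N : Type*} [Group N] {Om : Set (Subgroup N)} {p : ℕ}

/-! ### Tables -/

theorem tab_inj : ∀ u ∈ rootsL, ∀ v ∈ rootsL, la u * dot u v = 2 → la v * dot v u = 2 → u = v := by decide +kernel

theorem tab_ex : ∀ v ∈ longL, ∃ u ∈ shortL, dot u v = 1 := by decide +kernel

/-! ### Involutions of `SL₂(F)` -/

section SL

variable {K : Type*} [Field K]

/-- involutions of `SL₂(K)` -/
theorem eq_one_or_neg_one (h2 : (2 : K) ≠ 0) {g : Matrix.SpecialLinearGroup (Fin 2) K} (hg : g * g = 1) :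
    g = 1 ∨ g = -1 := by
  have hinv : g⁻¹ = g := inv_eq_of_mul_eq_one_left hg
  have h3 := congrArg (fun k : Matrix.SpecialLinearGroup (Fin 2) K => (k : Matrix (Fin 2) (Fin 2) K)) hinv
  simp only [Matrix.SpecialLinearGroup.coe_inv, Matrix.adjugate_fin_two] at h3
  have h00 : g.1 1 1 = g.1 0 0 := by simpa using congrFun (congrFun h3 0) 0
  have h01 : -g.1 0 1 = g.1 0 1 := by simpa using congrFun (congrFun h3 0) 1
  have h10 : -g.1 1 0 = g.1 1 0 := by simpa using congrFun (congrFun h3 1) 0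
  have hz : ∀ x : K, -x = x → x = 0 := by
    intro x hx
    have : (2 : K) * x = 0 := by linear_combination -hx
    exact (mul_eq_zero.1 this).resolve_left h2
  have h01' := hz _ h01
  have h10' := hz _ h10
  have hdet : g.1 0 0 * g.1 1 1 - g.1 0 1 * g.1 1 0 = 1 := by
    have := g.2
    rwa [Matrix.det_fin_two] at this
  rw [h00, h01', zero_mul, sub_zero] at hdet
  have h4 : (g.1 0 0 - 1) * (g.1 0 0 + 1) = 0 := by linear_combination hdet
  rcases mul_eq_zero.1 h4 with h5 | h5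
  · left
    have h6 : g.1 0 0 = 1 := sub_eq_zero.1 h5
    apply Subtype.ext
    ext i j
    fin_cases i <;> fin_cases j
    · simpa using h6
    · simpa using h01'
    · simpa using h10'
    · simpa [h6] using h00
  · right
    have h6 : g.1 0 0 = -1 := eq_neg_of_add_eq_zero_left h5
    apply Subtype.ext
    ext i j
    fin_cases i <;> fin_cases j
    · simpa using h6
    · simpa using h01'
    · simpa using h10'
    · simpa [h6] using h00

end SL

theorem Co.inj {C : Chart Om p (⊤ : Subgroup N)} {P : V → (C.I → ℤ)} (Q : Co C P) {u v : V} (hu : IsR u)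
    (hv : IsR v) (e : P u = P v) : u = v := by
  apply tab_inj u (mem_rootsL.2 hu) v (mem_rootsL.2 hv)
  · rw [← Q.cpr u v hu hv, e, cpr_self C.cs C.h (Q.root v hv)]
  · rw [← Q.cpr v u hv hu, e, cpr_self C.cs C.h (Q.root v hv)]

theorem Co.ne_neg {C : Chart Om p (⊤ : Subgroup N)} {P : V → (C.I → ℤ)} (Q : Co C P) {u v : V} (hu : IsR u)
    (hv : IsR v) (hne : u ≠ -v) : P u ≠ -P v := by
  intro e
  apply hne
  have h1 := (tab_neg v (mem_rootsL.2 hv)).1
  exact Co.inj Q hu h1 (by rw [e, Q.neg v hv])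

section Main

variable {C : Chart Om p (⊤ : Subgroup N)} {F : Type} [Field F] [Fintype F] {c d : N} {A B A' : Subgroup N}
  {r r' b : C.I → ℤ} (H : PosB3 C F c d A B A' r r' b) {P : V → (C.I → ℤ)} (Q : Co C P)

include Q

theorem form_iff {u v : V} (hu : IsR u) (hv : IsR v) : form C.cs C.h (P u) (P v) = 0 ↔ dot u v = 0 := by
  rw [← cpr_zero_iff C.cs C.h _ (Q.root v hv), Q.cpr u v hu hv]
  have h3 : 0 < la u := by unfold la; split_ifs <;> norm_num
  constructor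
  · exact fun h0 => (mul_eq_zero.1 h0).resolve_left h3.ne'
  · intro h0; rw [h0, mul_zero]

theorem exists_ne {v : V} (hv : IsR v) : ∃ a ∈ C.X (P v), a ≠ 1 := by
  by_contra h0
  push Not at h0
  exact Nodes.StdConn.X_ne_bot C.cls (Q.root v hv) ((Subgroup.eq_bot_iff_forall _).2 h0)

/-- no root in the open cone -/
theorem not_btwn {u v : V} (hu : IsR u) (hv : IsR v) (hne : u ≠ v) (hne' : u ≠ -v)
    (h : ∀ w ∈ rootsL, ¬ Bet u v w) (z : C.I → ℤ) : ¬ Btwn C.cs C.h (P u) (P v) z := by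
  intro hz
  obtain ⟨w, hw, rfl⟩ := Q.surj z hz.1
  exact h w (mem_rootsL.2 hw) (Q.btwn u v w hu hv hw hne hne' hz)

theorem btw_le {u v : V} (hu : IsR u) (hv : IsR v) (hne : u ≠ v) (hne' : u ≠ -v) {K : Subgroup N}
    (h : ∀ w, IsR w → Bet u v w → C.X (P w) ≤ K) : btw C.cs C.h C.X (P u) (P v) ≤ K := by
  refine Nodes.ShortSum.btw_le fun z hz => ?_
  obtain ⟨w, hw, rfl⟩ := Q.surj z hz.1
  exact h w hw (Q.btwn u v w hu hv hw hne hne' hz)

theorem comm_mem {u v : V} (hu : IsR u) (hv : IsR v) (hne : u ≠ v) (hne' : u ≠ -v) {K : Subgroup N}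
    (h : ∀ w, IsR w → Bet u v w → C.X (P w) ≤ K) {a b : N} (ha : a ∈ C.X (P u)) (hb : b ∈ C.X (P v)) :
    ⁅a, b⁆ ∈ K :=
  btw_le Q hu hv hne hne' h (C.cls.rgd.comm (P u) (P v) (Q.root u hu) (Q.root v hv)
    (fun e => hne (Co.inj Q hu hv e)) (Co.ne_neg Q hu hv hne') a ha b hb)

theorem X_eq_Z' (H : PosB3 C F c d A B A' r r' b) {v : V} (hv : IsL v) : C.X (P v) = C.Z (P v) :=
  (H.zx _ ((Q.mem v (Or.inr hv)).2 hv)).symm

/-- (c1) -/
theorem comm (H : PosB3 C F c d A B A' r r' b) {u v : V} (hu : IsR u) (hv : IsR v) (h1 : ¬ IsR (u + v))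
    (h2 : u + v ≠ 0) {x y : N} (hx : x ∈ C.X (P u)) (hy : y ∈ C.X (P v)) : x * y = y * x := by
  rcases tab_comm u (mem_rootsL.2 hu) v (mem_rootsL.2 hv) h1 h2 with rfl | ⟨h3, h4, h5⟩ | ⟨h3, h4, h5⟩
  · exact H.comm _ (Q.root _ hu) x hx y hy
  · rw [X_eq_Z' Q H h4] at hy
    exact X_cm_Z C.cls ((Q.mem v hv).2 h4) (Q.root u hu) ((form_iff Q hu hv).2 h5).ge x hx y hy
  · have h6 := Nodes.PairOf.comm_of_no_btwn C.cls.rgd (Q.root u hu) (Q.root v hv) (fun e => h3 (Co.inj Q hu hv e))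
      (Co.ne_neg Q hu hv h4) (not_btwn Q hu hv h3 h4 h5) x hx y hy
    rwa [commutatorElement_eq_one_iff_mul_comm] at h6

/-! ### The involutions -/

theorem z_even {v u : V} (H : PosB3 C F c d A B A' r r' b) (hv : IsL v) (hu : IsR u)
    (h0 : dot u v = 0 ∨ u = v ∨ u = -v) {x : N} (hx : x ∈ C.X (P u)) : C.z (P v) * x = x * C.z (P v) := by
  have hR := (Q.mem v (Or.inr hv)).2 hv
  rcases h0 with h0 | rfl | rfl
  · exact (z_cent_of_orth C.cls hR (Q.root u hu) ((form_iff Q hu (Or.inr hv)).2 h0) hx).symm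
  · exact C.cls.z_cent _ hR x (H.zx _ hR ▸ hx)
  · rw [Q.neg v (Or.inr hv)] at hx
    have hR' := neg_mem C.cls hR
    rw [← C.cls.z_neg _ hR]
    exact C.cls.z_cent _ hR' x (H.zx _ hR' ▸ hx)

theorem z_odd {v u : V} (hv : IsL v) (hu : IsR u) (h0 : dot u v = 1 ∨ dot u v = -1) {x : N}
    (hx : x ∈ C.X (P u)) : C.z (P v) * x * C.z (P v) = x⁻¹ := by
  have hR := (Q.mem v (Or.inr hv)).2 hv
  have hvR : IsR v := Or.inr hv
  have hvv : dot v v = 2 := (tab_L v hv).2.2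
  refine C.cls.z_inv _ hR (P u) (Q.root u hu) ?_ ?_ ?_ x hx
  · intro e
    have := Co.inj Q hu hvR e
    subst this
    omega
  · refine Co.ne_neg Q hu hvR ?_
    rintro rfl
    have : dot (-v) v = -dot v v := by simp only [dot, Prod.fst_neg, Prod.snd_neg]; ring
    omega
  · rw [Ne, form_iff Q hu hvR]
    omega

theorem z_sq {v : V} (hv : IsL v) : C.z (P v) * C.z (P v) = 1 := C.cls.z_sq _ ((Q.mem v (Or.inr hv)).2 hv)

theorem z_ne_one {v : V} (hv : IsL v) : C.z (P v) ≠ 1 := by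
  intro h0
  obtain ⟨u, hu, huv⟩ := tab_ex v hv
  have huR : IsR u := Or.inl hu
  obtain ⟨x, hx, hx1⟩ := exists_ne Q huR
  have h1 := z_odd Q hv huR (Or.inl huv) hx
  rw [h0, one_mul, mul_one] at h1
  exact hx1 (eq_one_of_inv C.cls C.prime C.odd (Q.root u huR) hx h1)

omit Q in
theorem two_ne (H : PosB3 C F c d A B A' r r' b) : (2 : F) ≠ 0 := by
  intro h0
  have h1 := H.odd
  have h2 : ringChar F = 2 := by
    apply CharP.ringChar_of_prime_eq_zero Nat.prime_two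
    exact_mod_cast h0
  rw [Nat.odd_iff] at h1
  have h3 := (FiniteField.even_card_iff_char_two (F := F)).1 h2
  omega

theorem uniq (H : PosB3 C F c d A B A' r r' b) : Uniq C.R C.Z C.z := by
  intro s hs x hx h1 h2
  have hK : KK C.Z s = LL C.X s := by
    unfold KK LL
    rw [H.zx s hs, H.zx _ (neg_mem C.cls hs)]
  obtain ⟨e⟩ := H.sl s (C.cls.root s hs)
  have hz := C.cls.z_mem s hs
  change C.z s ∈ KK C.Z s at hz
  rw [hK] at hx hz
  have hz1 : C.z s ≠ 1 := by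
    obtain ⟨v, hv, rfl⟩ := Q.surj s (C.cls.root s hs)
    exact z_ne_one Q ((Q.mem v hv).1 hs)
  have key : ∀ y : ↥(LL C.X s), (y : N) * y = 1 → (y : N) ≠ 1 → e y = -1 := by
    intro y hy hy1
    have h3 : e y * e y = 1 := by
      rw [← map_mul, show y * y = 1 from Subtype.ext hy, map_one]
    rcases eq_one_or_neg_one (two_ne H) h3 with h4 | h4
    · exfalso
      apply hy1
      rw [e.map_eq_one_iff] at h4
      rw [h4]; rfl
    · exact h4
  have h3 := key ⟨x, hx⟩ h1 h2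
  have h4 := key ⟨_, hz⟩ (C.cls.z_sq s hs) hz1
  exact congrArg Subtype.val (e.injective (h3.trans h4.symm))

/-! ### Sums of roots -/

open Classical in
/-- the root group of `u + 2 v` -/
noncomputable def K2 (C : Chart Om p (⊤ : Subgroup N)) (P : V → (C.I → ℤ)) (u v : V) : Subgroup N :=
  if IsR (u + v + v) then C.X (P (u + v + v)) else ⊥

omit Q in
theorem mem_K2 {u v : V} {k : N} (hk : k ∈ K2 C P u v) : k = 1 ∨ (IsR (u + v + v) ∧ k ∈ C.X (P (u + v + v))) := by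
  unfold K2 at hk
  split_ifs at hk with h0
  · exact Or.inr ⟨h0, hk⟩
  · exact Or.inl (Subgroup.mem_bot.1 hk)

omit Q in
theorem le_K2 {u v : V} (h : IsR (u + v + v)) : C.X (P (u + v + v)) ≤ K2 C P u v := by
  unfold K2
  rw [if_pos h]

/-- every element of `X (u + v)` is a commutator modulo `X (u + 2v)`, `u` long -/
theorem key (H : PosB3 C F c d A B A' r r' b) {u v : V} (hu : IsL u) (hv : IsR v) (huv : IsR (u + v)) {g : N}
    (hg : g ∈ C.X (P (u + v))) : ∃ b' ∈ C.X (P u), ∃ h ∈ C.X (P v), ∃ k ∈ K2 C P u v, ⁅b', h⁆ = g * k := by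
  obtain ⟨t1, t2, t3, t4, t5, t6, t7, t8, t9, t10, t11, t12, t13, t14⟩ := tab_long u hu v (mem_rootsL.2 hv) huv
  have huR : IsR u := Or.inr hu
  have hnu : IsR (-u) := (tab_neg u (mem_rootsL.2 huR)).1
  -- `K2` is central
  have kc1 : ∀ k ∈ K2 C P u v, ∀ y ∈ C.X (P v), k * y = y * k := by
    intro k hk y hy
    rcases mem_K2 hk with rfl | ⟨h0, hk⟩
    · rw [one_mul, mul_one]
    · have h1 := tab_long2 u hu v (mem_rootsL.2 hv) huv h0
      exact comm Q H h0 hv h1.2.2.2.1 h1.2.2.2.2.1 hk hy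
  have kc2 : ∀ k ∈ K2 C P u v, ∀ y ∈ C.X (P (u + v)), k * y = y * k := by
    intro k hk y hy
    rcases mem_K2 hk with rfl | ⟨h0, hk⟩
    · rw [one_mul, mul_one]
    · have h1 := tab_long2 u hu v (mem_rootsL.2 hv) huv h0
      exact comm Q H h0 huv h1.2.2.2.2.2.1 h1.2.2.2.2.2.2 hk hy
  -- the reflection
  obtain ⟨b', hb', hb'1⟩ := exists_ne Q huR
  have hx := Q.root u huR
  obtain ⟨a', ha', c', hc', w, hw, ew⟩ := exists_refl_LL C.cls.rgd hx.neg (b := b') (by rw [neg_neg]; exact hb') hb'1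
  have ewv : rep C.cs C.h w (P v) = P (u + v) := by
    rw [ew, cpr_neg_right C.cs C.h _ hx, neg_smul, smul_neg, neg_neg, Q.refl v u hv huR, t6]
  rw [← Q.neg u huR] at ha' hc'
  set n := a' * b' * c' with hn
  have hh : n⁻¹ * g * n ∈ C.X (P v) := by
    have h0 := C.cls.rgd.conj_mem' hw (Q.root _ huv) hg
    rwa [← ewv, rep_inv_apply] at h0
  set h := n⁻¹ * g * n with hhd
  have e1 : a'⁻¹ * g * a' = b' * h * b'⁻¹ := by
    have h2 : c' * h = h * c' := comm Q H hnu hv t4 t5 hc' hh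
    have h3 : c' * h * c'⁻¹ = h := by rw [h2, mul_inv_cancel_right]
    calc a'⁻¹ * g * a' = a'⁻¹ * (n * h * n⁻¹) * a' := by rw [hhd]; group
      _ = b' * (c' * h * c'⁻¹) * b'⁻¹ := by rw [hn]; group
      _ = _ := by rw [h3]
  -- the two commutators
  obtain ⟨x1, hx1, x2, hx2, e2⟩ : ∃ x1 ∈ C.X (P (u + v)), ∃ x2 ∈ K2 C P u v, ⁅b', h⁆ = x1 * x2 := by
    refine Nodes.ShortSum.mem_sup_of_cm (fun a ha k hk => (kc2 k hk a ha).symm) ?_
    refine comm_mem Q huR hv t2 t3 (fun w hw hb => ?_) hb' hh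
    rcases t12 w (mem_rootsL.2 hw) hb with rfl | rfl
    · exact le_sup_left
    · exact (le_K2 hw).trans le_sup_right
  obtain ⟨y1, hy1, y2, hy2, e3⟩ : ∃ y1 ∈ C.X (P v), ∃ y2 ∈ K2 C P u v, ⁅a'⁻¹, g⁆ = y1 * y2 := by
    refine Nodes.ShortSum.mem_sup_of_cm (fun a ha k hk => (kc1 k hk a ha).symm) ?_
    refine comm_mem Q hnu huv t7 t8 (fun w hw hb => ?_) (inv_mem ha') hg
    rcases t13 w (mem_rootsL.2 hw) hb with rfl | rfl
    · exact le_sup_left
    · exact (le_K2 hw).trans le_sup_right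
  have hκ : ⁅h, g⁻¹⁆ ∈ K2 C P u v := by
    refine comm_mem Q hv huv t9 t10 (fun w hw hb => ?_) hh (inv_mem hg)
    have := t14 w (mem_rootsL.2 hw) hb
    subst this
    exact le_K2 hw
  set κ := ⁅h, g⁻¹⁆ with hκd
  have e4 : y1 * y2 * g = x1 * x2 * h := by
    rw [← e3, ← e2, commutatorElement_def, commutatorElement_def]
    calc a'⁻¹ * g * a'⁻¹⁻¹ * g⁻¹ * g = a'⁻¹ * g * a' := by group
      _ = b' * h * b'⁻¹ := e1
      _ = _ := by group
  -- `y1 h⁻¹ = x1 g⁻¹ (x2 κ y2⁻¹)`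
  have e5 : y1 * h⁻¹ = x1 * g⁻¹ * (x2 * κ * y2⁻¹) := by
    have f1 : g * h⁻¹ = h⁻¹ * g * κ⁻¹ := by rw [hκd, commutatorElement_def]; group
    have f2 : y2 * h⁻¹ = h⁻¹ * y2 := kc1 y2 hy2 _ (inv_mem hh)
    have f3 : y2 * g = g * y2 := kc2 y2 hy2 g hg
    have f4 : (x2 * κ * y2⁻¹) * g⁻¹ = g⁻¹ * (x2 * κ * y2⁻¹) :=
      kc2 _ (mul_mem (mul_mem hx2 hκ) (inv_mem hy2)) _ (inv_mem hg)
    have f5 : y1 * h⁻¹ * g * y2 * κ⁻¹ = x1 * x2 := by
      calc y1 * h⁻¹ * g * y2 * κ⁻¹ = y1 * h⁻¹ * (g * y2) * κ⁻¹ := by group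
        _ = y1 * (h⁻¹ * y2) * g * κ⁻¹ := by rw [← f3]; group
        _ = y1 * y2 * (h⁻¹ * g * κ⁻¹) := by rw [← f2]; group
        _ = (y1 * y2 * g) * h⁻¹ := by rw [← f1]; group
        _ = x1 * x2 := by rw [e4]; group
    calc y1 * h⁻¹ = (y1 * h⁻¹ * g * y2 * κ⁻¹) * κ * y2⁻¹ * g⁻¹ := by group
      _ = x1 * ((x2 * κ * y2⁻¹) * g⁻¹) := by rw [f5]; group
      _ = _ := by rw [f4]; group
  have hk : x2 * κ * y2⁻¹ ∈ K2 C P u v := mul_mem (mul_mem hx2 hκ) (inv_mem hy2)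
  have e6 : y1 * h⁻¹ = 1 := by
    have l0 : ∀ w, 0 < la w := fun w => by unfold la; split_ifs <;> norm_num
    have duv : dot v u = -1 := by rw [dot_comm]; exact t1
    have duu : dot u u = 2 := (tab_L u hu).2.2
    have huv2 : dot (u + v) u = 1 := by
      have : dot (u + v) u = dot u u + dot v u := by simp only [dot, Prod.fst_add, Prod.snd_add]; ring
      omega
    refine Nodes.Slope.sup_inf_sup' C.cls.rgd (-(ell C.cs C.h hx)) (ell C.cs C.h (Q.root _ huv))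
      (u := y1 * h⁻¹) ?_ ?_
    · refine RGD.le_Sup (X := C.X) (S := {x | IsRoot C.cs C.h x ∧ 0 < (-(ell C.cs C.h hx)) x})
        ⟨Q.root v hv, ?_⟩ (mul_mem hy1 (inv_mem hh))
      rw [AddMonoidHom.neg_apply, ell_apply, Q.cpr v u hv huR, duv]
      have := l0 v
      omega
    · rw [e5]
      refine mul_mem (RGD.le_Sup (X := C.X) (S := {x | IsRoot C.cs C.h x ∧ (-(ell C.cs C.h hx)) x ≤ 0 ∧
        0 < (ell C.cs C.h (Q.root _ huv)) x}) ⟨Q.root _ huv, ?_, ?_⟩ (mul_mem hx1 (inv_mem hg))) ?_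
      · rw [AddMonoidHom.neg_apply, ell_apply, Q.cpr _ u huv huR, huv2]
        have := l0 (u + v)
        omega
      · rw [ell_apply, Q.cpr _ _ huv huv]
        exact mul_pos (l0 _) t11
      · rcases mem_K2 hk with h0 | ⟨h0, h1⟩
        · rw [h0]; exact one_mem _
        · have h2 := tab_long2 u hu v (mem_rootsL.2 hv) huv h0
          refine RGD.le_Sup (X := C.X) (S := {x | IsRoot C.cs C.h x ∧ (-(ell C.cs C.h hx)) x ≤ 0 ∧
            0 < (ell C.cs C.h (Q.root _ huv)) x}) ⟨Q.root _ h0, ?_, ?_⟩ h1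
          · rw [AddMonoidHom.neg_apply, ell_apply, Q.cpr _ u h0 huR, h2.2.1, mul_zero, neg_zero]
          · rw [ell_apply, Q.cpr _ _ h0 huv]
            exact mul_pos (l0 _) h2.2.2.1
  refine ⟨b', hb', h, hh, (x2 * κ * y2⁻¹)⁻¹ * x2, mul_mem (inv_mem hk) hx2, ?_⟩
  rw [e6] at e5
  have e7 : x1 = g * (x2 * κ * y2⁻¹)⁻¹ := by
    have f4 : (x2 * κ * y2⁻¹) * g⁻¹ = g⁻¹ * (x2 * κ * y2⁻¹) := kc2 _ hk _ (inv_mem hg)
    rw [mul_assoc, ← f4, ← mul_assoc] at e5
    exact eq_mul_inv_of_mul_eq (mul_inv_eq_one.1 e5.symm)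
  rw [e2, e7, mul_assoc]

/-- `z u` centralises `K2` -/
theorem z_K2 (H : PosB3 C F c d A B A' r r' b) {u v : V} (hu : IsL u) (hv : IsR v) (huv : IsR (u + v)) {k : N}
    (hk : k ∈ K2 C P u v) : C.z (P u) * k = k * C.z (P u) := by
  rcases mem_K2 hk with rfl | ⟨h0, hk⟩
  · rw [one_mul, mul_one]
  · exact z_even Q H hu h0 (Or.inl (tab_long2 u hu v (mem_rootsL.2 hv) huv h0).2.1) hk

omit Q in
omit [Group N] in
theorem dot_uv {u v : V} (hu : IsL u) (hv : IsR v) (huv : IsR (u + v)) : dot v u = -1 ∧ dot (u + v) u = 1 := by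
  have h1 := (tab_long u hu v (mem_rootsL.2 hv) huv).1
  have duu : dot u u = 2 := (tab_L u hu).2.2
  have h2 : dot v u = -1 := by rw [dot_comm]; exact h1
  have : dot (u + v) u = dot u u + dot v u := by simp only [dot, Prod.fst_add, Prod.snd_add]; ring
  exact ⟨h2, by omega⟩

/-- (c2), `u` long -/
theorem gen_long (H : PosB3 C F c d A B A' r r' b) {u v : V} (hu : IsL u) (hv : IsR v) (huv : IsR (u + v)) :
    C.X (P (u + v)) ≤ C.X (P u) ⊔ C.X (P v) := by
  intro g hg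
  have huR : IsR u := Or.inr hu
  obtain ⟨b', hb', h, hh, k, hk, e⟩ := key Q H hu hv huv hg
  obtain ⟨d1, d2⟩ := dot_uv hu hv huv
  have hR := (Q.mem u huR).2 hu
  have zz := z_sq Q hu
  have zi : (C.z (P u))⁻¹ = C.z (P u) := inv_eq_of_mul_eq_one_left zz
  have hT := C.cls.z_torus _ hR
  set S := C.X (P u) ⊔ C.X (P v) with hS
  have hcj : cj (C.z (P u)) S = S := by
    rw [hS, cj_sup, C.cls.rgd.tor _ (Q.root u huR) _ hT, C.cls.rgd.tor _ (Q.root v hv) _ hT]
  have h1 : g * k ∈ S := by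
    rw [← e, commutatorElement_def]
    have hb1 : b' ∈ S := (le_sup_left : C.X (P u) ≤ S) hb'
    have hh1 : h ∈ S := (le_sup_right : C.X (P v) ≤ S) hh
    exact mul_mem (mul_mem (mul_mem hb1 hh1) (inv_mem hb1)) (inv_mem hh1)
  have h2 : g⁻¹ * k ∈ S := by
    have h3 : C.z (P u) * (g * k) * (C.z (P u))⁻¹ ∈ S := by
      rw [← hcj]; exact conj_mem_cj.2 h1
    have h4 : C.z (P u) * (g * k) * (C.z (P u))⁻¹ = g⁻¹ * k := by
      rw [zi, ← z_odd Q hu huv (Or.inl d2) hg]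
      have h5 := z_K2 Q H hu hv huv hk
      calc C.z (P u) * (g * k) * C.z (P u) = C.z (P u) * g * (k * C.z (P u)) := by group
        _ = C.z (P u) * g * C.z (P u) * k := by rw [← h5]; group
    rwa [h4] at h3
  refine Nodes.ShortSum.mem_of_sq_mem C.cls C.prime C.odd (Q.root _ huv) hg ?_
  have h3 := mul_mem h1 (inv_mem h2)
  have h4 : g * k * (g⁻¹ * k)⁻¹ = g * g := by group
  rwa [h4] at h3

/-- (c2), `u` long -/
theorem ncomm_long (H : PosB3 C F c d A B A' r r' b) {u v : V} (hu : IsL u) (hv : IsR v) (huv : IsR (u + v))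
    (hc : ∀ x ∈ C.X (P u), ∀ y ∈ C.X (P v), x * y = y * x) : False := by
  obtain ⟨g, hg, hg1⟩ := exists_ne Q huv
  obtain ⟨b', hb', h, hh, k, hk, e⟩ := key Q H hu hv huv hg
  obtain ⟨d1, d2⟩ := dot_uv hu hv huv
  have h1 : ⁅b', h⁆ = 1 := by rw [commutatorElement_eq_one_iff_mul_comm]; exact hc b' hb' h hh
  rw [h1] at e
  have h2 : k = g⁻¹ := eq_inv_of_mul_eq_one_right e.symm
  have h3 := z_K2 Q H hu hv huv (inv_mem hk)
  rw [h2, inv_inv] at h3
  have h4 := z_odd Q hu huv (Or.inl d2) hg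
  rw [h3, mul_assoc, z_sq Q hu, mul_one] at h4
  exact hg1 (eq_one_of_inv C.cls C.prime C.odd (Q.root _ huv) hg h4)

/-- (c2), two short roots -/
theorem le_comm_short (H : PosB3 C F c d A B A' r r' b) {u v : V} (hu : IsS u) (hv : IsS v)
    (huv : IsR (u + v)) : C.X (P (u + v)) ≤ ⁅C.X (P u), C.X (P v)⁆ := by
  obtain ⟨t1, t2, t3, t4⟩ := tab_short u hu v hv huv
  have huR : IsR u := Or.inl hu
  have hvR : IsR v := Or.inl hv
  have ru := Q.root u huR
  have rv := Q.root v hvR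
  have rx := Q.root _ huv
  have duu := (tab_S u hu).2.2
  have dvv := (tab_S v hv).2.2
  have e1 : dot (u + v) u = 1 := by
    have : dot (u + v) u = dot u u + dot u v := by simp only [dot, Prod.fst_add, Prod.snd_add]; ring
    omega
  have e2 : dot (u + v) v = 1 := by
    have : dot (u + v) v = dot u v + dot v v := by simp only [dot, Prod.fst_add, Prod.snd_add]; ring
    omega
  have hlen : form C.cs C.h (P u) (P u) = form C.cs C.h (P v) (P v) := by
    have f1 := two_form_cpr C.cs C.h (P (u + v)) ru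
    have f2 := two_form_cpr C.cs C.h (P (u + v)) rv
    have f3 := two_form_cpr C.cs C.h (P u) rx
    have f4 := two_form_cpr C.cs C.h (P v) rx
    rw [Q.cpr _ _ huv huR, (tab_L _ t2).2.1, e1, one_mul, one_mul] at f1
    rw [Q.cpr _ _ huv hvR, (tab_L _ t2).2.1, e2, one_mul, one_mul] at f2
    rw [Q.cpr _ _ huR huv, (tab_S u hu).2.1, dot_comm, e1, form_comm] at f3
    rw [Q.cpr _ _ hvR huv, (tab_S v hv).2.1, dot_comm, e2, form_comm] at f4
    linarith
  have S := Nodes.ShortSum.Sq.of_add (cs := C.cs) (h := C.h) (m := 2) (by norm_num) ru rv rx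
    ((form_iff Q huR hvR).2 t1) hlen (Q.two u v hu hv huv)
  rw [Q.refl _ _ huv huR, t3] at S
  exact Nodes.ShortSum.le_commutator C.cls C.prime C.odd S ((Q.mem _ huv).2 t2)
    ((Q.mem _ (Or.inr t4)).2 t4) (X_eq_Z' Q H t2) (X_eq_Z' Q H t4)

/-! ### The structure -/

open Classical in
/-- the involutions -/
noncomputable def zv (C : Chart Om p (⊤ : Subgroup N)) (P : V → (C.I → ℤ)) (c : N) (v : V) : N :=
  if IsL v then C.z (P v) else c

omit Q in
theorem zv_L {v : V} (hv : IsL v) : zv C P c v = C.z (P v) := by unfold zv; rw [if_pos hv]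

omit Q in
theorem zv_S {v : V} (hv : IsS v) : zv C P c v = c := by unfold zv; rw [if_neg (tab_S v hv).1]

theorem JJ_eq {v : V} (hv : IsR v) : NI3.Sol.JJ (fun v => C.X (P v)) v = LL C.X (P v) := by
  change C.X (P v) ⊔ C.X (P (-v)) = C.X (P v) ⊔ C.X (-P v)
  rw [Q.neg v hv]

theorem tor {v : V} (hv : IsR v) {t : N} (ht : t ∈ LL C.X (P v))
    (h1 : cj t (C.X (P v)) = C.X (P v)) (h2 : cj t (C.X (-P v)) = C.X (-P v)) : t ∈ C.T := by
  have hx := Q.root v hv
  obtain ⟨a, ha, s, hs, e⟩ := Nodes.RankOneSub.exists_of_normalizes C.cls.rgd hx (g := t)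
    ((le_sup_right : LL C.X (P v) ≤ C.T ⊔ LL C.X (P v)) ht) (fun u hu => by
      rw [← h1]; exact conj_mem_cj.2 hu)
  obtain ⟨g, hg, hg1⟩ := exists_ne Q (tab_neg v (mem_rootsL.2 hv)).1
  rw [Q.neg v hv] at hg
  have hs1 : s⁻¹ * g * s ∈ C.X (-P v) := by
    have := Nodes.RankOneSub.T_conj C.cls.rgd hx.neg (inv_mem hs) hg
    rwa [inv_inv] at this
  have h3 : a * g * a⁻¹ ∈ C.X (-P v) := by
    have h4 : t * (s⁻¹ * g * s) * t⁻¹ ∈ C.X (-P v) := by
      rw [← h2]; exact conj_mem_cj.2 hs1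
    have h5 : t * (s⁻¹ * g * s) * t⁻¹ = a * g * a⁻¹ := by rw [e]; group
    rwa [h5] at h4
  rw [e, Nodes.RankOneSub.ti C.cls.rgd hx ha hg hg1 h3, one_mul]
  exact hs

/-- **`PosB3` gives `B3`.** -/
theorem b3_of_pos (H : PosB3 C F c d A B A' r r' b) :
    NI3.Sol.B3 F (⊤ : Subgroup N) c (fun v => C.X (P v)) (zv C P c) where
  odd := H.odd
  sl v hv := by
    rw [JJ_eq Q hv]
    exact H.sl _ (Q.root v hv)
  card v hv := H.card _ (Q.root v hv)
  le v hv := le_top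
  span S hS := by
    rw [← C.gen]
    refine RGD.Sup_le fun x hx => ?_
    obtain ⟨v, hv, rfl⟩ := Q.surj x hx
    exact hS v hv
  comm u v hu hv h1 h2 := fun x hx y hy => comm Q H hu hv h1 h2 hx hy
  ncomm u v hu hv huv := by
    intro hc
    rcases hu with hu | hu
    · rcases hv with hv | hv
      · obtain ⟨g, hg, hg1⟩ := exists_ne Q huv
        have h1 := le_comm_short Q H hu hv huv hg
        have h2 : ⁅C.X (P u), C.X (P v)⁆ ≤ ⊥ := by
          rw [Subgroup.commutator_le]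
          intro x hx y hy
          rw [Subgroup.mem_bot, commutatorElement_eq_one_iff_mul_comm]
          exact hc x hx y hy
        exact hg1 (Subgroup.mem_bot.1 (h2 h1))
      · exact ncomm_long Q H hv (Or.inl hu) (by rwa [add_comm]) fun x hx y hy => (hc y hy x hx).symm
    · exact ncomm_long Q H hu hv huv hc
  gen u v hu hv huv := by
    rcases hu with hu | hu
    · rcases hv with hv | hv
      · refine (le_comm_short Q H hu hv huv).trans ?_
        rw [Subgroup.commutator_le]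
        intro x hx y hy
        rw [commutatorElement_def]
        have h1 : x ∈ C.X (P u) ⊔ C.X (P v) := (le_sup_left : C.X (P u) ≤ _) hx
        have h2 : y ∈ C.X (P u) ⊔ C.X (P v) := (le_sup_right : C.X (P v) ≤ _) hy
        exact mul_mem (mul_mem (mul_mem h1 h2) (inv_mem h1)) (inv_mem h2)
      · have h1 := gen_long Q H hv (Or.inl hu) (by rwa [add_comm])
        rw [add_comm v u, sup_comm] at h1
        exact h1
    · exact gen_long Q H hu hv huv
  c_order := H.c_order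
  c_comm x _ := (Subgroup.mem_center_iff.1 H.c_center x).symm
  z_mem v hv := by
    rw [JJ_eq Q hv]
    rcases hv with hv | hv
    · rw [zv_S hv]
      refine H.c_mem _ (Q.root v (Or.inl hv)) fun h0 => (tab_S v hv).1 ((Q.mem v (Or.inl hv)).1 h0)
    · rw [zv_L hv]
      exact KK_le_LL C.cls ((Q.mem v (Or.inr hv)).2 hv) (C.cls.z_mem _ ((Q.mem v (Or.inr hv)).2 hv))
  z_order v hv := by
    rcases hv with hv | hv
    · rw [zv_S hv]; exact H.c_order
    · rw [zv_L hv]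
      rw [orderOf_eq_prime_iff]
      exact ⟨by rw [pow_two]; exact z_sq Q hv, z_ne_one Q hv⟩
  z_neg v hv := by
    have h1 := tab_neg v (mem_rootsL.2 hv)
    rcases hv with hv | hv
    · rw [zv_S hv, zv_S (h1.2.2.2.2 hv)]
    · rw [zv_L hv, zv_L (h1.2.2.1.2 hv), Q.neg v (Or.inr hv)]
      exact C.cls.z_neg _ ((Q.mem v (Or.inr hv)).2 hv)
  z_short v hv := zv_S hv
  z_even u v hu hv h0 x hx := by
    rcases hv with hv | hv
    · rw [zv_S hv]; exact (Subgroup.mem_center_iff.1 H.c_center x).symm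
    · rw [zv_L hv]
      exact z_even Q H hv hu (tab_even v hv u (mem_rootsL.2 hu) h0) hx
  z_odd u v hu hv h0 x hx := by
    rcases hv with hv | hv
    · exfalso
      have h1 : NI3.Sol.pr u v = 2 * dot u v := by unfold NI3.Sol.pr; rw [if_pos (tab_S v hv).2.2]
      rw [h1] at h0
      exact (Int.not_odd_iff_even.2 (even_two_mul _)) h0
    · rw [zv_L hv]
      exact z_odd Q hv hu (tab_odd v hv u (mem_rootsL.2 hu) h0) hx
  z_orth u v hu hv h0 := by
    rw [zv_L hu, zv_L hv]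
    exact H.zz _ ((Q.mem u (Or.inr hu)).2 hu) _ ((Q.mem v (Or.inr hv)).2 hv)
      ((form_iff Q (Or.inr hu) (Or.inr hv)).2 h0)
  z_add u v hu hv huv := by
    rw [zv_L hu, zv_L hv, zv_L huv]
    obtain ⟨t1, t2, t3, t4, t5⟩ := tab_add u hu v hv huv
    have huR : IsR u := Or.inr hu
    have hvR : IsR v := Or.inr hv
    have h1 := z_refl C.cls C.prime C.odd (uniq Q H) ((Q.mem u huR).2 hu) ((Q.mem v hvR).2 hv)
      (fun e => t3 (Co.inj Q huR hvR e.symm)) (by
        have := Co.ne_neg Q huR hvR t4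
        intro e
        apply this
        rw [e, neg_neg])
      (by rw [Q.cpr v u hvR huR, Q.cpr u v huR hvR, (tab_L u hu).2.1, (tab_L v hv).2.1, t1, t2]; norm_num)
    rw [Q.refl v u hvR huR, t5] at h1
    exact h1.symm
  weyl v hv := by
    rw [JJ_eq Q hv]
    obtain ⟨m, hm, w, hw, e⟩ := exists_refl C.cls (Q.root v hv)
    refine ⟨m, hm, fun u hu => ?_⟩
    have h1 := C.cls.rgd.conj_rp hw (Q.root u hu)
    rw [e, Q.refl u v hu hv] at h1
    exact h1
  tor v hv t ht h1 h2 u hu := by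
    rw [JJ_eq Q hv] at ht
    rw [Q.neg v hv] at h2
    exact C.cls.rgd.tor _ (Q.root u hu) t (tor Q hv ht h1 h2)

end Main

/-- **The structure `B3` in the position `(c, d, A, B, A')`.** -/
theorem exists_b3 {C : Chart Om p (⊤ : Subgroup N)} {F : Type} [Field F] [Fintype F] {c d : N}
    {A B A' : Subgroup N} {r r' b : C.I → ℤ} (H : PosB3 C F c d A B A' r r' b) :
    ∃ (X : V → Subgroup N) (z : V → N), NI3.Sol.B3 F (⊤ : Subgroup N) c X z ∧
      NI3.Sol.JJ X (0, 0, 1) = A ∧ NI3.Sol.JJ X (1, 1, 0) = B ∧ NI3.Sol.JJ X (1, -1, 0) = A' ∧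
      z (1, 1, 0) = d ∧ z (1, -1, 0) = c * d ∧ z (0, 0, 1) = c := by
  obtain ⟨P, Q, e1, e2, e3⟩ := exists_co H
  refine ⟨fun v => C.X (P v), zv C P c, b3_of_pos Q H, ?_, ?_, ?_, ?_, ?_, ?_⟩
  · rw [JJ_eq Q (by decide), e3, H.A_eq]
  · rw [JJ_eq Q (by decide), e1, H.B_eq]
  · rw [JJ_eq Q (by decide), e2, H.A'_eq]
  · rw [zv_L (by decide), e1, H.zr]
  · rw [zv_L (by decide), e2, H.zr']
  · rw [zv_S (by decide)]

/-- the same for `ChartB3` -/
theorem exists_b3_of_chart {F : Type} [Field F] [Fintype F] {c d : N} {A B A' : Subgroup N}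
    (H : ChartB3 F N c d A B A') :
    ∃ (X : V → Subgroup N) (z : V → N), NI3.Sol.B3 F (⊤ : Subgroup N) c X z ∧
      NI3.Sol.JJ X (0, 0, 1) = A ∧ NI3.Sol.JJ X (1, 1, 0) = B ∧ NI3.Sol.JJ X (1, -1, 0) = A' ∧
      z (1, 1, 0) = d ∧ z (1, -1, 0) = c * d ∧ z (0, 0, 1) = c := by
  obtain ⟨Om, p, C, r, r', b, -, H⟩ := H
  exact exists_b3 H

end Cfsg.Agent.OddHalf.NI.FTwo.Facts

end

-- merged: Cfsg.Agent.OddHalf.NI3.Sol.SS
section

/-!
# `SS` from a chart of type `B₃`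

* `cen` : the centraliser of `z v` (`v` long) is contained in `JJ v · JJ (ol v) · JJ (sh v) · T`;
* `normalizes` : it normalises `JJ u` for `u = v` and for the roots `u` orthogonal to `v`;
* `ss_of_pos` : `SS`.
-/

set_option autoImplicit false
set_option linter.dupNamespace false
set_option linter.unusedSectionVars false

namespace Cfsg.Agent.OddHalf.NI3.Sol.CenB

open Cfsg
open CoxeterSystem Cfsg.Agent.ChevalleyStructure.CoxeterGeom Cfsg.Agent.Tits.Roots Cfsg.Agent.Tits.Core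
  Cfsg.Agent.Tits.RootComb Cfsg.Agent.Nodes.Comb Cfsg.Agent.Nodes.BNOf
  Cfsg.Agent.Nodes.RGDLib Cfsg.Agent.Nodes.Chart Cfsg.Agent.Nodes.Coroot Cfsg.Agent.Nodes.FreeTorus
open Cfsg.Agent.OddHalf.NI.FTwo Cfsg.Agent.OddHalf.NI.FTwo.FactsV Cfsg.Agent.OddHalf.NI.FTwo.FactsCo
  Cfsg.Agent.OddHalf.NI.FTwo.Facts

variable {N : Type*} [Group N] {Om : Set (Subgroup N)} {p : ℕ}

/-! ### Tables -/

theorem tab_perp : ∀ v ∈ longL, ∀ u ∈ rootsL, dot u v = 0 → u = ol v ∨ u = -ol v ∨ u = sh v ∨ u = -sh v := by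
  decide +kernel

theorem tab_ols : ∀ v ∈ longL, IsL (ol v) ∧ IsS (sh v) ∧ dot (ol v) v = 0 ∧ dot (sh v) v = 0 ∧
    dot (sh v) (ol v) = 0 := by decide +kernel

theorem tab_LL : ∀ v ∈ longL, ∀ u ∈ longL, u = v ∨ u = -v ∨ dot u v = 0 ∨ dot u v = 1 ∨ dot u v = -1 := by
  decide +kernel

/-- the three roots `v, ol v, sh v` up to sign: sums and differences of different ones are no roots -/
theorem tab_three : ∀ v ∈ longL, ∀ u ∈ rootsL, ∀ w ∈ rootsL, (u = v ∨ u = -v ∨ dot u v = 0) →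
    (w = v ∨ w = -v ∨ dot w v = 0) → u = w ∨ u = -w ∨ (¬ IsR (u + w) ∧ u + w ≠ 0) := by decide +kernel

section Main

variable {C : Chart Om p (⊤ : Subgroup N)} {F : Type} [Field F] [Fintype F] {c d : N} {A B A' : Subgroup N}
  {r r' b : C.I → ℤ} (H : PosB3 C F c d A B A' r r' b) {P : V → (C.I → ℤ)} (Q : Co C P)

include H Q

/-- **The centraliser of the involution of a long root.** -/
theorem cen {v : V} (hv : IsL v) {g : N} (hg : C.z (P v) * g = g * C.z (P v)) :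
    g ∈ LL C.X (P v) ⊔ LL C.X (P (ol v)) ⊔ LL C.X (P (sh v)) ⊔ C.T := by
  obtain ⟨t1, t2, t3, t4, t5⟩ := tab_ols v hv
  have hR : ∀ {u}, IsL u → P u ∈ C.R := fun {u} hu => (Q.mem u (Or.inr hu)).2 hu
  have hrt := Q.root (sh v) (Or.inl t2)
  have hfi := fun {u w : V} (hu : IsR u) (hw : IsR w) => (form_iff Q hu hw).2
  have hgG : g ∈ Cfsg.Agent.Nodes.Bruhat.GG C.cs C.h C.T C.X := by
    rw [Cfsg.Agent.Nodes.ChartFrame.GG_eq]; exact Subgroup.mem_top g
  refine CenZ.mem_sup_of_comm C.cls C.prime C.odd (hR hv) (hR t1) hrt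
    (fun h => (tab_L _ ((Q.mem _ (Or.inl t2)).1 h)).1 t2)
    (hfi (Or.inr t1) (Or.inr hv) t3) (hfi (Or.inl t2) (Or.inr hv) t4) (hfi (Or.inl t2) (Or.inr t1) t5)
    (fun y hy h0 => ?_) (fun s hs hzs => ?_) hgG hg
  · obtain ⟨u, hu, rfl⟩ := Q.surj y hy
    rcases tab_perp v hv u (mem_rootsL.2 hu) ((form_iff Q hu (Or.inr hv)).1 h0) with rfl | rfl | rfl | rfl
    · exact Or.inl rfl
    · exact Or.inr (Or.inl (Q.neg _ (Or.inr t1)))
    · exact Or.inr (Or.inr (Or.inl rfl))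
    · exact Or.inr (Or.inr (Or.inr (Q.neg _ (Or.inl t2))))
  · obtain ⟨w, hw, rfl⟩ := Q.surj s (C.cls.root s hs)
    have hwL : IsL w := (Q.mem w hw).1 hs
    rcases tab_LL v hv w hwL with rfl | rfl | h0 | h0
    · exact Or.inl rfl
    · exact Or.inr (Q.neg _ (Or.inr hv))
    · exfalso
      have h1 := H.zz (P w) hs (P v) (hR hv) ((form_iff Q hw (Or.inr hv)).2 h0)
      rw [hzs, C.cls.z_sq _ (hR hv)] at h1
      have h2 := H.c_order
      rw [← h1, orderOf_one] at h2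
      omega
    · exfalso
      obtain ⟨x, hx, hx1⟩ := exists_ne Q hw
      have h1 := z_odd Q hv hw h0 hx
      have hxZ : x ∈ C.Z (P w) := by rw [← X_eq_Z' Q H hwL]; exact hx
      have h2 := C.cls.z_cent _ hs x hxZ
      rw [hzs] at h2
      rw [h2, mul_assoc, C.cls.z_sq _ (hR hv), mul_one] at h1
      exact hx1 (CenZ.eq_one_of_sq C.cls C.prime C.odd (C.cls.rgd.pgrp' (C.cls.root _ hs)) hx
        (by nth_rw 2 [h1]; group))

/-- commuting root groups of the configuration `A₁³` -/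
theorem comm_JJ {v : V} (hv : IsL v) {u w : V} (hu : IsR u) (hw : IsR w) (hu' : u = v ∨ u = -v ∨ dot u v = 0)
    (hw' : w = v ∨ w = -v ∨ dot w v = 0) (hne : u ≠ w) (hne' : u ≠ -w) {x y : N} (hx : x ∈ LL C.X (P u))
    (hy : y ∈ LL C.X (P w)) : x * y = y * x := by
  have B3' := b3_of_pos Q H
  have key : ∀ u w : V, IsR u → IsR w → (u = v ∨ u = -v ∨ dot u v = 0) → (w = v ∨ w = -v ∨ dot w v = 0) → u ≠ w →
      u ≠ -w → ∀ a ∈ C.X (P u), ∀ b ∈ C.X (P w), a * b = b * a := by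
    intro u w hu hw hu' hw' hne hne' a ha b hb
    rcases tab_three v hv u (mem_rootsL.2 hu) w (mem_rootsL.2 hw) hu' hw' with h | h | ⟨h, h0⟩
    · exact absurd h hne
    · exact absurd h hne'
    · exact B3'.comm u w hu hw h h0 a ha b hb
  have hn : ∀ u : V, (u = v ∨ u = -v ∨ dot u v = 0) → (-u = v ∨ -u = -v ∨ dot (-u) v = 0) := by
    intro u hu
    rcases hu with rfl | rfl | h
    · exact Or.inr (Or.inl rfl)
    · exact Or.inl (neg_neg _)
    · refine Or.inr (Or.inr ?_)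
      simp only [dot, Prod.fst_neg, Prod.snd_neg] at h ⊢
      linarith
  have hur : IsR (-u) := (tab_neg u (mem_rootsL.2 hu)).1
  have hwr : IsR (-w) := (tab_neg w (mem_rootsL.2 hw)).1
  have h1 : ∀ a ∈ C.X (P u) ⊔ C.X (P (-u)), ∀ b ∈ C.X (P w) ⊔ C.X (P (-w)), a * b = b * a := by
    have e1 : C.X (P u) ⊔ C.X (P (-u)) ≤ Subgroup.centralizer ((C.X (P w) ⊔ C.X (P (-w)) : Subgroup N) : Set N) := by
      rw [Subgroup.le_centralizer_iff]
      refine sup_le ?_ ?_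
      · rw [Subgroup.le_centralizer_iff]
        refine sup_le (fun a ha => ?_) (fun a ha => ?_)
        · exact Subgroup.mem_centralizer_iff.2 fun b hb => (key u w hu hw hu' hw' hne hne' a ha b hb).symm
        · exact Subgroup.mem_centralizer_iff.2 fun b hb => (key (-u) w hur hw (hn u hu') hw'
            (fun h => hne' (by rw [← h, neg_neg])) (fun h => hne (neg_injective h)) a ha b hb).symm
      · rw [Subgroup.le_centralizer_iff]
        refine sup_le (fun a ha => ?_) (fun a ha => ?_)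
        · exact Subgroup.mem_centralizer_iff.2 fun b hb => (key u (-w) hu hwr hu' (hn w hw') hne'
            (fun h => hne (by rw [h, neg_neg])) a ha b hb).symm
        · exact Subgroup.mem_centralizer_iff.2 fun b hb => (key (-u) (-w) hur hwr (hn u hu') (hn w hw')
            (fun h => hne (neg_injective h)) (fun h => hne' (neg_injective h)) a ha b hb).symm
    exact fun a ha b hb => (Subgroup.mem_centralizer_iff.1 (e1 ha) b hb).symm
  rw [Q.neg u hu, Q.neg w hw] at h1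
  exact h1 x hx y hy

/-- the centraliser of `z v` normalises the groups `JJ u` -/
theorem normalizes {v : V} (hv : IsL v) {u : V} (hu : IsR u) (hu' : u = v ∨ dot u v = 0) {g : N}
    (hg : C.z (P v) * g = g * C.z (P v)) : g ∈ Subgroup.normalizer (LL C.X (P u) : Set N) := by
  obtain ⟨t1, t2, t3, t4, t5⟩ := tab_ols v hv
  have hu'' : u = v ∨ u = -v ∨ dot u v = 0 := by
    rcases hu' with h | h
    · exact Or.inl h
    · exact Or.inr (Or.inr h)
  have key : ∀ w : V, IsR w → (w = v ∨ w = -v ∨ dot w v = 0) →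
      LL C.X (P w) ≤ Subgroup.normalizer (LL C.X (P u) : Set N) := by
    intro w hw hw'
    by_cases e1 : w = u
    · subst e1; exact Subgroup.le_normalizer
    by_cases e2 : w = -u
    · subst e2
      rw [Q.neg u hu, LL_neg]
      exact Subgroup.le_normalizer
    · intro a ha
      apply Cfsg.Agent.Nodes.ClsNorm.centralizer_le_normalizer'
      exact Subgroup.mem_centralizer_iff.2 fun b hb => (comm_JJ H Q hv hw hu hw' hu'' e1 e2 ha hb).symm
  have hT : C.T ≤ Subgroup.normalizer (LL C.X (P u) : Set N) := by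
    intro t ht
    rw [Cfsg.Agent.Nodes.Reps.mem_normalizer_iff_cj]
    unfold LL
    rw [Cfsg.Agent.Nodes.Reps.cj_sup, C.cls.rgd.tor _ (Q.root u hu) t ht, C.cls.rgd.tor _ (Q.root u hu).neg t ht]
  have h1 := cen H Q hv hg
  exact (sup_le (sup_le (sup_le (key v (Or.inr hv) (Or.inl rfl)) (key _ (Or.inr t1) (Or.inr (Or.inr t3))))
    (key _ (Or.inl t2) (Or.inr (Or.inr t4)))) hT) h1

/-- **`SS` for a chart.** -/
theorem ss_of_pos : SS (⊤ : Subgroup N) (fun v => C.X (P v)) (zv C P c) := by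
  intro v hv u hu hu'
  apply Subgroup.Normal.isSubnormal
  refine ⟨fun x hx ⟨g, hgm⟩ => ?_⟩
  have hg := (Subgroup.mem_inf.1 hgm).2
  rw [Subgroup.mem_centralizer_singleton_iff, zv_L hv] at hg
  rw [Subgroup.mem_subgroupOf] at hx ⊢
  rw [JJ_eq Q hu] at hx ⊢
  exact (Subgroup.mem_normalizer_iff.1 (normalizes H Q hv hu hu' hg.symm) _).1 hx

end Main

end Cfsg.Agent.OddHalf.NI3.Sol.CenB

end
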