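import Cfsg.Agent.OddHalf.NI3.Sol.Defs
import Cfsg.Agent.LieClassical.SLTwoUnipotent
import Cfsg.Agent.OddHalf.NI3.Sol.SS
import Cfsg.Agent.OddHalf.NI.LemmaP
import Cfsg.Agent.LieClassical.SLTwoSylowTwo
import Cfsg.Agent.SignalizersComponents.SLQuasisimple
import Cfsg.Agent.OddHalf.NI3.Sol.End
import Cfsg.Agent.LieClassical.SmallIso
import Cfsg.Agent.OddHalf.NI3.Step
import Cfsg.Agent.Cit.LongAbs
import Cfsg.Agent.OddHalf.NI.PosStd
import Cfsg.Agent.OddHalf.NI.Props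

-- merged: Cfsg.Agent.OddHalf.NI3.Sol.SLTwo
section

/-!
# Solomon's configuration: Sylow `p`-subgroups of `SL₂(F)`

`P`, `Q`, `R` subgroups of order `|F|` of `J ≃ SL₂(F)`.
* `exists_conj`, `reg`, `semireg`, `two_trans` : `J` is 2-transitive on them;
* `inv_unique` : `t` inverting `P` and `Q` normalises no third one.
-/

set_option autoImplicit false
set_option linter.unusedSectionVars false
set_option linter.unusedVariables false

namespace Cfsg.Agent.OddHalf.NI3.Sol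

open Subgroup Matrix
open Cfsg.Agent.LieClassical.SLTwoUnipotent

section CJ

variable {G : Type*} [Group G]

theorem mem_cj {g x : G} {A : Subgroup G} : x ∈ cj g A ↔ g⁻¹ * x * g ∈ A := by
  unfold cj
  rw [Subgroup.mem_map_equiv, MulAut.conj_symm_apply]

theorem conj_mem_cj {g x : G} {A : Subgroup G} : g * x * g⁻¹ ∈ cj g A ↔ x ∈ A := by
  rw [mem_cj]
  have : g⁻¹ * (g * x * g⁻¹) * g = x := by group
  rw [this]

theorem cj_one (A : Subgroup G) : cj (1 : G) A = A := by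
  ext x; rw [mem_cj]; simp

theorem cj_mul (g k : G) (A : Subgroup G) : cj (g * k) A = cj g (cj k A) := by
  ext x
  rw [mem_cj, mem_cj, mem_cj]
  have : (g * k)⁻¹ * x * (g * k) = k⁻¹ * (g⁻¹ * x * g) * k := by group
  rw [this]

theorem cj_inv_cj (g : G) (A : Subgroup G) : cj g⁻¹ (cj g A) = A := by
  rw [← cj_mul, inv_mul_cancel, cj_one]

theorem cj_cj_inv (g : G) (A : Subgroup G) : cj g (cj g⁻¹ A) = A := by
  rw [← cj_mul, mul_inv_cancel, cj_one]

theorem cj_mono (g : G) {A B : Subgroup G} (h : A ≤ B) : cj g A ≤ cj g B := Subgroup.map_mono h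

theorem cj_injective (g : G) : Function.Injective (cj g : Subgroup G → Subgroup G) := by
  intro A B h
  have := congrArg (cj g⁻¹) h
  rwa [cj_inv_cj, cj_inv_cj] at this

theorem cj_sup (g : G) (A B : Subgroup G) : cj g (A ⊔ B) = cj g A ⊔ cj g B := Subgroup.map_sup _ _ _

theorem cj_inf (g : G) (A B : Subgroup G) : cj g (A ⊓ B) = cj g A ⊓ cj g B := by
  ext x
  rw [mem_inf, mem_cj, mem_cj, mem_cj, mem_inf]

theorem cj_eq_of_mem {g : G} {A : Subgroup G} (hg : g ∈ A) : cj g A = A := by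
  ext x
  rw [mem_cj]
  constructor
  · intro h1
    have : x = g * (g⁻¹ * x * g) * g⁻¹ := by group
    rw [this]
    exact mul_mem (mul_mem hg h1) (inv_mem hg)
  · intro h1
    exact mul_mem (mul_mem (inv_mem hg) h1) hg

theorem cj_eq_of_comm {g : G} {A : Subgroup G} (h : ∀ x ∈ A, g * x = x * g) : cj g A = A := by
  ext x
  rw [mem_cj]
  constructor
  · intro hx
    have h1 := h _ hx
    have h2 : g * (g⁻¹ * x * g) * g⁻¹ = g⁻¹ * x * g := by rw [h1]; group
    have h3 : g * (g⁻¹ * x * g) * g⁻¹ = x := by group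
    rw [h3] at h2
    rw [h2]; exact hx
  · intro hx
    have h1 := h _ hx
    have e : g⁻¹ * x * g = x := by rw [mul_assoc, ← h1]; group
    rw [e]; exact hx

theorem card_cj (g : G) (A : Subgroup G) : Nat.card (cj g A) = Nat.card A :=
  (Nat.card_congr (A.equivMapOfInjective _ (MulAut.conj g).injective).toEquiv).symm

/-- `g` inverts `A` -/
theorem cj_eq_of_inv {g : G} {A : Subgroup G} (h : ∀ x ∈ A, g * x * g⁻¹ = x⁻¹) : cj g A = A := by
  ext x
  rw [mem_cj]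
  constructor
  · intro hx
    have h1 := h _ hx
    have e : g * (g⁻¹ * x * g) * g⁻¹ = x := by group
    rw [← e, h1]
    exact inv_mem hx
  · intro hx
    have h1 := h _ (inv_mem hx)
    rw [inv_inv] at h1
    have e : g⁻¹ * x * g = x⁻¹ := by
      calc g⁻¹ * x * g = g⁻¹ * (g * x⁻¹ * g⁻¹) * g := by rw [h1]
        _ = x⁻¹ := by group
    rw [e]; exact inv_mem hx

end CJ

section Mat

variable {F : Type*} [Field F]

/-- lower unitriangular matrices -/
def lowU (F : Type*) [Field F] : Subgroup (SpecialLinearGroup (Fin 2) F) where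
  carrier := {g | ∃ x, g = l x}
  mul_mem' := by
    rintro _ _ ⟨x, rfl⟩ ⟨y, rfl⟩
    exact ⟨x + y, (l_add x y).symm⟩
  one_mem' := ⟨0, l_zero.symm⟩
  inv_mem' := by
    rintro _ ⟨x, rfl⟩
    exact ⟨-x, (l_neg x).symm⟩

theorem l_injective : Function.Injective (l : F → SpecialLinearGroup (Fin 2) F) := by
  intro x y h
  have h1 := congrArg (fun g : SpecialLinearGroup (Fin 2) F => (g : Matrix (Fin 2) (Fin 2) F) 1 0) h
  simpa [coe_l] using h1

theorem card_lowU : Nat.card (lowU F) = Nat.card F := by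
  refine (Nat.card_congr (Equiv.ofBijective (fun x : F => (⟨l x, ⟨x, rfl⟩⟩ : lowU F)) ⟨?_, ?_⟩)).symm
  · intro x y h
    exact l_injective (congrArg Subtype.val h)
  · rintro ⟨_, x, rfl⟩
    exact ⟨x, rfl⟩

variable [Fintype F]

theorem exists_conj_U {P : Subgroup (SpecialLinearGroup (Fin 2) F)} (h : Nat.card P = Nat.card F) :
    ∃ g, P = cj g (upperUnipSL F) := by
  obtain ⟨p, hp⟩ := CharP.exists F
  have hpp : Fact p.Prime := ⟨CharP.char_is_prime F p⟩
  obtain ⟨n, -, hn⟩ := FiniteField.card F p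
  have hP : IsPGroup p P := IsPGroup.of_card (n := n) (by rw [h, Nat.card_eq_fintype_card, hn])
  obtain ⟨Q, hQ⟩ := hP.exists_le_sylow
  obtain ⟨g, hg⟩ := exists_smul_upperUnipSylowSL_eq p Q
  have h1 : (Q : Subgroup (SpecialLinearGroup (Fin 2) F)) = cj g (upperUnipSL F) := by
    rw [← hg]; rfl
  refine ⟨g, ?_⟩
  rw [← h1]
  apply Subgroup.eq_of_le_of_card_ge hQ
  rw [h1, card_cj, card_upperUnipSL, h]

theorem exists_conj_L {P : Subgroup (SpecialLinearGroup (Fin 2) F)} (h : Nat.card P = Nat.card F)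
    (hne : P ≠ upperUnipSL F) : ∃ a : F, P = cj (u a) (lowU F) := by
  obtain ⟨g, rfl⟩ := exists_conj_U h
  have hg : g 1 0 ≠ 0 := by
    intro h0
    apply hne
    apply Subgroup.eq_of_le_of_card_ge
    · intro x hx
      rw [mem_cj] at hx
      have := conj_mem_upperUnipSL h0 hx
      have e : g * (g⁻¹ * x * g) * g⁻¹ = x := by group
      rwa [e] at this
    · rw [card_cj]
  refine ⟨g 0 0 / g 1 0, ?_⟩
  symm
  apply Subgroup.eq_of_le_of_card_ge
  · intro x hx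
    rw [mem_cj] at hx
    obtain ⟨y, hy⟩ := hx
    have e : x = u (g 0 0 / g 1 0) * l y * (u (g 0 0 / g 1 0))⁻¹ := by rw [← hy]; group
    rw [e, ← conj_u_eq g hg y]
    exact conj_mem_cj.2 (u_mem_upperUnipSL _)
  · rw [card_cj, card_cj, card_lowU, card_upperUnipSL]

theorem lowU_ne : lowU F ≠ upperUnipSL F := by
  intro h
  have h1 : l (1 : F) ∈ upperUnipSL F := by rw [← h]; exact ⟨1, rfl⟩
  rw [mem_upperUnipSL_iff, coe_l] at h1
  simp at h1

theorem semireg_mat {a : F} (h : cj (u a) (lowU F) = lowU F) : a = 0 := by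
  have h1 : u a * l 1 * (u a)⁻¹ ∈ lowU F := by
    rw [← h]; exact conj_mem_cj.2 ⟨1, rfl⟩
  obtain ⟨x, hx⟩ := h1
  have h2 : u a * l 1 = l x * u a := by rw [← hx]; group
  have h3 := congrArg (fun g : SpecialLinearGroup (Fin 2) F => (g : Matrix (Fin 2) (Fin 2) F) 0 0) h2
  simp only [LieClassical.SLTwoUnipotent.coe_mul, coe_u, coe_l] at h3
  simpa [Matrix.mul_apply, Fin.sum_univ_two] using h3

end Mat

section Grp

variable {G : Type*} [Group G] {F : Type*} [Field F] [Fintype F] {J P Q R : Subgroup G}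

/-- the image of `P ≤ J` in `SL₂(F)` -/
def hat (e : ↥J ≃* SpecialLinearGroup (Fin 2) F) (P : Subgroup G) : Subgroup (SpecialLinearGroup (Fin 2) F) :=
  (P.subgroupOf J).map e.toMonoidHom

variable (e : ↥J ≃* SpecialLinearGroup (Fin 2) F)

theorem mem_hat {x : ↥J} : e x ∈ hat e P ↔ (x : G) ∈ P := by
  unfold hat
  rw [Subgroup.mem_map]
  constructor
  · rintro ⟨y, hy, h⟩
    have h1 : y = x := e.injective h
    rw [← h1]; exact hy
  · intro h
    exact ⟨x, h, rfl⟩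

theorem mem_hat' {s : SpecialLinearGroup (Fin 2) F} : s ∈ hat e P ↔ ((e.symm s : ↥J) : G) ∈ P := by
  have := mem_hat e (P := P) (x := e.symm s)
  rwa [MulEquiv.apply_symm_apply] at this

theorem hat_inj (hP : P ≤ J) (hQ : Q ≤ J) (h : hat e P = hat e Q) : P = Q := by
  ext x
  constructor
  · intro hx
    have h1 := (mem_hat e (x := ⟨x, hP hx⟩)).2 hx
    rw [h] at h1
    exact (mem_hat e).1 h1
  · intro hx
    have h1 := (mem_hat e (x := ⟨x, hQ hx⟩)).2 hx
    rw [← h] at h1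
    exact (mem_hat e).1 h1

theorem hat_cj (j : ↥J) (hP : P ≤ J) : hat e (cj (j : G) P) = cj (e j) (hat e P) := by
  ext s
  rw [mem_hat', mem_cj, mem_cj, mem_hat']
  rw [map_mul, map_mul, map_inv, MulEquiv.symm_apply_apply]
  rfl

theorem card_hat (hP : P ≤ J) : Nat.card (hat e P) = Nat.card P := by
  unfold hat
  rw [Subgroup.card_map_of_injective e.injective]
  exact Nat.card_congr (Subgroup.subgroupOfEquivOfLe hP).toEquiv

theorem cj_le {j : G} (hj : j ∈ J) (hP : P ≤ J) : cj j P ≤ J := by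
  rw [← cj_eq_of_mem hj]; exact cj_mono j hP

/-- all subgroups of order `|F|` of `J` are conjugate -/
theorem exists_conj (e : Nonempty (↥J ≃* SpecialLinearGroup (Fin 2) F)) (hP : P ≤ J) (hQ : Q ≤ J)
    (cP : Nat.card P = Nat.card F) (cQ : Nat.card Q = Nat.card F) : ∃ j ∈ J, cj j P = Q := by
  obtain ⟨e⟩ := e
  obtain ⟨g, hg⟩ := exists_conj_U (F := F) (P := hat e P) (by rw [card_hat e hP, cP])
  obtain ⟨k, hk⟩ := exists_conj_U (F := F) (P := hat e Q) (by rw [card_hat e hQ, cQ])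
  refine ⟨e.symm (k * g⁻¹), (e.symm (k * g⁻¹)).2, hat_inj e (cj_le (e.symm _).2 hP) hQ ?_⟩
  rw [hat_cj e _ hP, MulEquiv.apply_symm_apply, hg, ← cj_mul, hk]
  congr 1; group

theorem two_trans_aux (e : ↥J ≃* SpecialLinearGroup (Fin 2) F) (hP : P ≤ J) (hQ : Q ≤ J)
    (cP : Nat.card P = Nat.card F) (cQ : Nat.card Q = Nat.card F) (hne : P ≠ Q) :
    ∃ g, cj g (hat e P) = upperUnipSL F ∧ cj g (hat e Q) = lowU F := by
  obtain ⟨g, hg⟩ := exists_conj_U (F := F) (P := hat e P) (by rw [card_hat e hP, cP])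
  have h1 : cj g⁻¹ (hat e Q) ≠ upperUnipSL F := by
    intro h
    apply hne
    apply hat_inj e hP hQ
    rw [hg, ← h, cj_cj_inv]
  obtain ⟨a, ha⟩ := exists_conj_L (F := F) (P := cj g⁻¹ (hat e Q)) (by rw [card_cj, card_hat e hQ, cQ]) h1
  refine ⟨(u a)⁻¹ * g⁻¹, ?_, ?_⟩
  · rw [cj_mul, hg, cj_inv_cj, cj_eq_of_mem (inv_mem (u_mem_upperUnipSL a))]
  · rw [cj_mul, ha, cj_inv_cj]

/-- `P` acts transitively on the subgroups of order `|F|` different from `P` -/
theorem reg (e : Nonempty (↥J ≃* SpecialLinearGroup (Fin 2) F)) (hP : P ≤ J) (hQ : Q ≤ J) (hR : R ≤ J)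
    (cP : Nat.card P = Nat.card F) (cQ : Nat.card Q = Nat.card F) (cR : Nat.card R = Nat.card F) (hne : P ≠ Q)
    (hR' : R ≠ P) : ∃ v ∈ P, R = cj v Q := by
  obtain ⟨e⟩ := e
  obtain ⟨g, hg1, hg2⟩ := two_trans_aux e hP hQ cP cQ hne
  have h1 : cj g (hat e R) ≠ upperUnipSL F := by
    intro h
    apply hR'
    apply hat_inj e hR hP
    apply cj_injective g
    rw [h, hg1]
  obtain ⟨a, ha⟩ := exists_conj_L (F := F) (P := cj g (hat e R)) (by rw [card_cj, card_hat e hR, cR]) h1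
  refine ⟨e.symm (g⁻¹ * u a * g), ?_, ?_⟩
  · rw [← mem_hat', ← mem_cj, hg1]
    exact u_mem_upperUnipSL a
  · apply hat_inj e hR (cj_le (e.symm _).2 hQ)
    rw [hat_cj e _ hQ, MulEquiv.apply_symm_apply]
    apply cj_injective g
    rw [ha, ← hg2, ← cj_mul, ← cj_mul]
    congr 1; group

/-- `P` meets the normaliser of `Q` trivially -/
theorem semireg (e : Nonempty (↥J ≃* SpecialLinearGroup (Fin 2) F)) (hP : P ≤ J) (hQ : Q ≤ J)
    (cP : Nat.card P = Nat.card F) (cQ : Nat.card Q = Nat.card F) (hne : P ≠ Q) {v : G} (hv : v ∈ P)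
    (h : cj v Q = Q) : v = 1 := by
  obtain ⟨e⟩ := e
  obtain ⟨g, hg1, hg2⟩ := two_trans_aux e hP hQ cP cQ hne
  have h1 : g * e ⟨v, hP hv⟩ * g⁻¹ ∈ upperUnipSL F := by
    rw [← hg1, conj_mem_cj, mem_hat]
    exact hv
  have h2 := eq_u_of_mem_upperUnipSL h1
  set a := (g * e ⟨v, hP hv⟩ * g⁻¹) 0 1
  have h3 : cj (u a) (lowU F) = lowU F := by
    rw [← h2, ← hg2, ← cj_mul]
    have e1 : g * e ⟨v, hP hv⟩ * g⁻¹ * g = g * e ⟨v, hP hv⟩ := by group
    rw [e1, cj_mul, ← hat_cj e _ hQ, h]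
  have h4 := semireg_mat h3
  rw [h4, u_zero] at h2
  have h5 : e ⟨v, hP hv⟩ = 1 := by
    have := congrArg (fun x => g⁻¹ * x * g) h2
    simpa [mul_assoc] using this
  have h6 : (⟨v, hP hv⟩ : ↥J) = 1 := by rwa [map_eq_one_iff e e.injective] at h5
  exact congrArg Subtype.val h6

theorem two_trans (e : Nonempty (↥J ≃* SpecialLinearGroup (Fin 2) F)) {P' Q' : Subgroup G} (hP : P ≤ J) (hQ : Q ≤ J)
    (hP' : P' ≤ J) (hQ' : Q' ≤ J) (cP : Nat.card P = Nat.card F) (cQ : Nat.card Q = Nat.card F)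
    (cP' : Nat.card P' = Nat.card F) (cQ' : Nat.card Q' = Nat.card F) (hne : P ≠ Q) (hne' : P' ≠ Q') :
    ∃ j ∈ J, cj j P = P' ∧ cj j Q = Q' := by
  obtain ⟨j, hj, h1⟩ := exists_conj e hP hP' cP cP'
  obtain ⟨v, hv, h2⟩ := reg (R := Q') (Q := cj j Q) e hP' (cj_le hj hQ) hQ' cP' (by rw [card_cj, cQ]) cQ'
    (by rw [← h1]; exact fun h => hne (cj_injective j h)) hne'.symm
  refine ⟨v * j, mul_mem (hP' hv) hj, ?_, ?_⟩
  · rw [cj_mul, h1, cj_eq_of_mem hv]
  · rw [cj_mul, h2]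

/-- `t` inverts `P` and `Q` and normalises `R`: then `R = P` or `R = Q`. -/
theorem inv_unique (hodd : Odd (Fintype.card F)) (e : Nonempty (↥J ≃* SpecialLinearGroup (Fin 2) F)) (hP : P ≤ J)
    (hQ : Q ≤ J) (hR : R ≤ J) (cP : Nat.card P = Nat.card F) (cQ : Nat.card Q = Nat.card F)
    (cR : Nat.card R = Nat.card F) (hne : P ≠ Q) {t : G} (tP : ∀ x ∈ P, t * x * t⁻¹ = x⁻¹)
    (tQ : ∀ x ∈ Q, t * x * t⁻¹ = x⁻¹) (tR : cj t R = R) : R = P ∨ R = Q := by
  by_cases hRP : R = P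
  · exact Or.inl hRP
  right
  obtain ⟨v, hv, h1⟩ := reg e hP hQ hR cP cQ cR hne hRP
  have h2 : cj v Q = cj v⁻¹ Q := by
    rw [← h1]
    calc R = cj t R := tR.symm
      _ = cj (t * v * t⁻¹) (cj t Q) := by rw [h1, ← cj_mul, ← cj_mul]; congr 1; group
      _ = cj v⁻¹ Q := by rw [tP v hv, cj_eq_of_inv tQ]
  have h3 : cj (v * v) Q = Q := by rw [cj_mul, h2, cj_cj_inv]
  have h4 := semireg e hP hQ cP cQ hne (mul_mem hv hv) h3
  have h5 : v = 1 := by
    have h6 : orderOf v ∣ 2 := orderOf_dvd_of_pow_eq_one (by rw [pow_two]; exact h4)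
    have h7 : orderOf v ∣ Nat.card P := Subgroup.orderOf_dvd_natCard P hv
    rw [cP, Nat.card_eq_fintype_card] at h7
    have h8 : Nat.Coprime 2 (Fintype.card F) := (Nat.coprime_two_left).2 hodd
    exact orderOf_eq_one_iff.1 (Nat.dvd_one.1 (by rw [← h8]; exact Nat.dvd_gcd h6 h7))
  rw [h1, h5, cj_one]

end Grp

end Cfsg.Agent.OddHalf.NI3.Sol

end

-- merged: Cfsg.Agent.OddHalf.NI3.Sol.Basic
section

/-!
# Solomon's configuration: tools for the structure `B3`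

* `B3.uniq`, `zc` : involutions; `B3.rel`; `B3.conj`;
* `Full F K c X z` : `B3`, `KFive`, `UU`, `SS` and `K` is a component of `C(c)`; `Full.conj`.
-/

set_option autoImplicit false
set_option linter.unusedSectionVars false
set_option linter.unusedVariables false

namespace Cfsg.Agent.OddHalf.NI3.Sol

open Subgroup Matrix
open Cfsg.Agent.OddHalf.NI (CompIn)

/-! ### Roots -/

theorem IsR.mem {v : V} (h : IsR v) : v ∈ shortL ++ longL := List.mem_append.mpr h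

theorem IsR.neg {v : V} (h : IsR v) : IsR (-v) := by
  have key : ∀ v ∈ shortL ++ longL, IsR (-v) := by decide
  exact key v h.mem

theorem IsL.isR {v : V} (h : IsL v) : IsR v := Or.inr h

theorem IsS.isR {v : V} (h : IsS v) : IsR v := Or.inl h

theorem pr_neg {u v : V} (hu : IsR u) (hv : IsR v) : pr (-u) v = - pr u v := by
  have key : ∀ u ∈ shortL ++ longL, ∀ v ∈ shortL ++ longL, pr (-u) v = - pr u v := by decide
  exact key u hu.mem v hv.mem

theorem pr_self {v : V} (hv : IsR v) : pr v v = 2 := by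
  have key : ∀ v ∈ shortL ++ longL, pr v v = 2 := by decide
  exact key v hv.mem

theorem refl_isR {u v : V} (hu : IsR u) (hv : IsR v) : IsR (refl v u) := by
  have key : ∀ u ∈ shortL ++ longL, ∀ v ∈ shortL ++ longL, IsR (refl v u) := by decide
  exact key u hu.mem v hv.mem

theorem refl_neg (u v : V) : refl v (-u) = - refl v u := by
  unfold refl
  have h1 : pr (-u) v = - pr u v := by
    unfold pr dot
    split_ifs <;> simp <;> ring
  rw [h1]
  module

theorem refl_refl {u v : V} (hu : IsR u) (hv : IsR v) : refl v (refl v u) = u := by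
  have key : ∀ u ∈ shortL ++ longL, ∀ v ∈ shortL ++ longL, refl v (refl v u) = u := by decide
  exact key u hu.mem v hv.mem

/-! ### Subnormal subgroups -/

section Sub

variable {G G' : Type*} [Group G] [Group G']

/-- `J` is a subnormal subgroup of `C` -/
def Sb (J C : Subgroup G) : Prop := J ≤ C ∧ (J.subgroupOf C).IsSubnormal

theorem Sb.map (f : G →* G') {J C : Subgroup G} (h : Sb J C) : Sb (J.map f) (C.map f) := by
  refine ⟨map_mono h.1, ?_⟩
  have h1 := h.2.map (f := f.subgroupMap C) (f.subgroupMap_surjective C)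
  convert h1 using 1
  ext x
  constructor
  · rintro ⟨y, hy, hyx⟩
    exact ⟨⟨y, h.1 hy⟩, hy, Subtype.ext hyx⟩
  · rintro ⟨y, hy, rfl⟩
    exact ⟨y, hy, rfl⟩

theorem Sb.cj {J C : Subgroup G} (h : Sb J C) (g : G) : Sb (cj g J) (cj g C) := h.map _

theorem cj_centralizer_singleton (g t : G) :
    Sol.cj g (centralizer ({t} : Set G)) = centralizer ({g * t * g⁻¹} : Set G) := by
  ext x
  rw [mem_cj, mem_centralizer_singleton_iff, mem_centralizer_singleton_iff]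
  constructor
  · intro h
    calc x * (g * t * g⁻¹) = g * (g⁻¹ * x * g * t) * g⁻¹ := by group
      _ = g * (t * (g⁻¹ * x * g)) * g⁻¹ := by rw [h]
      _ = g * t * g⁻¹ * x := by group
  · intro h
    calc g⁻¹ * x * g * t = g⁻¹ * (x * (g * t * g⁻¹)) * g := by group
      _ = g⁻¹ * (g * t * g⁻¹ * x) * g := by rw [h]
      _ = t * (g⁻¹ * x * g) := by group

theorem CompIn.cj' {H K : Subgroup G} (h : CompIn H K) (g : G) : CompIn (Sol.cj g H) (Sol.cj g K) := h.conj g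

end Sub

/-! ### Involutions of `SL₂(F)` -/

section SL

variable {G : Type*} [Group G] {F : Type*} [Field F] [Fintype F] {J : Subgroup G}

theorem sl_uniq (hodd : Odd (Fintype.card F)) (e : Nonempty (↥J ≃* SpecialLinearGroup (Fin 2) F)) {x y : G}
    (hx : x ∈ J) (hy : y ∈ J) (ox : orderOf x = 2) (oy : orderOf y = 2) : x = y := by
  obtain ⟨f⟩ := e
  have h2 := SignalizersComponents.SLQuasisimple.two_ne_zero_of_odd hodd
  have key : ∀ w : G, ∀ hw : w ∈ J, orderOf w = 2 → f ⟨w, hw⟩ = -1 := by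
    intro w hw how
    have h3 : orderOf (f ⟨w, hw⟩) = 2 := by
      rw [f.orderOf_eq, ← how, Subgroup.orderOf_mk]
    apply LieClassical.SLTwoSylowTwo.eq_neg_one_of_sq h2
    · intro h
      rw [h, orderOf_one] at h3
      omega
    · have h4 := pow_orderOf_eq_one (f ⟨w, hw⟩)
      rwa [h3] at h4
  have h1 : f ⟨x, hx⟩ = f ⟨y, hy⟩ := by rw [key x hx ox, key y hy oy]
  exact congrArg Subtype.val (f.injective h1)

end SL

/-! ### `B3` -/

section B3

variable {G : Type*} [Group G] {F : Type} [Field F] [Fintype F] {K : Subgroup G} {c : G} {X : V → Subgroup G}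
  {z : V → G}

theorem JJ_neg (v : V) : JJ X (-v) = JJ X v := by unfold JJ; rw [neg_neg, sup_comm]

theorem cj_JJ (g : G) (v : V) : cj g (JJ X v) = JJ (fun u => cj g (X u)) v := cj_sup _ _ _

namespace B3

theorem three_le (h : B3 F K c X z) : 3 ≤ Fintype.card F := by
  obtain ⟨k, hk⟩ := h.odd
  have h1 : 1 < Fintype.card F := Fintype.one_lt_card
  omega

theorem natcard (h : B3 F K c X z) {v : V} (hv : IsR v) : Nat.card (X v) = Nat.card F := by
  rw [h.card v hv, Nat.card_eq_fintype_card]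

theorem rel (h : B3 F K c X z) : Rel X := ⟨h.comm, h.ncomm, h.gen⟩

theorem le_JJ (v : V) : X v ≤ JJ X v := le_sup_left

theorem neg_le_JJ (v : V) : X (-v) ≤ JJ X v := le_sup_right

theorem JJ_le (h : B3 F K c X z) {v : V} (hv : IsR v) : JJ X v ≤ K := sup_le (h.le v hv) (h.le _ hv.neg)

theorem z_mem_K (h : B3 F K c X z) {v : V} (hv : IsR v) : z v ∈ K := h.JJ_le hv (h.z_mem v hv)

theorem z_sq (h : B3 F K c X z) {v : V} (hv : IsR v) : z v * z v = 1 := by
  have := pow_orderOf_eq_one (z v)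
  rwa [h.z_order v hv, pow_two] at this

theorem z_inv (h : B3 F K c X z) {v : V} (hv : IsR v) : (z v)⁻¹ = z v := inv_eq_of_mul_eq_one_left (h.z_sq hv)

theorem uniq (h : B3 F K c X z) {v : V} (hv : IsR v) {x : G} (hx : x ∈ JJ X v) (ho : orderOf x = 2) : x = z v :=
  sl_uniq h.odd (h.sl v hv) hx (h.z_mem v hv) ho (h.z_order v hv)

/-- `z v` inverts `X u` if `⟨u, vᵛ⟩` is odd -/
theorem inverts (h : B3 F K c X z) {u v : V} (hu : IsR u) (hv : IsR v) (ho : Odd (pr u v)) :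
    ∀ x ∈ X u, z v * x * (z v)⁻¹ = x⁻¹ := by
  intro x hx
  rw [h.z_inv hv]
  exact h.z_odd u v hu hv ho x hx

theorem exists_ne (h : B3 F K c X z) {v : V} (hv : IsR v) : ∃ x ∈ X v, x ≠ 1 := by
  by_contra hcon
  push Not at hcon
  have h1 : X v = ⊥ := (Subgroup.eq_bot_iff_forall _).2 hcon
  have h2 := h.card v hv
  rw [h1, Subgroup.card_bot] at h2
  have := h.three_le
  omega

theorem ne_inv (h : B3 F K c X z) {v : V} (hv : IsR v) {x : G} (hx : x ∈ X v) (h1 : x ≠ 1) : x⁻¹ ≠ x := by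
  intro h2
  apply h1
  have h6 : orderOf x ∣ 2 := orderOf_dvd_of_pow_eq_one (by
    rw [pow_two]; nth_rewrite 1 [← h2]; exact inv_mul_cancel x)
  have h7 : orderOf x ∣ Nat.card (X v) := Subgroup.orderOf_dvd_natCard _ hx
  rw [h.card v hv] at h7
  have h8 : Nat.Coprime 2 (Fintype.card F) := (Nat.coprime_two_left).2 h.odd
  exact orderOf_eq_one_iff.1 (Nat.dvd_one.1 (by rw [← h8]; exact Nat.dvd_gcd h6 h7))

/-- an element cannot invert and centralise a root group -/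
theorem not_cent_of_inv (h : B3 F K c X z) {v : V} (hv : IsR v) {t : G} (h1 : ∀ x ∈ X v, t * x * t⁻¹ = x⁻¹)
    (h2 : ∀ x ∈ X v, t * x = x * t) : False := by
  obtain ⟨x, hx, hx1⟩ := h.exists_ne hv
  apply h.ne_inv hv hx hx1
  rw [← h1 x hx, h2 x hx]; group

theorem X_ne (h : B3 F K c X z) {v : V} (hv : IsR v) : X v ≠ X (-v) := by
  intro h1
  have h2 : z v ∈ X v := by
    have := h.z_mem v hv
    unfold JJ at this
    rwa [← h1, sup_idem] at this
  have h3 : orderOf (z v) ∣ Nat.card (X v) := Subgroup.orderOf_dvd_natCard _ h2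
  rw [h.z_order v hv, h.card v hv] at h3
  have := h.odd
  rw [← Nat.not_even_iff_odd] at this
  exact this (even_iff_two_dvd.2 h3)

/-- `JJ X v` is not abelian -/
theorem JJ_not_comm (h : B3 F K c X z) {v : V} (hv : IsR v) : ¬ cm (JJ X v) (JJ X v) := by
  intro hc
  obtain ⟨j, hj, h1⟩ := exists_conj (h.sl v hv) (le_JJ v) (neg_le_JJ v) (h.natcard hv) (h.natcard hv.neg)
  apply h.X_ne hv
  rw [← h1]
  exact (cj_eq_of_comm fun x hx => hc j hj x (le_JJ v hx)).symm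

/-- conjugation -/
theorem conj (h : B3 F K c X z) (g : G) :
    B3 F (cj g K) (g * c * g⁻¹) (fun v => cj g (X v)) (fun v => g * z v * g⁻¹) where
  odd := h.odd
  sl v hv := by
    obtain ⟨e⟩ := h.sl v hv
    rw [← cj_JJ]
    exact ⟨((JJ X v).equivMapOfInjective _ (MulAut.conj g).injective).symm.trans e⟩
  card v hv := by rw [card_cj]; exact h.card v hv
  le v hv := cj_mono g (h.le v hv)
  span H hH := by
    have h1 : K ≤ cj g⁻¹ H := h.span _ fun v hv => by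
      rw [← cj_inv_cj g (X v)]
      exact cj_mono _ (hH v hv)
    rw [← cj_cj_inv g H]
    exact cj_mono _ h1
  comm u v hu hv h1 h2 := by
    intro a ha b hb
    rw [mem_cj] at ha hb
    have := h.comm u v hu hv h1 h2 _ ha _ hb
    calc a * b = g * ((g⁻¹ * a * g) * (g⁻¹ * b * g)) * g⁻¹ := by group
      _ = g * ((g⁻¹ * b * g) * (g⁻¹ * a * g)) * g⁻¹ := by rw [this]
      _ = b * a := by group
  ncomm u v hu hv h1 := by
    intro hc
    apply h.ncomm u v hu hv h1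
    intro a ha b hb
    have := hc (g * a * g⁻¹) (conj_mem_cj.2 ha) (g * b * g⁻¹) (conj_mem_cj.2 hb)
    calc a * b = g⁻¹ * ((g * a * g⁻¹) * (g * b * g⁻¹)) * g := by group
      _ = g⁻¹ * ((g * b * g⁻¹) * (g * a * g⁻¹)) * g := by rw [this]
      _ = b * a := by group
  gen u v hu hv h1 := by
    rw [← cj_sup]
    exact cj_mono g (h.gen u v hu hv h1)
  c_order := by
    rw [← h.c_order]
    exact (MulAut.conj g).orderOf_eq c
  c_comm x hx := by
    rw [mem_cj] at hx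
    have := h.c_comm _ hx
    calc g * c * g⁻¹ * x = g * (c * (g⁻¹ * x * g)) * g⁻¹ := by group
      _ = g * ((g⁻¹ * x * g) * c) * g⁻¹ := by rw [this]
      _ = x * (g * c * g⁻¹) := by group
  z_mem v hv := by
    rw [← cj_JJ, conj_mem_cj]
    exact h.z_mem v hv
  z_order v hv := by
    rw [← h.z_order v hv]
    exact (MulAut.conj g).orderOf_eq (z v)
  z_neg v hv := by rw [h.z_neg v hv]
  z_short v hv := by rw [h.z_short v hv]
  z_even u v hu hv h1 := by
    intro x hx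
    rw [mem_cj] at hx
    have := h.z_even u v hu hv h1 _ hx
    calc g * z v * g⁻¹ * x = g * (z v * (g⁻¹ * x * g)) * g⁻¹ := by group
      _ = g * ((g⁻¹ * x * g) * z v) * g⁻¹ := by rw [this]
      _ = x * (g * z v * g⁻¹) := by group
  z_odd u v hu hv h1 := by
    intro x hx
    rw [mem_cj] at hx
    have := h.z_odd u v hu hv h1 _ hx
    calc g * z v * g⁻¹ * x * (g * z v * g⁻¹) = g * (z v * (g⁻¹ * x * g) * z v) * g⁻¹ := by group
      _ = g * (g⁻¹ * x * g)⁻¹ * g⁻¹ := by rw [this]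
      _ = x⁻¹ := by group
  z_orth u v hu hv h1 := by
    have := h.z_orth u v hu hv h1
    calc g * z u * g⁻¹ * (g * z v * g⁻¹) = g * (z u * z v) * g⁻¹ := by group
      _ = g * c * g⁻¹ := by rw [this]
  z_add u v hu hv h1 := by
    have := h.z_add u v hu hv h1
    calc g * z u * g⁻¹ * (g * z v * g⁻¹) = g * (z u * z v) * g⁻¹ := by group
      _ = g * z (u + v) * g⁻¹ := by rw [this]
  weyl v hv := by
    obtain ⟨n, hn, h1⟩ := h.weyl v hv
    refine ⟨g * n * g⁻¹, by rw [← cj_JJ, conj_mem_cj]; exact hn, fun u hu => ?_⟩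
    rw [← h1 u hu, ← cj_mul, ← cj_mul]
    congr 1; group
  tor v hv t ht h1 h2 u hu := by
    have ht' : g⁻¹ * t * g ∈ JJ X v := by rw [← mem_cj, cj_JJ]; exact ht
    have key : ∀ A : Subgroup G, cj t (cj g A) = cj g A → cj (g⁻¹ * t * g) A = A := by
      intro A hA
      rw [cj_mul, cj_mul, hA, cj_inv_cj]
    have h3 := h.tor v hv _ ht' (key _ h1) (key _ h2) u hu
    calc cj t (cj g (X u)) = cj g (cj (g⁻¹ * t * g) (X u)) := by rw [← cj_mul, ← cj_mul]; congr 1; group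
      _ = cj g (X u) := by rw [h3]

end B3

/-- `B3`, `KFive`, `UU`, `SS` and `K` is a component of `C(c)` -/
structure Full (F : Type) [Field F] [Fintype F] (K : Subgroup G) (c : G) (X : V → Subgroup G) (z : V → G) : Prop where
  b3 : B3 F K c X z
  five : KFive K X z
  uu : UU F K X z
  ss : SS K X z
  comp : CompIn (centralizer ({c} : Set G)) K

theorem cj_inf_cent (g t : G) (K : Subgroup G) :
    cj g (K ⊓ centralizer ({t} : Set G)) = cj g K ⊓ centralizer ({g * t * g⁻¹} : Set G) := by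
  rw [cj_inf, cj_centralizer_singleton]

theorem Full.conj (h : Full F K c X z) (g : G) :
    Full F (cj g K) (g * c * g⁻¹) (fun v => cj g (X v)) (fun v => g * z v * g⁻¹) where
  b3 := h.b3.conj g
  five := by
    intro f hf h1 h2 h3
    have key : ∀ v, (∀ x ∈ JJ (fun v => cj g (X v)) v, f * x = x * f) →
        ∀ x ∈ JJ X v, (g⁻¹ * f * g) * x = x * (g⁻¹ * f * g) := by
      intro v h4 x hx
      have h5 := h4 (g * x * g⁻¹) (by rw [← cj_JJ, conj_mem_cj]; exact hx)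
      calc (g⁻¹ * f * g) * x = g⁻¹ * (f * (g * x * g⁻¹)) * g := by group
        _ = g⁻¹ * (g * x * g⁻¹ * f) * g := by rw [h5]
        _ = x * (g⁻¹ * f * g) := by group
    have hf' : cj (g⁻¹ * f * g) K = K := by
      rw [cj_mul, cj_mul, hf, cj_inv_cj]
    rcases h.five _ hf' (key _ h1) (key _ h2) (key _ h3) with h4 | h4
    · left
      intro x hx
      have h5 := h4 _ (mem_cj.1 hx)
      calc f * x = g * ((g⁻¹ * f * g) * (g⁻¹ * x * g)) * g⁻¹ := by group
        _ = g * ((g⁻¹ * x * g) * (g⁻¹ * f * g)) * g⁻¹ := by rw [h5]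
        _ = x * f := by group
    · right
      intro x hx
      have h5 := h4 _ (mem_cj.1 hx)
      calc f * (g * z (1, 1, 0) * g⁻¹) * x = g * ((g⁻¹ * f * g) * z (1, 1, 0) * (g⁻¹ * x * g)) * g⁻¹ := by group
        _ = g * ((g⁻¹ * x * g) * ((g⁻¹ * f * g) * z (1, 1, 0))) * g⁻¹ := by rw [h5]
        _ = x * (f * (g * z (1, 1, 0) * g⁻¹)) := by group
  uu := by
    intro v hv S hS hs hiso
    have h0 : Sb S (cj g K ⊓ centralizer ({g * z v * g⁻¹} : Set G)) := ⟨hS, hs⟩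
    have h1 := h0.cj g⁻¹
    rw [← cj_inf_cent, cj_inv_cj] at h1
    obtain ⟨e⟩ := hiso
    obtain ⟨u, hu, h2, h3⟩ := h.uu v hv _ h1.1 h1.2
      ⟨(S.equivMapOfInjective _ (MulAut.conj g⁻¹).injective).symm.trans e⟩
    refine ⟨u, hu, h2, ?_⟩
    rw [← cj_JJ, ← h3, cj_cj_inv]
  ss := by
    intro v hv u hu h1
    have h0 : Sb (JJ X u) (K ⊓ centralizer ({z v} : Set G)) := by
      refine ⟨le_inf (h.b3.JJ_le hu) ?_, h.ss v hv u hu h1⟩
      have key : ∀ v ∈ longL, ∀ u ∈ shortL ++ longL, (u = v ∨ dot u v = 0) → Even (pr u v) ∧ Even (pr (-u) v) := by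
        decide
      have h2 := key v hv u hu.mem h1
      refine sup_le ?_ ?_
      · intro x hx
        rw [mem_centralizer_singleton_iff]
        exact (h.b3.z_even u v hu hv.isR h2.1 x hx).symm
      · intro x hx
        rw [mem_centralizer_singleton_iff]
        exact (h.b3.z_even (-u) v hu.neg hv.isR h2.2 x hx).symm
    have h2 := h0.cj g
    rw [cj_inf_cent, cj_JJ] at h2
    exact h2.2
  comp := by
    have h1 := CompIn.cj' h.comp g
    rwa [cj_centralizer_singleton] at h1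

end B3

end Cfsg.Agent.OddHalf.NI3.Sol

end

-- merged: Cfsg.Agent.OddHalf.NI3.Sol.Glue
section

/-!
# Solomon's configuration: three charts, common root groups, the centraliser of `J₀ J₁ J₂`

* `Tri F K c X z` : the three groups `K i` with their charts; `JJ (X i) (0,0,1) = J i`, `JJ (X i) (1,-1,0) = J (i+1)`,
  `JJ (X i) (1,1,0) = J (i+2)`;
* `Tri.normalise` : common root groups;
* `Tri.cent` : an element centralising all `J i` is `v * d`, `v ∈ {1, c 0, c 1, c 2}`, `d` centralises all `K i`;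
* `NTri.step3` : `z 0 (1,0,1) * z j b = d`.
-/

set_option autoImplicit false
set_option linter.unusedSectionVars false
set_option linter.unusedVariables false

namespace Cfsg.Agent.OddHalf.NI3.Sol

open Subgroup Matrix
open Cfsg.Agent.OddHalf.NI (CompIn)

variable {G : Type*} [Group G] {F : Type} [Field F] [Fintype F]

theorem fin3 (i j : Fin 3) : i = j ∨ i = j + 1 ∨ i = j + 2 := by revert i j; decide

theorem fin3' {i j : Fin 3} (h : i ≠ j) : j = i + 1 ∨ j = i + 2 := by revert i j; decide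

/-- two components of `H` with a common non-abelian subgroup are equal -/
theorem comp_eq {H K L J : Subgroup G} (hK : CompIn H K) (hL : CompIn H L) (h1 : J ≤ K) (h2 : J ≤ L)
    (h3 : ¬ cm J J) : K = L := by
  by_contra hne
  apply h3
  intro a ha b hb
  have h4 := hK.comm hL hne (h1 ha)
  exact (mem_centralizer_iff.1 h4 b (h2 hb)).symm

theorem cm_of_JJ {X : V → Subgroup G} {u v : V} (h1 : cm (X u) (X v)) (h2 : cm (X u) (X (-v)))
    (h3 : cm (X (-u)) (X v)) (h4 : cm (X (-u)) (X (-v))) : cm (JJ X u) (JJ X v) := by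
  have key : ∀ A B C : Subgroup G, cm A B → cm A C → cm A (B ⊔ C) := by
    intro A B C hB hC a ha
    have : B ⊔ C ≤ centralizer ({a} : Set G) := by
      refine sup_le ?_ ?_
      · intro x hx
        rw [mem_centralizer_singleton_iff]
        exact (hB a ha x hx).symm
      · intro x hx
        rw [mem_centralizer_singleton_iff]
        exact (hC a ha x hx).symm
    intro b hb
    exact (mem_centralizer_singleton_iff.1 (this hb)).symm
  have sym : ∀ A B : Subgroup G, cm A B → cm B A := fun A B h a ha b hb => (h b hb a ha).symm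
  have h5 := key _ _ _ h1 h2
  have h6 := key _ _ _ h3 h4
  exact sym _ _ (key _ _ _ (sym _ _ h5) (sym _ _ h6))

theorem cm.symm {A B : Subgroup G} (h : cm A B) : cm B A := fun a ha b hb => (h b hb a ha).symm

section One

variable {K : Subgroup G} {c : G} {X : V → Subgroup G} {z : V → G}

theorem B3.JJ_comm (h : B3 F K c X z) {u v : V} (hu : IsR u) (hv : IsR v) (h1 : ¬ IsR (u + v)) (h2 : u + v ≠ 0)
    (h3 : ¬ IsR (u - v)) (h4 : u - v ≠ 0) : cm (JJ X u) (JJ X v) := by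
  have e1 : -u + v = -(u - v) := by abel
  have e2 : -u + -v = -(u + v) := by abel
  have nn : ∀ w : V, IsR (-w) → IsR w := fun w hw => by have := hw.neg; rwa [neg_neg] at this
  refine cm_of_JJ (h.comm u v hu hv h1 h2) (h.comm u (-v) hu hv.neg ?_ ?_) (h.comm (-u) v hu.neg hv ?_ ?_)
    (h.comm (-u) (-v) hu.neg hv.neg ?_ ?_)
  · rwa [← sub_eq_add_neg]
  · rwa [← sub_eq_add_neg]
  · rw [e1]; exact fun hw => h3 (nn _ hw)
  · rw [e1]; exact neg_ne_zero.2 h4
  · rw [e2]; exact fun hw => h1 (nn _ hw)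
  · rw [e2]; exact neg_ne_zero.2 h2

/-- the Weyl element acts on the `JJ` -/
theorem weyl_JJ {v : V} {n : G} (hn : ∀ u, IsR u → cj n (X u) = X (refl v u)) {u : V} (hu : IsR u) :
    cj n (JJ X u) = JJ X (refl v u) := by
  unfold JJ
  rw [cj_sup, hn u hu, hn _ hu.neg, refl_neg]

/-- and on the involutions -/
theorem B3.zconj (h : B3 F K c X z) {K' : Subgroup G} {c' : G} {X' : V → Subgroup G} {z' : V → G}
    (h' : B3 F K' c' X' z') {g : G} {u v : V} (hu : IsR u) (hv : IsR v) (he : cj g (JJ X u) = JJ X' v) :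
    g * z u * g⁻¹ = z' v := by
  apply h'.uniq hv
  · rw [← he, conj_mem_cj]; exact h.z_mem u hu
  · rw [← h.z_order u hu]
    exact (MulAut.conj g).orderOf_eq (z u)

theorem B3.zeq (h : B3 F K c X z) {K' : Subgroup G} {c' : G} {X' : V → Subgroup G} {z' : V → G}
    (h' : B3 F K' c' X' z') {u v : V} (hu : IsR u) (hv : IsR v) (he : JJ X u = JJ X' v) : z u = z' v := by
  have := h.zconj h' (g := 1) hu hv (by rw [cj_one, he])
  simpa using this

/-- the central involution commutes with everything in `K` -/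
theorem B3.c_comm' (h : B3 F K c X z) {x : G} (hx : x ∈ K) : x * c * x⁻¹ = c := by
  rw [← h.c_comm x hx]; group

end One

/-- the three groups -/
structure Tri (F : Type) [Field F] [Fintype F] (K : Fin 3 → Subgroup G) (c : Fin 3 → G)
    (X : Fin 3 → V → Subgroup G) (z : Fin 3 → V → G) : Prop where
  full : ∀ i, Full F (K i) (c i) (X i) (z i)
  j1 : ∀ i, JJ (X i) (1, -1, 0) = JJ (X (i + 1)) (0, 0, 1)
  j2 : ∀ i, JJ (X i) (1, 1, 0) = JJ (X (i + 2)) (0, 0, 1)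

variable {K : Fin 3 → Subgroup G} {c : Fin 3 → G} {X : Fin 3 → V → Subgroup G} {z : Fin 3 → V → G}

namespace Tri

theorem b3 (h : Tri F K c X z) (i : Fin 3) : B3 F (K i) (c i) (X i) (z i) := (h.full i).b3

theorem z1 (h : Tri F K c X z) (i : Fin 3) : z i (1, -1, 0) = c (i + 1) := by
  rw [← (h.b3 (i + 1)).z_short (0, 0, 1) (by decide)]
  exact (h.b3 i).zeq (h.b3 (i + 1)) (by decide) (by decide) (h.j1 i)

theorem z2 (h : Tri F K c X z) (i : Fin 3) : z i (1, 1, 0) = c (i + 2) := by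
  rw [← (h.b3 (i + 2)).z_short (0, 0, 1) (by decide)]
  exact (h.b3 i).zeq (h.b3 (i + 2)) (by decide) (by decide) (h.j2 i)

/-- `J j ≤ K i` -/
theorem J_le (h : Tri F K c X z) (i j : Fin 3) : JJ (X j) (0, 0, 1) ≤ K i := by
  have h0 := (h.b3 i).JJ_le (v := (0, 0, 1)) (by decide)
  have h1 := (h.b3 i).JJ_le (v := (1, -1, 0)) (by decide)
  have h2 := (h.b3 i).JJ_le (v := (1, 1, 0)) (by decide)
  rw [h.j1] at h1
  rw [h.j2] at h2
  have := fin3 j i
  rcases this with rfl | rfl | rfl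
  · exact h0
  · exact h1
  · exact h2

/-- distinct `J i` commute -/
theorem J_comm (h : Tri F K c X z) {i j : Fin 3} (hij : i ≠ j) : cm (JJ (X i) (0, 0, 1)) (JJ (X j) (0, 0, 1)) := by
  have h1 := (h.b3 i).JJ_comm (u := (0, 0, 1)) (v := (1, -1, 0)) (by decide) (by decide) (by decide) (by decide)
    (by decide) (by decide)
  have h2 := (h.b3 i).JJ_comm (u := (0, 0, 1)) (v := (1, 1, 0)) (by decide) (by decide) (by decide) (by decide)
    (by decide) (by decide)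
  rw [h.j1] at h1
  rw [h.j2] at h2
  have := fin3' hij
  rcases this with rfl | rfl
  · exact h1
  · exact h2

theorem J_not_comm (h : Tri F K c X z) (i : Fin 3) : ¬ cm (JJ (X i) (0, 0, 1)) (JJ (X i) (0, 0, 1)) :=
  (h.b3 i).JJ_not_comm (by decide)

theorem c_mem_J (h : Tri F K c X z) (i : Fin 3) : c i ∈ JJ (X i) (0, 0, 1) := by
  rw [← (h.b3 i).z_short (0, 0, 1) (by decide)]
  exact (h.b3 i).z_mem _ (by decide)

/-- `c j` centralises `J i` -/
theorem c_J (h : Tri F K c X z) (i j : Fin 3) : ∀ x ∈ JJ (X i) (0, 0, 1), c j * x = x * c j :=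
  fun x hx => (h.b3 j).c_comm x (h.J_le j i hx)

/-- an element centralising the `J i` normalises the `K i` -/
theorem norm (h : Tri F K c X z) {f : G} (hf : ∀ i, ∀ x ∈ JJ (X i) (0, 0, 1), f * x = x * f) (i : Fin 3) :
    cj f (K i) = K i := by
  have h1 := CompIn.cj' (h.full i).comp f
  rw [cj_centralizer_singleton] at h1
  have h2 : f * c i * f⁻¹ = c i := by rw [hf i (c i) (h.c_mem_J i)]; group
  rw [h2] at h1
  refine comp_eq h1 (h.full i).comp (J := JJ (X i) (0, 0, 1)) ?_ (h.J_le i i) (h.J_not_comm i)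
  rw [← cj_eq_of_comm (hf i)]
  exact cj_mono f (h.J_le i i)

/-- `K 0` is conjugate to `K 2` by an element of `K 1` -/
theorem conj02 (h : Tri F K c X z) : ∃ k ∈ K 1, K 0 = cj k (K 2) := by
  obtain ⟨k, hk, hn⟩ := (h.b3 1).weyl (0, 1, 0) (by decide)
  have hkK : k ∈ K 1 := (h.b3 1).JJ_le (by decide) hk
  refine ⟨k, hkK, ?_⟩
  have h1 := CompIn.cj' (h.full 2).comp k
  rw [cj_centralizer_singleton] at h1
  have h2 : k * c 2 * k⁻¹ = c 0 := by
    have e1 : z 1 (1, -1, 0) = c 2 := h.z1 1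
    have e2 : z 1 (1, 1, 0) = c 0 := h.z2 1
    rw [← e1, ← e2]
    exact (h.b3 1).zconj (h.b3 1) (by decide) (by decide) (weyl_JJ hn (by decide))
  rw [h2] at h1
  refine comp_eq (h.full 0).comp h1 (J := JJ (X 1) (0, 0, 1)) (h.J_le 0 1) ?_ (h.J_not_comm 1)
  have h3 : cj k (JJ (X 1) (0, 0, 1)) = JJ (X 1) (0, 0, 1) := weyl_JJ hn (by decide)
  rw [← h3]
  exact cj_mono k (h.J_le 2 1)

/-- **(D)** -/
theorem cent (h : Tri F K c X z) {f : G} (hf : ∀ i, ∀ x ∈ JJ (X i) (0, 0, 1), f * x = x * f) :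
    ∃ v, (v = 1 ∨ ∃ i, v = c i) ∧ ∀ i, ∀ x ∈ K i, (f * v) * x = x * (f * v) := by
  -- `f * v` still centralises the `J i`
  have hfc : ∀ f' : G, (∀ i, ∀ x ∈ JJ (X i) (0, 0, 1), f' * x = x * f') → ∀ j, ∀ i, ∀ x ∈ JJ (X i) (0, 0, 1),
      (f' * c j) * x = x * (f' * c j) := by
    intro f' hf' j i x hx
    rw [mul_assoc, h.c_J i j x hx, ← mul_assoc, hf' i x hx, mul_assoc]
  have hcc : ∀ i, c i * c i = 1 := by
    intro i
    have := pow_orderOf_eq_one (c i)
    rwa [(h.b3 i).c_order, pow_two] at this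
  -- on `K i`
  have act : ∀ i, ∀ f' : G, (∀ j, ∀ x ∈ JJ (X j) (0, 0, 1), f' * x = x * f') →
      (∀ x ∈ K i, f' * x = x * f') ∨ (∀ x ∈ K i, (f' * c (i + 2)) * x = x * (f' * c (i + 2))) := by
    intro i f' hf'
    rw [← h.z2 i]
    refine (h.full i).five f' (h.norm hf' i) (hf' i) ?_ ?_
    · rw [h.j1]; exact hf' _
    · rw [h.j2]; exact hf' _
  -- first `K 1`
  obtain ⟨v1, hv1, h1, h1'⟩ : ∃ v1, (v1 = 1 ∨ v1 = c 0) ∧ (∀ j, ∀ x ∈ JJ (X j) (0, 0, 1), (f * v1) * x = x * (f * v1)) ∧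
      ∀ x ∈ K 1, (f * v1) * x = x * (f * v1) := by
    rcases act 1 f hf with h2 | h2
    · exact ⟨1, Or.inl rfl, by simpa using hf, by simpa using h2⟩
    · exact ⟨c 0, Or.inr rfl, hfc f hf 0, h2⟩
  obtain ⟨v2, hv2, h2⟩ : ∃ v2, (v2 = 1 ∨ v2 = c 1) ∧ ∀ x ∈ K 2, (f * v1 * v2) * x = x * (f * v1 * v2) := by
    rcases act 2 _ h1 with h2 | h2
    · exact ⟨1, Or.inl rfl, by simpa using h2⟩
    · exact ⟨c 1, Or.inr rfl, h2⟩
  have h3 : ∀ x ∈ K 1, (f * v1 * v2) * x = x * (f * v1 * v2) := by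
    intro x hx
    rcases hv2 with rfl | rfl
    · simpa using h1' x hx
    · rw [mul_assoc, (h.b3 1).c_comm x hx, ← mul_assoc, h1' x hx, mul_assoc]
  have h4 : ∀ x ∈ K 0, (f * v1 * v2) * x = x * (f * v1 * v2) := by
    obtain ⟨k, hk, h5⟩ := h.conj02
    intro x hx
    rw [h5, mem_cj] at hx
    have h6 := h2 _ hx
    have h7 := h3 k hk
    have h8 := h3 k⁻¹ (inv_mem hk)
    calc (f * v1 * v2) * x = (f * v1 * v2) * k * (k⁻¹ * x * k) * k⁻¹ := by group
      _ = k * ((f * v1 * v2) * (k⁻¹ * x * k)) * k⁻¹ := by rw [h7]; group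
      _ = k * (k⁻¹ * x * k) * ((f * v1 * v2) * k⁻¹) := by rw [h6]; group
      _ = x * (f * v1 * v2) := by rw [h8]; group
  have h5 : ∀ i, ∀ x ∈ K i, (f * (v1 * v2)) * x = x * (f * (v1 * v2)) := by
    rw [← mul_assoc]
    intro i
    fin_cases i
    · exact h4
    · exact h3
    · exact h2
  refine ⟨v1 * v2, ?_, h5⟩
  have e : c 0 * c 1 = c 2 := by
    have h6 := (h.b3 2).z_orth (1, -1, 0) (1, 1, 0) (by decide) (by decide) (by decide)
    have e1 : z 2 (1, -1, 0) = c 0 := h.z1 2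
    have e2 : z 2 (1, 1, 0) = c 1 := h.z2 2
    rwa [e1, e2] at h6
  rcases hv1 with rfl | rfl <;> rcases hv2 with rfl | rfl
  · exact Or.inl (one_mul 1)
  · exact Or.inr ⟨1, one_mul _⟩
  · exact Or.inr ⟨0, mul_one _⟩
  · exact Or.inr ⟨2, e⟩

end Tri

/-- with common root groups -/
structure NTri (F : Type) [Field F] [Fintype F] (K : Fin 3 → Subgroup G) (c : Fin 3 → G)
    (X : Fin 3 → V → Subgroup G) (z : Fin 3 → V → G) : Prop extends Tri F K c X z where
  s1 : ∀ i, X i (1, -1, 0) = X (i + 1) (0, 0, 1)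
  s1' : ∀ i, X i (-1, 1, 0) = X (i + 1) (0, 0, -1)
  s2 : ∀ i, X i (1, 1, 0) = X (i + 2) (0, 0, 1)
  s2' : ∀ i, X i (-1, -1, 0) = X (i + 2) (0, 0, -1)

theorem Tri.normalise (h : Tri F K c X z) : ∃ X' z', NTri F K c X' z' := by
  have hex : ∀ i, ∃ g ∈ K i, cj g (X i (1, -1, 0)) = X (i + 1) (0, 0, 1) ∧
      cj g (X i (-1, 1, 0)) = X (i + 1) (0, 0, -1) ∧ cj g (X i (1, 1, 0)) = X (i + 2) (0, 0, 1) ∧
      cj g (X i (-1, -1, 0)) = X (i + 2) (0, 0, -1) ∧ cj g (X i (0, 0, 1)) = X i (0, 0, 1) ∧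
      cj g (X i (0, 0, -1)) = X i (0, 0, -1) := by
    intro i
    have e1 : -((1, -1, 0) : V) = (-1, 1, 0) := by decide
    have e2 : -((1, 1, 0) : V) = (-1, -1, 0) := by decide
    have e3 : -((0, 0, 1) : V) = (0, 0, -1) := by decide
    have H := h.b3 i
    have l1 : X (i + 1) (0, 0, 1) ≤ JJ (X i) (1, -1, 0) := by rw [h.j1]; exact B3.le_JJ _
    have l1' : X (i + 1) (0, 0, -1) ≤ JJ (X i) (1, -1, 0) := by
      rw [h.j1, ← e3]; exact B3.neg_le_JJ _
    have l2 : X (i + 2) (0, 0, 1) ≤ JJ (X i) (1, 1, 0) := by rw [h.j2]; exact B3.le_JJ _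
    have l2' : X (i + 2) (0, 0, -1) ≤ JJ (X i) (1, 1, 0) := by
      rw [h.j2, ← e3]; exact B3.neg_le_JJ _
    have m1' : X i (-1, 1, 0) ≤ JJ (X i) (1, -1, 0) := by rw [← e1]; exact B3.neg_le_JJ _
    have m2' : X i (-1, -1, 0) ≤ JJ (X i) (1, 1, 0) := by rw [← e2]; exact B3.neg_le_JJ _
    obtain ⟨a, ha, a1, a2⟩ := two_trans (H.sl (1, -1, 0) (by decide)) (B3.le_JJ _) m1' l1 l1'
      (H.natcard (by decide)) (H.natcard (by decide)) ((h.b3 (i + 1)).natcard (by decide))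
      ((h.b3 (i + 1)).natcard (by decide)) (by rw [← e1]; exact H.X_ne (by decide))
      (by rw [← e3]; exact (h.b3 (i + 1)).X_ne (by decide))
    obtain ⟨b, hb, b1, b2⟩ := two_trans (H.sl (1, 1, 0) (by decide)) (B3.le_JJ _) m2' l2 l2'
      (H.natcard (by decide)) (H.natcard (by decide)) ((h.b3 (i + 2)).natcard (by decide))
      ((h.b3 (i + 2)).natcard (by decide)) (by rw [← e2]; exact H.X_ne (by decide))
      (by rw [← e3]; exact (h.b3 (i + 2)).X_ne (by decide))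
    have c01 := H.JJ_comm (u := (1, -1, 0)) (v := (0, 0, 1)) (by decide) (by decide) (by decide) (by decide)
      (by decide) (by decide)
    have c02 := H.JJ_comm (u := (1, 1, 0)) (v := (0, 0, 1)) (by decide) (by decide) (by decide) (by decide)
      (by decide) (by decide)
    have c12 := H.JJ_comm (u := (1, -1, 0)) (v := (1, 1, 0)) (by decide) (by decide) (by decide) (by decide)
      (by decide) (by decide)
    have ca : ∀ A : Subgroup G, A ≤ JJ (X i) (0, 0, 1) ∨ A ≤ JJ (X i) (1, 1, 0) → cj a A = A := by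
      rintro A (hA | hA)
      · exact cj_eq_of_comm fun x hx => c01 a ha x (hA hx)
      · exact cj_eq_of_comm fun x hx => c12 a ha x (hA hx)
    have cb : ∀ A : Subgroup G, A ≤ JJ (X i) (0, 0, 1) ∨ A ≤ JJ (X i) (1, -1, 0) → cj b A = A := by
      rintro A (hA | hA)
      · exact cj_eq_of_comm fun x hx => c02 b hb x (hA hx)
      · exact cj_eq_of_comm fun x hx => (c12 x (hA hx) b hb).symm
    have m0' : X i (0, 0, -1) ≤ JJ (X i) (0, 0, 1) := by rw [← e3]; exact B3.neg_le_JJ _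
    refine ⟨a * b, mul_mem (H.JJ_le (by decide) ha) (H.JJ_le (by decide) hb), ?_, ?_, ?_, ?_, ?_, ?_⟩
    · rw [cj_mul, cb _ (Or.inr (B3.le_JJ _)), a1]
    · rw [cj_mul, cb _ (Or.inr m1'), a2]
    · rw [cj_mul, b1, ca _ (Or.inr l2)]
    · rw [cj_mul, b2, ca _ (Or.inr l2')]
    · rw [cj_mul, cb _ (Or.inl (B3.le_JJ _)), ca _ (Or.inl (B3.le_JJ _))]
    · rw [cj_mul, cb _ (Or.inl m0'), ca _ (Or.inl m0')]
  choose g hg g1 g1' g2 g2' g0 g0' using hex
  have e1 : -((1, -1, 0) : V) = (-1, 1, 0) := by decide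
  have e2 : -((1, 1, 0) : V) = (-1, -1, 0) := by decide
  have e3 : -((0, 0, 1) : V) = (0, 0, -1) := by decide
  refine ⟨fun i v => cj (g i) (X i v), fun i v => g i * z i v * (g i)⁻¹, ⟨fun i => ?_, fun i => ?_, fun i => ?_⟩,
    fun i => ?_, fun i => ?_, fun i => ?_, fun i => ?_⟩
  · have h1 := (h.full i).conj (g i)
    rwa [cj_eq_of_mem (hg i), (h.b3 i).c_comm' (hg i)] at h1
  · unfold JJ
    rw [e1, e3]
    change cj (g i) (X i (1, -1, 0)) ⊔ cj (g i) (X i (-1, 1, 0)) =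
      cj (g (i + 1)) (X (i + 1) (0, 0, 1)) ⊔ cj (g (i + 1)) (X (i + 1) (0, 0, -1))
    rw [g1, g1', g0, g0']
  · unfold JJ
    rw [e2, e3]
    change cj (g i) (X i (1, 1, 0)) ⊔ cj (g i) (X i (-1, -1, 0)) =
      cj (g (i + 2)) (X (i + 2) (0, 0, 1)) ⊔ cj (g (i + 2)) (X (i + 2) (0, 0, -1))
    rw [g2, g2', g0, g0']
  · rw [g1, g0]
  · rw [g1', g0']
  · rw [g2, g0]
  · rw [g2', g0']

namespace NTri

/-- `z j (1,0,1)` inverts the common root groups -/
theorem inv_common (h : NTri F K c X z) (i j : Fin 3) :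
    (∀ x ∈ X i (0, 0, 1), z j (1, 0, 1) * x * (z j (1, 0, 1))⁻¹ = x⁻¹) ∧
      (∀ x ∈ X i (0, 0, -1), z j (1, 0, 1) * x * (z j (1, 0, 1))⁻¹ = x⁻¹) := by
  have H := h.b3 j
  have := fin3 i j
  rcases this with rfl | rfl | rfl
  · exact ⟨H.inverts (by decide) (by decide) (by decide), H.inverts (by decide) (by decide) (by decide)⟩
  · rw [← h.s1, ← h.s1']
    exact ⟨H.inverts (by decide) (by decide) (by decide), H.inverts (by decide) (by decide) (by decide)⟩
  · rw [← h.s2, ← h.s2']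
    exact ⟨H.inverts (by decide) (by decide) (by decide), H.inverts (by decide) (by decide) (by decide)⟩

/-- `z 0 (1,0,1) * z j b` centralises all `K i` -/
theorem step3 (h : NTri F K c X z) (j : Fin 3) :
    ∃ b, IsB b ∧ ∀ i, ∀ x ∈ K i, (z 0 (1, 0, 1) * z j b) * x = x * (z 0 (1, 0, 1) * z j b) := by
  have H := h.b3 j
  have h1 : ∀ i, ∀ x ∈ JJ (X i) (0, 0, 1), (z 0 (1, 0, 1) * z j (1, 0, 1)) * x =
      x * (z 0 (1, 0, 1) * z j (1, 0, 1)) := by
    intro i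
    have key : ∀ A : Subgroup G, (∀ x ∈ A, z 0 (1, 0, 1) * x * (z 0 (1, 0, 1))⁻¹ = x⁻¹) →
        (∀ x ∈ A, z j (1, 0, 1) * x * (z j (1, 0, 1))⁻¹ = x⁻¹) →
        A ≤ centralizer ({z 0 (1, 0, 1) * z j (1, 0, 1)} : Set G) := by
      intro A hA1 hA2 x hx
      rw [mem_centralizer_singleton_iff]
      have e1 := hA2 x hx
      have e2 := hA1 _ (inv_mem hx)
      have e3 : z 0 (1, 0, 1) * z j (1, 0, 1) * x * (z j (1, 0, 1))⁻¹ * (z 0 (1, 0, 1))⁻¹ = x := by
        calc z 0 (1, 0, 1) * z j (1, 0, 1) * x * (z j (1, 0, 1))⁻¹ * (z 0 (1, 0, 1))⁻¹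
            = z 0 (1, 0, 1) * (z j (1, 0, 1) * x * (z j (1, 0, 1))⁻¹) * (z 0 (1, 0, 1))⁻¹ := by group
          _ = x := by rw [e1, e2, inv_inv]
      calc x * (z 0 (1, 0, 1) * z j (1, 0, 1))
          = (z 0 (1, 0, 1) * z j (1, 0, 1) * x * (z j (1, 0, 1))⁻¹ * (z 0 (1, 0, 1))⁻¹) *
            (z 0 (1, 0, 1) * z j (1, 0, 1)) := by rw [e3]
        _ = z 0 (1, 0, 1) * z j (1, 0, 1) * x := by group
    have h2 : JJ (X i) (0, 0, 1) ≤ centralizer ({z 0 (1, 0, 1) * z j (1, 0, 1)} : Set G) :=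
      sup_le (key _ (h.inv_common i 0).1 (h.inv_common i j).1) (key _ (h.inv_common i 0).2 (h.inv_common i j).2)
    intro x hx
    exact (mem_centralizer_singleton_iff.1 (h2 hx)).symm
  obtain ⟨v, hv, h2⟩ := h.cent h1
  obtain ⟨b, hb, h3⟩ : ∃ b, IsB b ∧ z j (1, 0, 1) * v = z j b := by
    have sq := H.z_sq (v := (1, 0, 1)) (by decide)
    rcases hv with rfl | ⟨i, rfl⟩
    · exact ⟨(1, 0, 1), Or.inl rfl, mul_one _⟩
    · have := fin3 i j
      rcases this with rfl | rfl | rfl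
      · refine ⟨(1, 0, -1), Or.inr (Or.inl rfl), ?_⟩
        have e := H.z_orth (1, 0, 1) (1, 0, -1) (by decide) (by decide) (by decide)
        rw [← e, ← mul_assoc, sq, one_mul]
      · refine ⟨(0, 1, 1), Or.inr (Or.inr (Or.inl rfl)), ?_⟩
        have e : z j (1, -1, 0) * z j (0, 1, 1) = z j (1, 0, 1) :=
          H.z_add (1, -1, 0) (0, 1, 1) (by decide) (by decide) (by decide)
        rw [← h.z1 j, ← H.z_inv (v := (1, 0, 1)) (by decide), ← e, _root_.mul_inv_rev, H.z_inv (by decide),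
          H.z_inv (by decide), mul_assoc, H.z_sq (by decide), mul_one]
      · refine ⟨(0, 1, -1), Or.inr (Or.inr (Or.inr rfl)), ?_⟩
        have e : z j (1, 1, 0) * z j (0, -1, 1) = z j (1, 0, 1) :=
          H.z_add (1, 1, 0) (0, -1, 1) (by decide) (by decide) (by decide)
        have e' : z j (0, -1, 1) = z j (0, 1, -1) := by
          have e0 := H.z_neg (0, 1, -1) (by decide)
          rwa [show (-((0, 1, -1) : V)) = (0, -1, 1) by decide] at e0
        rw [e'] at e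
        rw [← h.z2 j, ← H.z_inv (v := (1, 0, 1)) (by decide), ← e, _root_.mul_inv_rev, H.z_inv (by decide),
          H.z_inv (by decide), mul_assoc, H.z_sq (by decide), mul_one]
  refine ⟨b, hb, ?_⟩
  rw [← h3, ← mul_assoc]
  exact h2

end NTri

end Cfsg.Agent.OddHalf.NI3.Sol

end

-- merged: Cfsg.Agent.OddHalf.NI3.Sol.End2
section

/-!
# Solomon's configuration: the end, on `B₃`-charts in standard coordinates

`end_false`: three `B₃`-charts `X1 X2 X3` with common root groups in `J₁, J₂, J₃`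
(`JJ X_l (0,0,1) = J_l`, `JJ X_l (1,1,0) = J_{l+1}`, `JJ X_l (1,-1,0) = J_{l+2}`) and a fourth one `Y`
with `Y (±e₁) = X3 (±(1,0,1))`, `Y (±e₂) = X1 (±β)`, `Y (±e₃) = X2 (±γ)` are contradictory.
-/

set_option autoImplicit false

namespace Cfsg.Agent.OddHalf.NI3.Sol

open Subgroup

variable {G : Type*} [Group G]

theorem B3.toRel {F : Type} [Field F] [Fintype F] {K : Subgroup G} {c : G} {X : V → Subgroup G}
    {z : V → G} (h : B3 F K c X z) : Rel X := ⟨h.comm, h.ncomm, h.gen⟩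

namespace Adapt

/-- coordinates of `K₁` -/
def p1 (x : V) : V := ((x.2.1 + x.2.2) / 2, (x.2.1 - x.2.2) / 2, x.1 / 2)

/-- coordinates of `K₂` -/
def p2 (x : V) : V := ((x.1 + x.2.2) / 2, (x.2.2 - x.1) / 2, x.2.1 / 2)

/-- coordinates of `K₃` -/
def p3 (x : V) : V := ((x.1 + x.2.1) / 2, (x.1 - x.2.1) / 2, x.2.2 / 2)

theorem commute_sup {A B C D : Subgroup G} (hD : D ≤ B ⊔ C) (h1 : Core.Cm A B)
    (h2 : Core.Cm A C) : Core.Cm A D := by
  intro a ha d hd
  have hB : B ≤ centralizer ({a} : Set G) := fun b hb =>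
    mem_centralizer_singleton_iff.mpr (h1 a ha b hb).symm
  have hC : C ≤ centralizer ({a} : Set G) := fun b hb =>
    mem_centralizer_singleton_iff.mpr (h2 a ha b hb).symm
  exact (mem_centralizer_singleton_iff.mp (sup_le hB hC (hD hd))).symm

theorem chart {X Z : V → Subgroup G} {R : List V} {p : V → V} (r : Rel X)
    (hX : ∀ x ∈ R, Z x = X (p x)) (h0 : ∀ x ∈ R, IsR (p x))
    (h1 : ∀ y ∈ R, ∀ z ∈ R, y + z ∈ R → IsR (p y + p z) ∧ p (y + z) = p y + p z)
    (h2 : ∀ y ∈ R, ∀ z ∈ R, y + z ∉ R → ¬ IsR (p y + p z))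
    (h3 : ∀ y ∈ R, ∀ z ∈ R, y + z ≠ 0 → p y + p z ≠ 0) : Core.Chart R Z where
  comm y hy z hz h h' := by
    rw [hX y hy, hX z hz]
    exact r.comm _ _ (h0 y hy) (h0 z hz) (h2 y hy z hz h) (h3 y hy z hz h')
  ncomm y hy z hz h := by
    rw [hX y hy, hX z hz]
    exact r.ncomm _ _ (h0 y hy) (h0 z hz) (h1 y hy z hz h).1
  gen y hy z hz h A hA hB := by
    rw [hX _ h, (h1 y hy z hz h).2]
    rw [hX y hy] at hA
    rw [hX z hz] at hB
    exact commute_sup (r.gen _ _ (h0 y hy) (h0 z hz) (h1 y hy z hz h).1) hA hB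

/-- all root groups of `K₁, K₂, K₃` -/
def XX (X1 X2 X3 : V → Subgroup G) (x : V) : Subgroup G :=
  if x ∈ Core.R3 then X3 (p3 x) else if x ∈ Core.R1 then X1 (p1 x) else X2 (p2 x)

/-- the eight long roots of `K_l` outside `J_{l+1} J_{l+2}` -/
def eight : List V :=
  [(1, 0, 1), (1, 0, -1), (-1, 0, 1), (-1, 0, -1), (0, 1, 1), (0, 1, -1), (0, -1, 1), (0, -1, -1)]

theorem mem_eight : ∀ v ∈ longL, v.2.2 ≠ 0 → v ∈ eight := by decide

theorem mem_of_dot : ∀ v ∈ eight, ∀ u ∈ shortL ++ longL, dot u v = 0 →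
    u = (v.1, v.2.1, -v.2.2) ∨ u = (-v.1, -v.2.1, v.2.2) ∨ u = (v.2.1, v.1, 0) ∨
      u = (-v.2.1, -v.1, 0) := by decide

end Adapt

open Adapt in
/-- **The end of Solomon's configuration.** -/
theorem end_false {X1 X2 X3 Y : V → Subgroup G} (r1 : Rel X1) (r2 : Rel X2) (r3 : Rel X3)
    (ry : Rel Y)
    (c : ∀ e : ℤ, e = 1 ∨ e = -1 →
      X1 (0, 0, e) = X3 (e, e, 0) ∧ X1 (0, 0, e) = X2 (e, -e, 0) ∧
      X2 (0, 0, e) = X1 (e, e, 0) ∧ X2 (0, 0, e) = X3 (e, -e, 0) ∧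
      X3 (0, 0, e) = X2 (e, e, 0) ∧ X3 (0, 0, e) = X1 (e, -e, 0))
    (n1 : ∃ n : G, ∀ u, IsR u → cj n (X1 u) = X1 (refl (0, 0, 1) u) ∧
      cj n (X2 u) = X2 (refl (1, -1, 0) u) ∧ cj n (X3 u) = X3 (refl (1, 1, 0) u))
    (n2 : ∃ n : G, ∀ u, IsR u → cj n (X2 u) = X2 (refl (0, 0, 1) u) ∧
      cj n (X3 u) = X3 (refl (1, -1, 0) u) ∧ cj n (X1 u) = X1 (refl (1, 1, 0) u))
    (n3 : ∃ n : G, ∀ u, IsR u → cj n (X3 u) = X3 (refl (0, 0, 1) u) ∧
      cj n (X1 u) = X1 (refl (1, -1, 0) u) ∧ cj n (X2 u) = X2 (refl (1, 1, 0) u))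
    {β γ : V} (hβ : IsL β) (hβ0 : β.2.2 ≠ 0) (hγ : IsL γ) (hγ0 : γ.2.2 ≠ 0)
    (a_pos : Y (1, 0, 0) = X3 (1, 0, 1)) (a_neg : Y (-1, 0, 0) = X3 (-1, 0, -1))
    (b_pos : Y (0, 1, 0) = X1 β) (b_neg : Y (0, -1, 0) = X1 (-β))
    (c_pos : Y (0, 0, 1) = X2 γ) (c_neg : Y (0, 0, -1) = X2 (-γ))
    (m3 : ∀ e f : ℤ, (e = 1 ∨ e = -1) → (f = 1 ∨ f = -1) →
      ∃ u, IsR u ∧ dot u γ = 0 ∧ Y (e, f, 0) = X2 u)
    (m2 : ∀ e f : ℤ, (e = 1 ∨ e = -1) → (f = 1 ∨ f = -1) →
      ∃ u, IsR u ∧ dot u β = 0 ∧ Y (e, 0, f) = X1 u)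
    (m1 : ∀ e f : ℤ, (e = 1 ∨ e = -1) → (f = 1 ∨ f = -1) →
      ∃ u, IsR u ∧ dot u (1, 0, 1) = 0 ∧ Y (0, e, f) = X3 u) : False := by
  obtain ⟨cp1, cp2, cp3, cp4, cp5, cp6⟩ := c 1 (Or.inl rfl)
  obtain ⟨cn1, cn2, cn3, cn4, cn5, cn6⟩ := c (-1) (Or.inr rfl)
  have H3 : ∀ x ∈ Core.R3, XX X1 X2 X3 x = X3 (p3 x) := fun x hx => if_pos hx
  have e13 : ∀ x ∈ Core.R1, x ∈ Core.R3 → X3 (p3 x) = X1 (p1 x) := by
    have key : ∀ x ∈ Core.R1, x ∈ Core.R3 →
        x = (2, 0, 0) ∨ x = (-2, 0, 0) ∨ x = (0, 2, 0) ∨ x = (0, -2, 0) ∨ x = (0, 0, 2) ∨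
          x = (0, 0, -2) := by decide
    intro x h1 h3
    rcases key x h1 h3 with rfl | rfl | rfl | rfl | rfl | rfl
    · exact cp1.symm
    · exact cn1.symm
    · exact cp4.symm.trans cp3
    · exact cn4.symm.trans cn3
    · exact cp6
    · exact cn6
  have e23 : ∀ x ∈ Core.R2, x ∈ Core.R3 → X3 (p3 x) = X2 (p2 x) := by
    have key : ∀ x ∈ Core.R2, x ∈ Core.R3 →
        x = (2, 0, 0) ∨ x = (-2, 0, 0) ∨ x = (0, 2, 0) ∨ x = (0, -2, 0) ∨ x = (0, 0, 2) ∨
          x = (0, 0, -2) := by decide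
    intro x h1 h3
    rcases key x h1 h3 with rfl | rfl | rfl | rfl | rfl | rfl
    · exact cp1.symm.trans cp2
    · exact cn1.symm.trans cn2
    · exact cp4.symm
    · exact cn4.symm
    · exact cp5
    · exact cn5
  have e21 : ∀ x ∈ Core.R2, x ∈ Core.R1 → x ∈ Core.R3 := by decide
  have H1 : ∀ x ∈ Core.R1, XX X1 X2 X3 x = X1 (p1 x) := by
    intro x hx
    by_cases h3 : x ∈ Core.R3
    · rw [H3 x h3, e13 x hx h3]
    · simp only [XX, if_neg h3, if_pos hx]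
  have H2 : ∀ x ∈ Core.R2, XX X1 X2 X3 x = X2 (p2 x) := by
    intro x hx
    by_cases h3 : x ∈ Core.R3
    · rw [H3 x h3, e23 x hx h3]
    · have h1 : x ∉ Core.R1 := fun h => h3 (e21 x hx h)
      simp only [XX, if_neg h3, if_neg h1]
  have hRX : ∀ x ∈ Core.RX, x ∈ Core.R1 ∨ x ∈ Core.R2 ∨ x ∈ Core.R3 := by
    intro x hx
    rcases List.mem_append.mp hx with h | h
    · rcases List.mem_append.mp h with h | h
      · exact Or.inl h
      · exact Or.inr (Or.inl h)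
    · exact Or.inr (Or.inr h)
  have cjm : ∀ {n g : G} {A B : Subgroup G}, cj n A = B → g ∈ A → n * g * n⁻¹ ∈ B := by
    rintro n g A B rfl hg
    exact mem_map.mpr ⟨g, hg, rfl⟩
  have hβ8 : β ∈ eight := mem_eight β hβ hβ0
  have hγ8 : γ ∈ eight := mem_eight γ hγ hγ0
  have sβ : ∀ v ∈ eight, ((v.2.2 = 1 ∨ v.2.2 = -1) ∧ (v.1 + v.2.1 = 1 ∨ v.1 + v.2.1 = -1) ∧
      (v.1 - v.2.1 = 1 ∨ v.1 - v.2.1 = -1)) := by decide
  obtain ⟨u1, u2, u3⟩ := sβ β hβ8
  obtain ⟨w1, w2, w3⟩ := sβ γ hγ8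
  -- the dual coordinates of `β` and `γ`
  have kβ : ∀ v ∈ eight,
      (2 * v.2.2, v.1 + v.2.1, v.1 - v.2.1) ∈ Core.R1 ∧
      p1 (2 * v.2.2, v.1 + v.2.1, v.1 - v.2.1) = v ∧
      (-(2 * v.2.2), -(v.1 + v.2.1), -(v.1 - v.2.1)) ∈ Core.R1 ∧
      p1 (-(2 * v.2.2), -(v.1 + v.2.1), -(v.1 - v.2.1)) = -v := by decide
  have kβ' : ∀ v ∈ eight,
      (-(2 * v.2.2), v.1 + v.2.1, v.1 - v.2.1) ∈ Core.R1 ∧
      p1 (-(2 * v.2.2), v.1 + v.2.1, v.1 - v.2.1) = (v.1, v.2.1, -v.2.2) ∧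
      (2 * v.2.2, -(v.1 + v.2.1), -(v.1 - v.2.1)) ∈ Core.R1 ∧
      p1 (2 * v.2.2, -(v.1 + v.2.1), -(v.1 - v.2.1)) = (-v.1, -v.2.1, v.2.2) := by decide
  have kβ'' : ∀ v ∈ eight,
      (0, v.1 + v.2.1, -(v.1 - v.2.1)) ∈ Core.R1 ∧
      p1 (0, v.1 + v.2.1, -(v.1 - v.2.1)) = (v.2.1, v.1, 0) ∧
      (0, -(v.1 + v.2.1), v.1 - v.2.1) ∈ Core.R1 ∧
      p1 (0, -(v.1 + v.2.1), v.1 - v.2.1) = (-v.2.1, -v.1, 0) := by decide
  have kγ : ∀ v ∈ eight,
      (v.1 - v.2.1, 2 * v.2.2, v.1 + v.2.1) ∈ Core.R2 ∧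
      p2 (v.1 - v.2.1, 2 * v.2.2, v.1 + v.2.1) = v ∧
      (-(v.1 - v.2.1), -(2 * v.2.2), -(v.1 + v.2.1)) ∈ Core.R2 ∧
      p2 (-(v.1 - v.2.1), -(2 * v.2.2), -(v.1 + v.2.1)) = -v := by decide
  have kγ' : ∀ v ∈ eight,
      (v.1 - v.2.1, -(2 * v.2.2), v.1 + v.2.1) ∈ Core.R2 ∧
      p2 (v.1 - v.2.1, -(2 * v.2.2), v.1 + v.2.1) = (v.1, v.2.1, -v.2.2) ∧
      (-(v.1 - v.2.1), 2 * v.2.2, -(v.1 + v.2.1)) ∈ Core.R2 ∧
      p2 (-(v.1 - v.2.1), 2 * v.2.2, -(v.1 + v.2.1)) = (-v.1, -v.2.1, v.2.2) := by decide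
  have kγ'' : ∀ v ∈ eight,
      (v.1 - v.2.1, 0, -(v.1 + v.2.1)) ∈ Core.R2 ∧
      p2 (v.1 - v.2.1, 0, -(v.1 + v.2.1)) = (-v.2.1, -v.1, 0) ∧
      (-(v.1 - v.2.1), 0, v.1 + v.2.1) ∈ Core.R2 ∧
      p2 (-(v.1 - v.2.1), 0, v.1 + v.2.1) = (v.2.1, v.1, 0) := by decide
  obtain ⟨b1, b1', b2, b2'⟩ := kβ β hβ8
  obtain ⟨b3, b3', b4, b4'⟩ := kβ' β hβ8
  obtain ⟨b5, b5', b6, b6'⟩ := kβ'' β hβ8
  obtain ⟨g1, g1', g2, g2'⟩ := kγ γ hγ8
  obtain ⟨g3, g3', g4, g4'⟩ := kγ' γ hγ8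
  obtain ⟨g5, g5', g6, g6'⟩ := kγ'' γ hγ8
  have C : Core.Conf G β.2.2 (β.1 + β.2.1) (β.1 - β.2.1) (γ.1 - γ.2.1) γ.2.2 (γ.1 + γ.2.1) :=
    { X := XX X1 X2 X3
      Y := Y
      c1 := chart r1 H1 (by decide) (by decide) (by decide) (by decide)
      c2 := chart r2 H2 (by decide) (by decide) (by decide) (by decide)
      c3 := chart r3 H3 (by decide) (by decide) (by decide) (by decide)
      cw := chart (p := id) ry (fun _ _ => rfl) (by decide) (by decide) (by decide) (by decide)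
      n1 := by
        obtain ⟨n, hn⟩ := n1
        refine ⟨n, fun v hv g hg => ?_⟩
        rcases hRX v hv with h | h | h
        · have k : ∀ x ∈ Core.R1, (-x.1, x.2.1, x.2.2) ∈ Core.R1 ∧ IsR (p1 x) ∧
              p1 (-x.1, x.2.1, x.2.2) = refl (0, 0, 1) (p1 x) := by decide
          obtain ⟨k1, k2, k3⟩ := k v h
          rw [H1 _ k1, k3]
          exact cjm (hn _ k2).1 (H1 v h ▸ hg)
        · have k : ∀ x ∈ Core.R2, (-x.1, x.2.1, x.2.2) ∈ Core.R2 ∧ IsR (p2 x) ∧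
              p2 (-x.1, x.2.1, x.2.2) = refl (1, -1, 0) (p2 x) := by decide
          obtain ⟨k1, k2, k3⟩ := k v h
          rw [H2 _ k1, k3]
          exact cjm (hn _ k2).2.1 (H2 v h ▸ hg)
        · have k : ∀ x ∈ Core.R3, (-x.1, x.2.1, x.2.2) ∈ Core.R3 ∧ IsR (p3 x) ∧
              p3 (-x.1, x.2.1, x.2.2) = refl (1, 1, 0) (p3 x) := by decide
          obtain ⟨k1, k2, k3⟩ := k v h
          rw [H3 _ k1, k3]
          exact cjm (hn _ k2).2.2 (H3 v h ▸ hg)
      n2 := by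
        obtain ⟨n, hn⟩ := n2
        refine ⟨n, fun v hv g hg => ?_⟩
        rcases hRX v hv with h | h | h
        · have k : ∀ x ∈ Core.R1, (x.1, -x.2.1, x.2.2) ∈ Core.R1 ∧ IsR (p1 x) ∧
              p1 (x.1, -x.2.1, x.2.2) = refl (1, 1, 0) (p1 x) := by decide
          obtain ⟨k1, k2, k3⟩ := k v h
          rw [H1 _ k1, k3]
          exact cjm (hn _ k2).2.2 (H1 v h ▸ hg)
        · have k : ∀ x ∈ Core.R2, (x.1, -x.2.1, x.2.2) ∈ Core.R2 ∧ IsR (p2 x) ∧
              p2 (x.1, -x.2.1, x.2.2) = refl (0, 0, 1) (p2 x) := by decide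
          obtain ⟨k1, k2, k3⟩ := k v h
          rw [H2 _ k1, k3]
          exact cjm (hn _ k2).1 (H2 v h ▸ hg)
        · have k : ∀ x ∈ Core.R3, (x.1, -x.2.1, x.2.2) ∈ Core.R3 ∧ IsR (p3 x) ∧
              p3 (x.1, -x.2.1, x.2.2) = refl (1, -1, 0) (p3 x) := by decide
          obtain ⟨k1, k2, k3⟩ := k v h
          rw [H3 _ k1, k3]
          exact cjm (hn _ k2).2.1 (H3 v h ▸ hg)
      n3 := by
        obtain ⟨n, hn⟩ := n3
        refine ⟨n, fun v hv g hg => ?_⟩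
        rcases hRX v hv with h | h | h
        · have k : ∀ x ∈ Core.R1, (x.1, x.2.1, -x.2.2) ∈ Core.R1 ∧ IsR (p1 x) ∧
              p1 (x.1, x.2.1, -x.2.2) = refl (1, -1, 0) (p1 x) := by decide
          obtain ⟨k1, k2, k3⟩ := k v h
          rw [H1 _ k1, k3]
          exact cjm (hn _ k2).2.1 (H1 v h ▸ hg)
        · have k : ∀ x ∈ Core.R2, (x.1, x.2.1, -x.2.2) ∈ Core.R2 ∧ IsR (p2 x) ∧
              p2 (x.1, x.2.1, -x.2.2) = refl (1, 1, 0) (p2 x) := by decide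
          obtain ⟨k1, k2, k3⟩ := k v h
          rw [H2 _ k1, k3]
          exact cjm (hn _ k2).2.2 (H2 v h ▸ hg)
        · have k : ∀ x ∈ Core.R3, (x.1, x.2.1, -x.2.2) ∈ Core.R3 ∧ IsR (p3 x) ∧
              p3 (x.1, x.2.1, -x.2.2) = refl (0, 0, 1) (p3 x) := by decide
          obtain ⟨k1, k2, k3⟩ := k v h
          rw [H3 _ k1, k3]
          exact cjm (hn _ k2).1 (H3 v h ▸ hg)
      a_pos := by rw [a_pos, H3 _ (by decide)]; rfl
      a_neg := by rw [a_neg, H3 _ (by decide)]; rfl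
      b_pos := by rw [b_pos, H1 _ b1, b1']
      b_neg := by rw [b_neg, H1 _ b2, b2']
      c_pos := by rw [c_pos, H2 _ g1, g1']
      c_neg := by rw [c_neg, H2 _ g2, g2']
      ab := by
        intro e f he hf
        obtain ⟨u, hu, hd, hY⟩ := m3 e f he hf
        rw [hY, H2 _ g3, g3', H2 _ g4, g4', H2 _ g5, g5', H2 _ g6, g6']
        rcases mem_of_dot γ hγ8 u (List.mem_append.mpr hu) hd with rfl | rfl | rfl | rfl
        · exact Or.inl rfl
        · exact Or.inr (Or.inl rfl)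
        · exact Or.inr (Or.inr (Or.inr rfl))
        · exact Or.inr (Or.inr (Or.inl rfl))
      ac := by
        intro e f he hf
        obtain ⟨u, hu, hd, hY⟩ := m2 e f he hf
        rw [hY, H1 _ b3, b3', H1 _ b4, b4', H1 _ b5, b5', H1 _ b6, b6']
        rcases mem_of_dot β hβ8 u (List.mem_append.mpr hu) hd with rfl | rfl | rfl | rfl
        · exact Or.inl rfl
        · exact Or.inr (Or.inl rfl)
        · exact Or.inr (Or.inr (Or.inl rfl))
        · exact Or.inr (Or.inr (Or.inr rfl))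
      bc := by
        intro e f he hf
        obtain ⟨u, hu, hd, hY⟩ := m1 e f he hf
        rw [hY]
        rcases mem_of_dot (1, 0, 1) (by decide) u (List.mem_append.mpr hu) hd with
          rfl | rfl | rfl | rfl
        · exact Or.inl ((congrArg X3 (by decide)).trans (H3 (1, 1, -2) (by decide)).symm)
        · exact Or.inr (Or.inl ((congrArg X3 (by decide)).trans (H3 (-1, -1, 2) (by decide)).symm))
        · exact Or.inr (Or.inr (Or.inl
            ((congrArg X3 (by decide)).trans (H3 (1, -1, 0) (by decide)).symm)))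
        · exact Or.inr (Or.inr (Or.inr
            ((congrArg X3 (by decide)).trans (H3 (-1, 1, 0) (by decide)).symm))) }
  exact C.false u1 u2 u3 w3 w1 w2

end Cfsg.Agent.OddHalf.NI3.Sol

end

-- merged: Cfsg.Agent.OddHalf.NI3.Sol.EndOf
section

/-!
# Solomon's configuration: `EndData` is contradictory

`EndData.false` follows from `end_false`: the charts are `X1 = X 2`, `X2 = X 1`, `X3 = X 0`,
`β = ± c`, `γ = ± b`, and `Y` is composed with a permutation of the coordinates.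
-/

set_option autoImplicit false

namespace Cfsg.Agent.OddHalf.NI3.Sol

open Subgroup

variable {G : Type*} [Group G]

theorem Rel.comp {Y : V → Subgroup G} (r : Rel Y) {T : V → V}
    (h0 : ∀ u ∈ shortL ++ longL, IsR (T u)) (hT : ∀ u v, T (u + v) = T u + T v)
    (h2 : ∀ u, IsR (T u) → IsR u) (h3 : ∀ u, T u = 0 → u = 0) : Rel (fun v => Y (T v)) where
  comm u v hu hv h h' := r.comm _ _ (h0 u (List.mem_append.mpr hu)) (h0 v (List.mem_append.mpr hv))
    (fun hh => h (h2 _ (by rwa [hT]))) (fun hh => h' (h3 _ (by rwa [hT])))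
  ncomm u v hu hv h := r.ncomm _ _ (h0 u (List.mem_append.mpr hu))
    (h0 v (List.mem_append.mpr hv)) (by rw [← hT]; exact h0 _ (List.mem_append.mpr h))
  gen u v hu hv h := by
    have := r.gen _ _ (h0 u (List.mem_append.mpr hu))
      (h0 v (List.mem_append.mpr hv)) (by rw [← hT]; exact h0 _ (List.mem_append.mpr h))
    simpa only [hT] using this

/-- the cyclic permutation of the coordinates -/
def cyc (v : V) : V := (v.2.1, v.2.2, v.1)

/-- the transposition of the coordinates -/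
def trp (v : V) : V := (v.2.2, v.2.1, v.1)

theorem Rel.cyc {Y : V → Subgroup G} (r : Rel Y) : Rel (fun v => Y (cyc v)) := by
  refine r.comp (by decide) (fun u v => rfl) ?_ ?_
  · have key : ∀ v ∈ shortL ++ longL, IsR (v.2.2, v.1, v.2.1) := by decide
    rintro ⟨a, b, c⟩ h
    exact key _ (List.mem_append.mpr h)
  · rintro ⟨a, b, c⟩ h
    have h1 : b = 0 := congrArg Prod.fst h
    have h2 : c = 0 := congrArg (fun x : V => x.2.1) h
    have h3 : a = 0 := congrArg (fun x : V => x.2.2) h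
    subst h1 h2 h3
    rfl

theorem Rel.trp {Y : V → Subgroup G} (r : Rel Y) : Rel (fun v => Y (trp v)) := by
  refine r.comp (by decide) (fun u v => rfl) ?_ ?_
  · have key : ∀ v ∈ shortL ++ longL, IsR (v.2.2, v.2.1, v.1) := by decide
    rintro ⟨a, b, c⟩ h
    exact key _ (List.mem_append.mpr h)
  · rintro ⟨a, b, c⟩ h
    have h1 : c = 0 := congrArg Prod.fst h
    have h2 : b = 0 := congrArg (fun x : V => x.2.1) h
    have h3 : a = 0 := congrArg (fun x : V => x.2.2) h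
    subst h1 h2 h3
    rfl

theorem dot_neg (u v : V) : dot u (-v) = - dot u v := by
  simp only [dot, Prod.fst_neg, Prod.snd_neg]
  ring

/-- The `Pr`-form of a membership statement. -/
theorem Pr.mem {A B : V → Subgroup G} {u v w : V} (h : Pr A B u v) (hv : IsR v)
    (hd : dot v w = 0) : (∃ x, IsR x ∧ dot x w = 0 ∧ A u = B x) ∧
      (∃ x, IsR x ∧ dot x w = 0 ∧ A (-u) = B x) := by
  have hn : ∀ v ∈ shortL ++ longL, IsR (-v) := by decide
  have hv' : IsR (-v) := hn v (List.mem_append.mpr hv)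
  have hd' : dot (-v) w = 0 := by
    have : dot (-v) w = - dot v w := by
      simp only [dot, Prod.fst_neg, Prod.snd_neg]
      ring
    rw [this, hd, neg_zero]
  rcases h with ⟨h1, h2⟩ | ⟨h1, h2⟩
  · exact ⟨⟨v, hv, hd, h1⟩, ⟨-v, hv', hd', h2⟩⟩
  · exact ⟨⟨-v, hv', hd', h1⟩, ⟨v, hv, hd, h2⟩⟩

/-- `end_false` with `Y (±e₂) = X1 (±β)`, `Y (±e₃) = X2 (±γ)` only up to sign. -/
theorem end_false_pr {X1 X2 X3 Y : V → Subgroup G} (r1 : Rel X1) (r2 : Rel X2) (r3 : Rel X3)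
    (ry : Rel Y)
    (c : ∀ e : ℤ, e = 1 ∨ e = -1 →
      X1 (0, 0, e) = X3 (e, e, 0) ∧ X1 (0, 0, e) = X2 (e, -e, 0) ∧
      X2 (0, 0, e) = X1 (e, e, 0) ∧ X2 (0, 0, e) = X3 (e, -e, 0) ∧
      X3 (0, 0, e) = X2 (e, e, 0) ∧ X3 (0, 0, e) = X1 (e, -e, 0))
    (n1 : ∃ n : G, ∀ u, IsR u → cj n (X1 u) = X1 (refl (0, 0, 1) u) ∧
      cj n (X2 u) = X2 (refl (1, -1, 0) u) ∧ cj n (X3 u) = X3 (refl (1, 1, 0) u))
    (n2 : ∃ n : G, ∀ u, IsR u → cj n (X2 u) = X2 (refl (0, 0, 1) u) ∧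
      cj n (X3 u) = X3 (refl (1, -1, 0) u) ∧ cj n (X1 u) = X1 (refl (1, 1, 0) u))
    (n3 : ∃ n : G, ∀ u, IsR u → cj n (X3 u) = X3 (refl (0, 0, 1) u) ∧
      cj n (X1 u) = X1 (refl (1, -1, 0) u) ∧ cj n (X2 u) = X2 (refl (1, 1, 0) u))
    {β γ : V} (hβ : IsL β) (hβ0 : β.2.2 ≠ 0) (hγ : IsL γ) (hγ0 : γ.2.2 ≠ 0)
    (a_pos : Y (1, 0, 0) = X3 (1, 0, 1)) (a_neg : Y (-1, 0, 0) = X3 (-1, 0, -1))
    (hb : (Y (0, 1, 0) = X1 β ∧ Y (0, -1, 0) = X1 (-β)) ∨
      (Y (0, 1, 0) = X1 (-β) ∧ Y (0, -1, 0) = X1 β))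
    (hc : (Y (0, 0, 1) = X2 γ ∧ Y (0, 0, -1) = X2 (-γ)) ∨
      (Y (0, 0, 1) = X2 (-γ) ∧ Y (0, 0, -1) = X2 γ))
    (m3 : ∀ e f : ℤ, (e = 1 ∨ e = -1) → (f = 1 ∨ f = -1) →
      ∃ u, IsR u ∧ dot u γ = 0 ∧ Y (e, f, 0) = X2 u)
    (m2 : ∀ e f : ℤ, (e = 1 ∨ e = -1) → (f = 1 ∨ f = -1) →
      ∃ u, IsR u ∧ dot u β = 0 ∧ Y (e, 0, f) = X1 u)
    (m1 : ∀ e f : ℤ, (e = 1 ∨ e = -1) → (f = 1 ∨ f = -1) →
      ∃ u, IsR u ∧ dot u (1, 0, 1) = 0 ∧ Y (0, e, f) = X3 u) : False := by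
  have hneg : ∀ v ∈ longL, IsL (-v) := by decide
  obtain ⟨β', hβ', hβ0', b1, b2, m2'⟩ : ∃ β' : V, IsL β' ∧ β'.2.2 ≠ 0 ∧ Y (0, 1, 0) = X1 β' ∧
      Y (0, -1, 0) = X1 (-β') ∧ ∀ e f : ℤ, (e = 1 ∨ e = -1) → (f = 1 ∨ f = -1) →
        ∃ u, IsR u ∧ dot u β' = 0 ∧ Y (e, 0, f) = X1 u := by
    rcases hb with ⟨h1, h2⟩ | ⟨h1, h2⟩
    · exact ⟨β, hβ, hβ0, h1, h2, m2⟩
    · refine ⟨-β, hneg β hβ, neg_ne_zero.mpr hβ0, h1, by rw [neg_neg]; exact h2, ?_⟩
      intro e f he hf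
      obtain ⟨u, hu, hd, hY⟩ := m2 e f he hf
      exact ⟨u, hu, by rw [dot_neg, hd, neg_zero], hY⟩
  obtain ⟨γ', hγ', hγ0', g1, g2, m3'⟩ : ∃ γ' : V, IsL γ' ∧ γ'.2.2 ≠ 0 ∧ Y (0, 0, 1) = X2 γ' ∧
      Y (0, 0, -1) = X2 (-γ') ∧ ∀ e f : ℤ, (e = 1 ∨ e = -1) → (f = 1 ∨ f = -1) →
        ∃ u, IsR u ∧ dot u γ' = 0 ∧ Y (e, f, 0) = X2 u := by
    rcases hc with ⟨h1, h2⟩ | ⟨h1, h2⟩
    · exact ⟨γ, hγ, hγ0, h1, h2, m3⟩
    · refine ⟨-γ, hneg γ hγ, neg_ne_zero.mpr hγ0, h1, by rw [neg_neg]; exact h2, ?_⟩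
      intro e f he hf
      obtain ⟨u, hu, hd, hY⟩ := m3 e f he hf
      exact ⟨u, hu, by rw [dot_neg, hd, neg_zero], hY⟩
  exact end_false r1 r2 r3 ry c n1 n2 n3 hβ' hβ0' hγ' hγ0' a_pos a_neg b1 b2 g1 g2 m3' m2' m1

theorem EndData.false {X : Fin 3 → V → Subgroup G} {Y : V → Subgroup G} {b c : V}
    (h : EndData X Y b c) : False := by
  have hcm : ∀ e : ℤ, e = 1 ∨ e = -1 →
      X 2 (0, 0, e) = X 0 (e, e, 0) ∧ X 2 (0, 0, e) = X 1 (e, -e, 0) ∧
      X 1 (0, 0, e) = X 2 (e, e, 0) ∧ X 1 (0, 0, e) = X 0 (e, -e, 0) ∧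
      X 0 (0, 0, e) = X 1 (e, e, 0) ∧ X 0 (0, 0, e) = X 2 (e, -e, 0) := by
    rintro e (rfl | rfl)
    · exact ⟨(h.sh2 0).1.symm, (h.sh1 1).1.symm, (h.sh2 2).1.symm, (h.sh1 0).1.symm,
        (h.sh2 1).1.symm, (h.sh1 2).1.symm⟩
    · exact ⟨(h.sh2 0).2.symm, (h.sh1 1).2.symm, (h.sh2 2).2.symm, (h.sh1 0).2.symm,
        (h.sh2 1).2.symm, (h.sh1 2).2.symm⟩
  have n1 : ∃ n : G, ∀ u, IsR u → cj n (X 2 u) = X 2 (refl (0, 0, 1) u) ∧
      cj n (X 1 u) = X 1 (refl (1, -1, 0) u) ∧ cj n (X 0 u) = X 0 (refl (1, 1, 0) u) := by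
    obtain ⟨g, g1, g2, g3⟩ := h.n 2
    exact ⟨g, fun u hu => ⟨g1 u hu, g3 u hu, g2 u hu⟩⟩
  have n2 : ∃ n : G, ∀ u, IsR u → cj n (X 1 u) = X 1 (refl (0, 0, 1) u) ∧
      cj n (X 0 u) = X 0 (refl (1, -1, 0) u) ∧ cj n (X 2 u) = X 2 (refl (1, 1, 0) u) := by
    obtain ⟨g, g1, g2, g3⟩ := h.n 1
    exact ⟨g, fun u hu => ⟨g1 u hu, g3 u hu, g2 u hu⟩⟩
  have n3 : ∃ n : G, ∀ u, IsR u → cj n (X 0 u) = X 0 (refl (0, 0, 1) u) ∧
      cj n (X 2 u) = X 2 (refl (1, -1, 0) u) ∧ cj n (X 1 u) = X 1 (refl (1, 1, 0) u) := by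
    obtain ⟨g, g1, g2, g3⟩ := h.n 0
    exact ⟨g, fun u hu => ⟨g1 u hu, g3 u hu, g2 u hu⟩⟩
  have hcL : IsL c ∧ c.2.2 ≠ 0 ∧ IsR (sh c) ∧ IsR (ol c) ∧ dot (sh c) c = 0 ∧ dot (ol c) c = 0 := by
    rcases h.hc with rfl | rfl | rfl | rfl <;> decide
  have hbL : IsL b ∧ b.2.2 ≠ 0 ∧ IsR (sh b) ∧ IsR (ol b) ∧ dot (sh b) b = 0 ∧ dot (ol b) b = 0 := by
    rcases h.hb with rfl | rfl | rfl | rfl <;> decide
  obtain ⟨cL, c0, cs, co, cs0, co0⟩ := hcL
  obtain ⟨bL, b0, bs, bo, bs0, bo0⟩ := hbL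
  obtain ⟨B2, B2'⟩ := h.b2.mem bs bs0
  obtain ⟨B3, B3'⟩ := h.b3.mem bo bo0
  obtain ⟨C2, C2'⟩ := h.c2.mem cs cs0
  obtain ⟨C3, C3'⟩ := h.c3.mem co co0
  have M1 : ∀ v : V, v = (1, 1, 0) ∨ v = (1, -1, 0) ∨ v = (-1, 1, 0) ∨ v = (-1, -1, 0) →
      ∃ u, IsR u ∧ dot u (1, 0, 1) = 0 ∧ Y v = X 0 u := by
    rintro v (rfl | rfl | rfl | rfl)
    · exact ⟨_, by decide, by decide, h.y3.1⟩
    · exact ⟨_, by decide, by decide, h.y2.1⟩
    · exact ⟨_, by decide, by decide, h.y2.2⟩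
    · exact ⟨_, by decide, by decide, h.y3.2⟩
  rcases h.hb with rfl | rfl | rfl | rfl
  · refine end_false_pr (h.rel 2) (h.rel 1) (h.rel 0) h.relY.cyc hcm n1 n2 n3 cL c0 bL b0
      h.y1.1 h.y1.2 h.c1 h.b1 ?_ ?_ ?_
    · rintro e f (rfl | rfl) (rfl | rfl)
      exacts [B2, B3', B3, B2']
    · rintro e f (rfl | rfl) (rfl | rfl)
      exacts [C3', C2, C2', C3]
    · rintro e f (rfl | rfl) (rfl | rfl)
      all_goals exact M1 _ (by decide)
  · refine end_false_pr (h.rel 2) (h.rel 1) (h.rel 0) h.relY.cyc hcm n1 n2 n3 cL c0 bL b0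
      h.y1.1 h.y1.2 h.c1 h.b1 ?_ ?_ ?_
    · rintro e f (rfl | rfl) (rfl | rfl)
      exacts [B3, B2', B2, B3']
    · rintro e f (rfl | rfl) (rfl | rfl)
      exacts [C2', C3, C3', C2]
    · rintro e f (rfl | rfl) (rfl | rfl)
      all_goals exact M1 _ (by decide)
  · refine end_false_pr (h.rel 2) (h.rel 1) (h.rel 0) h.relY.trp hcm n1 n2 n3 cL c0 bL b0
      h.y1.1 h.y1.2 h.c1 h.b1 ?_ ?_ ?_
    · rintro e f (rfl | rfl) (rfl | rfl)
      exacts [B2, B3', B3, B2']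
    · rintro e f (rfl | rfl) (rfl | rfl)
      exacts [C3', C2, C2', C3]
    · rintro e f (rfl | rfl) (rfl | rfl)
      all_goals exact M1 _ (by decide)
  · refine end_false_pr (h.rel 2) (h.rel 1) (h.rel 0) h.relY.trp hcm n1 n2 n3 cL c0 bL b0
      h.y1.1 h.y1.2 h.c1 h.b1 ?_ ?_ ?_
    · rintro e f (rfl | rfl) (rfl | rfl)
      exacts [B3, B2', B2, B3']
    · rintro e f (rfl | rfl) (rfl | rfl)
      exacts [C2', C3, C3', C2]
    · rintro e f (rfl | rfl) (rfl | rfl)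
      all_goals exact M1 _ (by decide)

end Cfsg.Agent.OddHalf.NI3.Sol

end

-- merged: Cfsg.Agent.OddHalf.NI3.Sol.Glue2
section

/-!
# Solomon's configuration: the group `K_w` and the end

`w = z 0 (1,0,1)`, `n0 ∈ K 0` the Weyl element of `(0,1,1)`, `L = n0 K₁ n0⁻¹` with the chart `Y = n0 X₁ n0⁻¹`.
-/

set_option autoImplicit false
set_option linter.unusedSectionVars false
set_option linter.unusedVariables false

namespace Cfsg.Agent.OddHalf.NI3.Sol

open Subgroup Matrix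
open Cfsg.Agent.OddHalf.NI (CompIn)

variable {G : Type*} [Group G] {F : Type} [Field F] [Fintype F]

theorem IsB.isL {b : V} (h : IsB b) : IsL b := by
  rcases h with rfl | rfl | rfl | rfl <;> decide

theorem Full.sb {K : Subgroup G} {c : G} {X : V → Subgroup G} {z : V → G} (h : Full F K c X z) {v u : V} (hv : IsL v)
    (hu : IsR u) (h1 : u = v ∨ dot u v = 0) : Sb (JJ X u) (K ⊓ centralizer ({z v} : Set G)) := by
  refine ⟨le_inf (h.b3.JJ_le hu) ?_, h.ss v hv u hu h1⟩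
  have key : ∀ v ∈ longL, ∀ u ∈ shortL ++ longL, (u = v ∨ dot u v = 0) → Even (pr u v) ∧ Even (pr (-u) v) := by
    decide
  have h2 := key v hv u hu.mem h1
  refine sup_le ?_ ?_
  · intro x hx
    rw [mem_centralizer_singleton_iff]
    exact (h.b3.z_even u v hu hv.isR h2.1 x hx).symm
  · intro x hx
    rw [mem_centralizer_singleton_iff]
    exact (h.b3.z_even (-u) v hu.neg hv.isR h2.2 x hx).symm

variable {K : Fin 3 → Subgroup G} {c : Fin 3 → G} {X : Fin 3 → V → Subgroup G} {z : Fin 3 → V → G}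

/-- `τ j` : the root of chart `0` with `z 0 (τ j) = c j`; `ρ j` : the root of chart `j` with `z j (ρ j) = c 0`;
`ρ' j` : the third one. -/
def tau (j : Fin 3) : V := if j = 1 then (1, -1, 0) else (1, 1, 0)

def rho (j : Fin 3) : V := if j = 1 then (1, 1, 0) else (1, -1, 0)

namespace NTri

/-- the data around `w` -/
structure W (F : Type) [Field F] [Fintype F] (K : Fin 3 → Subgroup G) (c : Fin 3 → G)
    (X : Fin 3 → V → Subgroup G) (z : Fin 3 → V → G) (n0 : G) : Prop where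
  tri : NTri F K c X z
  mem : n0 ∈ JJ (X 0) (0, 1, 1)
  act : ∀ u, IsR u → cj n0 (X 0 u) = X 0 (refl (0, 1, 1) u)

namespace W

variable {n0 : G}

theorem b3 (h : W F K c X z n0) (i : Fin 3) : B3 F (K i) (c i) (X i) (z i) := h.tri.b3 i

theorem memK (h : W F K c X z n0) : n0 ∈ K 0 := (h.b3 0).JJ_le (by decide) h.mem

theorem c1 (h : W F K c X z n0) : z 0 (1, -1, 0) = c 1 := h.tri.z1 0

theorem c2 (h : W F K c X z n0) : z 0 (1, 1, 0) = c 2 := h.tri.z2 0

theorem ctau (h : W F K c X z n0) {j : Fin 3} (hj : j = 1 ∨ j = 2) : z 0 (tau j) = c j := by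
  rcases hj with rfl | rfl
  · exact h.c1
  · exact h.c2

theorem crho (h : W F K c X z n0) {j : Fin 3} (hj : j = 1 ∨ j = 2) : z j (rho j) = c 0 := by
  rcases hj with rfl | rfl
  · exact h.tri.z2 1
  · exact h.tri.z1 2

theorem JJrho (h : W F K c X z n0) {j : Fin 3} (hj : j = 1 ∨ j = 2) :
    JJ (X j) (rho j) = JJ (X 0) (0, 0, 1) := by
  rcases hj with rfl | rfl
  · exact h.tri.j2 1
  · exact h.tri.j1 2

/-- `n0 c₁ n0⁻¹ = w` -/
theorem n0c1 (h : W F K c X z n0) : n0 * c 1 * n0⁻¹ = z 0 (1, 0, 1) := by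
  rw [← h.c1]
  exact (h.b3 0).zconj (h.b3 0) (by decide) (by decide) (weyl_JJ h.act (by decide))

theorem n0w (h : W F K c X z n0) : n0 * z 0 (1, 0, 1) * n0⁻¹ = c 1 := by
  rw [← h.c1]
  exact (h.b3 0).zconj (h.b3 0) (by decide) (by decide) (weyl_JJ h.act (by decide))

theorem n0c0 (h : W F K c X z n0) : n0 * c 0 * n0⁻¹ = c 0 := (h.b3 0).c_comm' h.memK

theorem full (h : W F K c X z n0) :
    Full F (cj n0 (K 1)) (z 0 (1, 0, 1)) (fun v => cj n0 (X 1 v)) (fun v => n0 * z 1 v * n0⁻¹) := by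
  have h1 := (h.tri.full 1).conj n0
  rwa [h.n0c1] at h1

/-- `c 0 = z_Y (1,1,0)` -/
theorem zY (h : W F K c X z n0) : n0 * z 1 (1, 1, 0) * n0⁻¹ = c 0 := by
  have e : z 1 (1, 1, 0) = c 0 := h.tri.z2 1
  rw [e, h.n0c0]

theorem c0_mem (h : W F K c X z n0) : c 0 ∈ cj n0 (K 1) := by
  rw [← h.n0c0, conj_mem_cj]
  exact h.tri.J_le 1 0 (h.tri.c_mem_J 0)

theorem w_ne (h : W F K c X z n0) : z 0 (1, 0, 1) ≠ 1 := by
  intro e
  have := (h.b3 0).z_order (1, 0, 1) (by decide)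
  rw [e, orderOf_one] at this
  omega

/-- **Step 4** : `c j * e = z_Y β`, `z j b = w d`, `e` centralises `K 0` and `L`, `d` centralises all `K i`. -/
structure S4 (K : Fin 3 → Subgroup G) (c : Fin 3 → G) (X : Fin 3 → V → Subgroup G) (z : Fin 3 → V → G) (n0 : G)
    (j : Fin 3) (b β : V) (d e : G) : Prop where
  hj : j = 1 ∨ j = 2
  hb : IsB b
  hβ : IsB β ∨ IsB (-β)
  hd : ∀ i, ∀ x ∈ K i, d * x = x * d
  he : ∀ x ∈ K 0, e * x = x * e
  heL : ∀ x ∈ cj n0 (K 1), e * x = x * e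
  zb : z j b = z 0 (1, 0, 1) * d
  zβ : n0 * z 1 β * n0⁻¹ = c j * e

theorem exists_n (h : W F K c X z n0) {j : Fin 3} (hj : j = 1 ∨ j = 2) {b : V} (hb : IsB b) :
    ∃ n ∈ K j, cj n (JJ (X j) (rho j)) = JJ (X j) b ∧ cj n (JJ (X j) (0, 0, 1)) = JJ (X j) (sh b) ∧
      cj n (JJ (X j) (ol (rho j))) = JJ (X j) (ol b) := by
  have key : ∀ j : Fin 3, j = 1 ∨ j = 2 → ∀ b ∈ [((1, 0, 1) : V), (1, 0, -1), (0, 1, 1), (0, 1, -1)],
      ∃ u ∈ longL, (refl u (rho j) = b ∨ refl u (rho j) = -b) ∧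
        (refl u (0, 0, 1) = sh b ∨ refl u (0, 0, 1) = -sh b) ∧
        (refl u (ol (rho j)) = ol b ∨ refl u (ol (rho j)) = -ol b) := by decide
  have hb' : b ∈ [((1, 0, 1) : V), (1, 0, -1), (0, 1, 1), (0, 1, -1)] := by
    rcases hb with rfl | rfl | rfl | rfl <;> decide
  obtain ⟨u, hu, h1, h2, h3⟩ := key j hj b hb'
  obtain ⟨n, hn, hact⟩ := (h.b3 j).weyl u (Or.inr hu)
  have cast : ∀ {v v' : V}, v = v' ∨ v = -v' → JJ (X j) v = JJ (X j) v' := by
    rintro v v' (rfl | rfl)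
    · rfl
    · exact JJ_neg _
  have hr : IsR (rho j) ∧ IsR (ol (rho j)) := by rcases hj with rfl | rfl <;> decide
  refine ⟨n, (h.b3 j).JJ_le (Or.inr hu) hn, ?_, ?_, ?_⟩
  · rw [weyl_JJ hact hr.1]; exact cast h1
  · rw [weyl_JJ hact (by decide)]; exact cast h2
  · rw [weyl_JJ hact hr.2]; exact cast h3

/-- the third `J` -/
theorem JJol (h : W F K c X z n0) {j : Fin 3} (hj : j = 1 ∨ j = 2) :
    JJ (X j) (ol (rho j)) = JJ (X 0) (ol (tau j)) := by
  rcases hj with rfl | rfl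
  · change JJ (X 1) (1, -1, 0) = JJ (X 0) (1, 1, 0)
    rw [h.tri.j1 1, h.tri.j2 0]; rfl
  · change JJ (X 2) (1, 1, 0) = JJ (X 0) (1, -1, 0)
    rw [h.tri.j2 2, h.tri.j1 0]; rfl

theorem JJtau (h : W F K c X z n0) {j : Fin 3} (hj : j = 1 ∨ j = 2) :
    JJ (X j) (0, 0, 1) = JJ (X 0) (tau j) := by
  rcases hj with rfl | rfl
  · exact (h.tri.j1 0).symm
  · exact (h.tri.j2 0).symm

theorem step4 (h : W F K c X z n0) {j : Fin 3} {b β : V} {d e : G} (s : S4 K c X z n0 j b β d e) :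
    ∃ n ∈ K j, cj n (K 0) = cj n0 (K 1) ∧ cj n (JJ (X j) (rho j)) = JJ (X j) b ∧
      cj n (JJ (X j) (0, 0, 1)) = JJ (X j) (sh b) ∧ cj n (JJ (X j) (ol (rho j))) = JJ (X j) (ol b) := by
  obtain ⟨n, hn, n1, n2, n3⟩ := h.exists_n s.hj s.hb
  refine ⟨n, hn, ?_, n1, n2, n3⟩
  have hbR := s.hb.isL.isR
  -- `M = n K₀ n⁻¹` is a component of `C(w d)`
  have hM := CompIn.cj' (h.tri.full 0).comp n
  rw [cj_centralizer_singleton] at hM
  have hrR : IsR (rho j) := by rcases s.hj with rfl | rfl <;> decide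
  have h1 : n * c 0 * n⁻¹ = z 0 (1, 0, 1) * d := by
    rw [← s.zb, ← h.crho s.hj]
    exact (h.b3 j).zconj (h.b3 j) hrR hbR n1
  rw [h1] at hM
  have hL := h.full.comp
  -- both in `C(w) ∩ C(d)`
  have hdM : ∀ x ∈ cj n (K 0), d * x = x * d := by
    intro x hx
    rw [mem_cj] at hx
    have e1 := s.hd 0 _ hx
    have e2 := s.hd j n hn
    have e3 := s.hd j n⁻¹ (inv_mem hn)
    calc d * x = d * n * (n⁻¹ * x * n) * n⁻¹ := by group
      _ = n * (d * (n⁻¹ * x * n)) * n⁻¹ := by rw [e2]; group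
      _ = n * (n⁻¹ * x * n) * (d * n⁻¹) := by rw [e1]; group
      _ = x * d := by rw [e3]; group
  have hdL : ∀ x ∈ cj n0 (K 1), d * x = x * d := by
    intro x hx
    rw [mem_cj] at hx
    have e1 := s.hd 1 _ hx
    have e2 := s.hd 0 n0 h.memK
    have e3 := s.hd 0 n0⁻¹ (inv_mem h.memK)
    calc d * x = d * n0 * (n0⁻¹ * x * n0) * n0⁻¹ := by group
      _ = n0 * (d * (n0⁻¹ * x * n0)) * n0⁻¹ := by rw [e2]; group
      _ = n0 * (n0⁻¹ * x * n0) * (d * n0⁻¹) := by rw [e1]; group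
      _ = x * d := by rw [e3]; group
  set w := z 0 (1, 0, 1) with hw
  set D := centralizer ({w} : Set G) ⊓ centralizer ({d} : Set G) with hD
  have hD2 : D ≤ centralizer ({w * d} : Set G) := by
    intro x hx
    rw [hD, mem_inf, mem_centralizer_singleton_iff, mem_centralizer_singleton_iff] at hx
    rw [mem_centralizer_singleton_iff, ← mul_assoc, hx.1, mul_assoc, hx.2, mul_assoc]
  have hML : cj n (K 0) ≤ D := by
    intro x hx
    have e1 := mem_centralizer_singleton_iff.1 (hM.le hx)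
    have e2 := hdM x hx
    rw [hD, mem_inf, mem_centralizer_singleton_iff, mem_centralizer_singleton_iff]
    refine ⟨?_, e2.symm⟩
    have e3 : x * w * d = w * x * d := by
      calc x * w * d = x * (w * d) := by group
        _ = w * (d * x) := by rw [e1]; group
        _ = w * x * d := by rw [e2]; group
    exact mul_right_cancel e3
  have hLL : cj n0 (K 1) ≤ D := le_inf hL.le fun x hx => mem_centralizer_singleton_iff.2 (hdL x hx).symm
  by_contra hne
  have hc := (hM.mono hML hD2).comm (hL.mono hLL inf_le_left) hne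
  -- `c 0 ∈ L` inverts `X j b ≤ M`
  have hXb : X j b ≤ cj n (K 0) := by
    refine (B3.le_JJ b).trans ?_
    rw [← n1, h.JJrho s.hj]
    exact cj_mono n (h.tri.J_le 0 0)
  have hinv : ∀ x ∈ X j b, c 0 * x * (c 0)⁻¹ = x⁻¹ := by
    rw [← h.crho s.hj]
    refine (h.b3 j).inverts hbR hrR ?_
    rcases s.hj with rfl | rfl <;> rcases s.hb with rfl | rfl | rfl | rfl <;> decide
  refine (h.b3 j).not_cent_of_inv hbR hinv fun x hx => ?_
  exact mem_centralizer_iff.1 (hc (hXb hx)) (c 0) h.c0_mem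

/-- the three `n J_i n⁻¹` are `JJ Y u`, `u = β` or orthogonal to `β` -/
theorem step4' (h : W F K c X z n0) {j : Fin 3} {b β : V} {d e : G} (s : S4 K c X z n0 j b β d e) {n : G}
    (hn : n ∈ K j) (hL : cj n (K 0) = cj n0 (K 1)) {u0 : V} (hu0 : IsR u0) (h0 : u0 = tau j ∨ dot u0 (tau j) = 0) :
    ∃ u, IsR u ∧ (u = β ∨ dot u β = 0) ∧ cj n (JJ (X 0) u0) = JJ (fun v => cj n0 (X 1 v)) u := by
  have hτ : IsL (tau j) := by rcases s.hj with rfl | rfl <;> decide
  have h1 := ((h.tri.full 0).sb hτ hu0 h0).cj n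
  have hβ : IsL β := by
    rcases s.hβ with h2 | h2
    · exact h2.isL
    · have := h2.isL
      have key : ∀ v ∈ longL, IsL (-v) := by decide
      have h3 := key _ this
      rwa [neg_neg] at h3
  have h2 : cj n (K 0 ⊓ centralizer ({z 0 (tau j)} : Set G)) =
      cj n0 (K 1) ⊓ centralizer ({n0 * z 1 β * n0⁻¹} : Set G) := by
    rw [cj_inf_cent, hL, h.ctau s.hj, (h.b3 j).c_comm' hn, s.zβ]
    ext x
    simp only [mem_inf, mem_centralizer_singleton_iff]
    refine and_congr_right fun hx => ?_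
    have e1 := s.heL x hx
    constructor
    · intro e2
      rw [← mul_assoc, e2, mul_assoc, ← e1, mul_assoc]
    · intro e2
      have e3 : x * c j * e = c j * x * e := by
        rw [mul_assoc, e2, mul_assoc, e1, mul_assoc]
      exact mul_right_cancel e3
  rw [h2] at h1
  obtain ⟨f⟩ := (h.b3 0).sl u0 hu0
  exact h.full.uu β hβ _ h1.1 h1.2 ⟨((JJ (X 0) u0).equivMapOfInjective _ (MulAut.conj n).injective).symm.trans f⟩

/-- `w` does not act on `K 0` as `c j` -/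
theorem no_w (h : W F K c X z n0) {j : Fin 3} (hj : j = 1 ∨ j = 2) {t : G} (ht : ∀ x ∈ K 0, t * x = x * t)
    (e : z 0 (1, 0, 1) = c j * t) : False := by
  have hτ : IsR (tau j) := by rcases hj with rfl | rfl <;> decide
  have h1 : ∀ x ∈ X 0 (tau j), z 0 (1, 0, 1) * x * (z 0 (1, 0, 1))⁻¹ = x⁻¹ := by
    refine (h.b3 0).inverts hτ (by decide) ?_
    rcases hj with rfl | rfl <;> decide
  refine (h.b3 0).not_cent_of_inv hτ h1 fun x hx => ?_
  rw [e, mul_assoc, ht x ((h.b3 0).le _ hτ hx), ← mul_assoc, ← h.ctau hj,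
    (h.b3 0).z_even (tau j) (tau j) hτ hτ (by rw [pr_self hτ]; decide) x hx, mul_assoc]

/-- `c j` does not centralise `K 0` -/
theorem no_c (h : W F K c X z n0) {j : Fin 3} (hj : j = 1 ∨ j = 2) (ht : ∀ x ∈ K 0, c j * x = x * c j) : False := by
  have hτ : IsR (tau j) := by rcases hj with rfl | rfl <;> decide
  have h1 : ∀ x ∈ X 0 (1, 0, 0), c j * x * (c j)⁻¹ = x⁻¹ := by
    rw [← h.ctau hj]
    refine (h.b3 0).inverts (by decide) hτ ?_
    rcases hj with rfl | rfl <;> decide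
  exact (h.b3 0).not_cent_of_inv (by decide) h1 fun x hx => ht x ((h.b3 0).le _ (by decide) hx)

/-- the involution of `JJ Y u` : `w` for `u` short, `c j e` for `u = β`, `w (c j e)⁻¹` for `u` long orthogonal to `β` -/
theorem zYu (h : W F K c X z n0) {j : Fin 3} {b β : V} {d e : G} (s : S4 K c X z n0 j b β d e) {u : V} (hu : IsR u)
    (h1 : u = β ∨ dot u β = 0) :
    (IsS u ∧ dot u β = 0 ∧ n0 * z 1 u * n0⁻¹ = z 0 (1, 0, 1)) ∨ (u = β ∧ n0 * z 1 u * n0⁻¹ = c j * e) ∨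
      (IsL u ∧ dot u β = 0 ∧ (n0 * z 1 u * n0⁻¹) * (c j * e) = z 0 (1, 0, 1)) := by
  have hβ : IsL β := by
    rcases s.hβ with h2 | h2
    · exact h2.isL
    · have := h2.isL
      have key : ∀ v ∈ longL, IsL (-v) := by decide
      have h3 := key _ this
      rwa [neg_neg] at h3
  rcases h1 with rfl | h1
  · exact Or.inr (Or.inl ⟨rfl, s.zβ⟩)
  · rcases hu with hu | hu
    · exact Or.inl ⟨hu, h1, h.full.b3.z_short u hu⟩
    · refine Or.inr (Or.inr ⟨hu, h1, ?_⟩)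
      rw [← s.zβ]
      exact h.full.b3.z_orth u β hu hβ h1

/-- `d = 1` -/
theorem d_one (h : W F K c X z n0) {j : Fin 3} {b β : V} {d e : G} (s : S4 K c X z n0 j b β d e) : d = 1 := by
  obtain ⟨n, hn, hL, n1, -, -⟩ := h.step4 s
  obtain ⟨u, hu, h1, h2⟩ := h.step4' s hn hL (u0 := (0, 0, 1)) (by decide)
    (Or.inr (by rcases s.hj with rfl | rfl <;> decide))
  rw [← h.JJrho s.hj, n1] at h2
  have h3 : z j b = n0 * z 1 u * n0⁻¹ := (h.b3 j).zeq h.full.b3 s.hb.isL.isR hu h2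
  rw [s.zb] at h3
  have hd0 := s.hd 0
  have hd' : ∀ x ∈ K 0, d⁻¹ * x = x * d⁻¹ := by
    intro x hx
    have := hd0 x hx
    calc d⁻¹ * x = d⁻¹ * (x * d) * d⁻¹ := by group
      _ = x * d⁻¹ := by rw [← this]; group
  rcases h.zYu s hu h1 with ⟨-, -, h4⟩ | ⟨-, h4⟩ | ⟨-, -, h4⟩
  · rw [h4] at h3
    exact mul_left_cancel (a := z 0 (1, 0, 1)) (by rw [h3, mul_one])
  · exfalso
    rw [h4] at h3
    refine h.no_w s.hj (t := e * d⁻¹) (fun x hx => ?_) ?_
    · rw [mul_assoc, hd' x hx, ← mul_assoc, s.he x hx, mul_assoc]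
    · rw [← mul_assoc, ← h3]; group
  · exfalso
    rw [← h3] at h4
    -- `w d c_j e = w`
    have h5 : d * (c j * e) = 1 := mul_left_cancel (a := z 0 (1, 0, 1)) (by rw [mul_one, ← mul_assoc, h4])
    have h6 : c j = d⁻¹ * e⁻¹ := by
      calc c j = d⁻¹ * (d * (c j * e)) * e⁻¹ := by group
        _ = d⁻¹ * e⁻¹ := by rw [h5]; group
    refine h.no_c s.hj fun x hx => ?_
    have he' : e⁻¹ * x = x * e⁻¹ := by
      have := s.he x hx
      calc e⁻¹ * x = e⁻¹ * (x * e) * e⁻¹ := by group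
        _ = x * e⁻¹ := by rw [← this]; group
    rw [h6, mul_assoc, he', ← mul_assoc, hd' x hx, mul_assoc]

end W

end NTri

end Cfsg.Agent.OddHalf.NI3.Sol

end

-- merged: Cfsg.Agent.OddHalf.NI3.Sol.Glue3
section

/-!
# Solomon's configuration: the end

`Tri.false` : there are no three groups `Spin₇(F)` in Solomon's position.
-/

set_option autoImplicit false
set_option linter.unusedSectionVars false
set_option linter.unusedVariables false

namespace Cfsg.Agent.OddHalf.NI3.Sol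

open Subgroup Matrix
open Cfsg.Agent.OddHalf.NI (CompIn)

variable {G : Type*} [Group G] {F : Type} [Field F] [Fintype F]
variable {K : Fin 3 → Subgroup G} {c : Fin 3 → G} {X : Fin 3 → V → Subgroup G} {z : Fin 3 → V → G}

theorem IsBB.isL {β : V} (h : IsB β ∨ IsB (-β)) : IsL β := by
  rcases h with h2 | h2
  · exact h2.isL
  · have := h2.isL
    have key : ∀ v ∈ longL, IsL (-v) := by decide
    have h3 := key _ this
    rwa [neg_neg] at h3

theorem fin12 (i : Fin 3) : i + 1 + 2 = i := by revert i; decide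

theorem fin21 (i : Fin 3) : i + 2 + 1 = i := by revert i; decide

theorem JJ_cast {X : V → Subgroup G} {v v' : V} (h : v = v' ∨ v = -v') : JJ X v = JJ X v' := by
  rcases h with rfl | rfl
  · rfl
  · exact JJ_neg _

namespace NTri

namespace W

variable {n0 : G}

theorem match_JJ (h : W F K c X z n0) {j : Fin 3} {b β : V} (s : S4 K c X z n0 j b β 1 1) :
    JJ (X j) b = JJ (fun v => cj n0 (X 1 v)) (sh β) ∧ JJ (X j) (sh b) = JJ (fun v => cj n0 (X 1 v)) β ∧
      JJ (X j) (ol b) = JJ (fun v => cj n0 (X 1 v)) (ol β) := by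
  obtain ⟨n, hn, hL, n1, n2, n3⟩ := h.step4 s
  have hβ := IsBB.isL s.hβ
  have hτ : IsL (tau j) := by rcases s.hj with rfl | rfl <;> decide
  have hshb : IsS (sh b) := by rcases s.hb with rfl | rfl | rfl | rfl <;> decide
  have holb : IsL (ol b) := by rcases s.hb with rfl | rfl | rfl | rfl <;> decide
  have hwc : z 0 (1, 0, 1) ≠ c j := fun e => h.no_w s.hj (t := 1) (by simp) (by rw [e, mul_one])
  have hc1 : c j ≠ 1 := fun e => h.no_c s.hj (by rw [e]; simp)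
  have hcc : c j * c j = 1 := by
    have := pow_orderOf_eq_one (c j)
    rwa [(h.b3 j).c_order, pow_two] at this
  have hww : z 0 (1, 0, 1) * z 0 (1, 0, 1) = 1 := (h.b3 0).z_sq (by decide)
  have k1 : ∀ β ∈ longL, ∀ u ∈ shortL, dot u β = 0 → (u = sh β ∨ u = -sh β) := by decide
  have k2 : ∀ β ∈ longL, ∀ u ∈ longL, dot u β = 0 → (u = ol β ∨ u = -ol β) := by decide
  refine ⟨?_, ?_, ?_⟩
  · obtain ⟨u, hu, h1, h2⟩ := h.step4' s hn hL (u0 := (0, 0, 1)) (by decide)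
      (Or.inr (by rcases s.hj with rfl | rfl <;> decide))
    rw [← h.JJrho s.hj, n1] at h2
    have h3 : z j b = n0 * z 1 u * n0⁻¹ := (h.b3 j).zeq h.full.b3 s.hb.isL.isR hu h2
    rw [s.zb, mul_one] at h3
    rw [h2]
    rcases h.zYu s hu h1 with ⟨h4, h5, -⟩ | ⟨-, h4⟩ | ⟨-, -, h4⟩
    · exact JJ_cast (k1 β hβ u h4 h5)
    · exact absurd (h3.trans (h4.trans (mul_one _))) hwc
    · rw [← h3, mul_one] at h4
      exact absurd (mul_left_cancel (a := z 0 (1, 0, 1)) (by rw [h4, mul_one])) hc1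
  · obtain ⟨u, hu, h1, h2⟩ := h.step4' s hn hL (u0 := tau j) hτ.isR (Or.inl rfl)
    rw [← h.JJtau s.hj, n2] at h2
    have h3 : z j (sh b) = n0 * z 1 u * n0⁻¹ := (h.b3 j).zeq h.full.b3 hshb.isR hu h2
    rw [(h.b3 j).z_short _ hshb] at h3
    rw [h2]
    rcases h.zYu s hu h1 with ⟨-, -, h4⟩ | ⟨h4, -⟩ | ⟨-, -, h4⟩
    · exact absurd (h3.trans h4).symm hwc
    · rw [h4]
    · rw [← h3, mul_one, hcc] at h4
      exact absurd h4.symm h.w_ne
  · obtain ⟨u, hu, h1, h2⟩ := h.step4' s hn hL (u0 := ol (tau j))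
      (by rcases s.hj with rfl | rfl <;> decide) (Or.inr (by rcases s.hj with rfl | rfl <;> decide))
    rw [← h.JJol s.hj, n3] at h2
    have h3 : z j (ol b) = n0 * z 1 u * n0⁻¹ := (h.b3 j).zeq h.full.b3 holb.isR hu h2
    have h5 : z j b * z j (ol b) = c j := (h.b3 j).z_orth b (ol b) s.hb.isL holb
      (by rcases s.hb with rfl | rfl | rfl | rfl <;> decide)
    rw [s.zb, mul_one, h3] at h5
    rw [h2]
    rcases h.zYu s hu h1 with ⟨-, -, h4⟩ | ⟨-, h4⟩ | ⟨h4, h6, -⟩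
    · rw [h4, hww] at h5
      exact absurd h5.symm hc1
    · rw [h4, mul_one] at h5
      exact absurd (mul_right_cancel (b := c j) (by rw [h5, one_mul])) h.w_ne
    · exact JJ_cast (k2 β hβ u h4 h6)

theorem pr_of (h : W F K c X z n0) {j : Fin 3} (hj : j = 1 ∨ j = 2) {a a' : V} (ha : IsR a) (ha' : IsR a')
    (e : JJ (X j) a = JJ (fun v => cj n0 (X 1 v)) a') (o1 : Odd (pr a (rho j))) (o2 : Odd (pr a' (1, 1, 0))) :
    Pr (fun v => cj n0 (X 1 v)) (X j) a' a := by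
  have hrR : IsR (rho j) := by rcases hj with rfl | rfl <;> decide
  have H := h.b3 j
  have HY := h.full.b3
  have i1 : ∀ x ∈ X j a, c 0 * x * (c 0)⁻¹ = x⁻¹ := by
    rw [← h.crho hj]; exact H.inverts ha hrR o1
  have i2 : ∀ x ∈ X j (-a), c 0 * x * (c 0)⁻¹ = x⁻¹ := by
    rw [← h.crho hj]
    exact H.inverts ha.neg hrR (by rw [pr_neg ha hrR]; exact o1.neg)
  have hY : n0 * z 1 (1, 1, 0) * n0⁻¹ = c 0 := h.zY
  have i3 : cj (c 0) (cj n0 (X 1 a')) = cj n0 (X 1 a') := by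
    apply cj_eq_of_inv
    rw [← hY]
    exact HY.inverts ha' (v := (1, 1, 0)) (by decide) o2
  have i4 : cj (c 0) (cj n0 (X 1 (-a'))) = cj n0 (X 1 (-a')) := by
    apply cj_eq_of_inv
    rw [← hY]
    exact HY.inverts ha'.neg (v := (1, 1, 0)) (by decide) (by rw [pr_neg ha' (by decide)]; exact o2.neg)
  have l1 : cj n0 (X 1 a') ≤ JJ (X j) a := by rw [e]; exact B3.le_JJ (X := fun v => cj n0 (X 1 v)) a'
  have l2 : cj n0 (X 1 (-a')) ≤ JJ (X j) a := by rw [e]; exact B3.neg_le_JJ (X := fun v => cj n0 (X 1 v)) a'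
  have u1 := inv_unique H.odd (H.sl a ha) (B3.le_JJ a) (B3.neg_le_JJ a) l1 (H.natcard ha) (H.natcard ha.neg)
    (HY.natcard ha') (H.X_ne ha) i1 i2 i3
  have u2 := inv_unique H.odd (H.sl a ha) (B3.le_JJ a) (B3.neg_le_JJ a) l2 (H.natcard ha) (H.natcard ha.neg)
    (HY.natcard ha'.neg) (H.X_ne ha) i1 i2 i4
  have hne : cj n0 (X 1 a') ≠ cj n0 (X 1 (-a')) := HY.X_ne ha'
  rcases u1 with u1 | u1 <;> rcases u2 with u2 | u2
  · exact absurd (u1.trans u2.symm) hne
  · exact Or.inl ⟨u1, u2⟩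
  · exact Or.inr ⟨u1, u2⟩
  · exact absurd (u1.trans u2.symm) hne

theorem match_Pr (h : W F K c X z n0) {j : Fin 3} {b β : V} (s : S4 K c X z n0 j b β 1 1) :
    Pr (fun v => cj n0 (X 1 v)) (X j) (sh β) b ∧ Pr (fun v => cj n0 (X 1 v)) (X j) β (sh b) ∧
      Pr (fun v => cj n0 (X 1 v)) (X j) (ol β) (ol b) := by
  obtain ⟨m1, m2, m3⟩ := h.match_JJ s
  have hβ := IsBB.isL s.hβ
  have key : ∀ j : Fin 3, j = 1 ∨ j = 2 → ∀ b ∈ [((1, 0, 1) : V), (1, 0, -1), (0, 1, 1), (0, 1, -1)],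
      Odd (pr b (rho j)) ∧ Odd (pr (sh b) (rho j)) ∧ Odd (pr (ol b) (rho j)) ∧ IsR (sh b) ∧ IsR (ol b) := by decide
  have key2 : ∀ b ∈ [((1, 0, 1) : V), (1, 0, -1), (0, 1, 1), (0, 1, -1), (-1, 0, -1), (-1, 0, 1), (0, -1, -1),
      (0, -1, 1)], Odd (pr b (1, 1, 0)) ∧ Odd (pr (sh b) (1, 1, 0)) ∧ Odd (pr (ol b) (1, 1, 0)) ∧ IsR (sh b) ∧
        IsR (ol b) := by decide
  have hb' : b ∈ [((1, 0, 1) : V), (1, 0, -1), (0, 1, 1), (0, 1, -1)] := by
    rcases s.hb with rfl | rfl | rfl | rfl <;> decide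
  have hβ' : β ∈ [((1, 0, 1) : V), (1, 0, -1), (0, 1, 1), (0, 1, -1), (-1, 0, -1), (-1, 0, 1), (0, -1, -1),
      (0, -1, 1)] := by
    rcases s.hβ with h1 | h1
    · rcases h1 with rfl | rfl | rfl | rfl <;> decide
    · rcases h1 with h1 | h1 | h1 | h1 <;> rw [neg_eq_iff_eq_neg] at h1 <;> rw [h1] <;> decide
  obtain ⟨a1, a2, a3, a4, a5⟩ := key j s.hj b hb'
  obtain ⟨b1, b2, b3, b4, b5⟩ := key2 β hβ'
  exact ⟨h.pr_of s.hj s.hb.isL.isR b4 m1 a1 b2, h.pr_of s.hj a4 hβ.isR m2 a2 b1, h.pr_of s.hj a5 b5 m3 a3 b3⟩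

end W

/-- the elements `n i` -/
theorem exists_ni (h : NTri F K c X z) (i : Fin 3) :
    ∃ g : G, (∀ u, IsR u → cj g (X i u) = X i (refl (0, 0, 1) u)) ∧
      (∀ u, IsR u → cj g (X (i + 1) u) = X (i + 1) (refl (1, 1, 0) u)) ∧
      (∀ u, IsR u → cj g (X (i + 2) u) = X (i + 2) (refl (1, -1, 0) u)) := by
  obtain ⟨n, hn, hact⟩ := (h.b3 i).weyl (0, 0, 1) (by decide)
  have key : ∀ (k : Fin 3) (v : V), IsR v → JJ (X k) v = JJ (X i) (0, 0, 1) → X k v = X i (0, 0, 1) →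
      X k (-v) = X i (0, 0, -1) → ∀ u, IsR u → cj n (X k u) = X k (refl v u) := by
    intro k v hv e1 e2 e3 u hu
    obtain ⟨n', hn', hact'⟩ := (h.b3 k).weyl v hv
    have r1 : refl v v = -v := by
      have key : ∀ v ∈ shortL ++ longL, refl v v = -v := by decide
      exact key v hv.mem
    have r2 : refl v (-v) = v := by rw [refl_neg, r1, neg_neg]
    have a1 : cj n' (X k v) = X k (-v) := by rw [hact' v hv, r1]
    have a2 : cj n' (X k (-v)) = X k v := by rw [hact' _ hv.neg, r2]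
    have a3 : cj n (X i (0, 0, 1)) = X i (0, 0, -1) := hact _ (by decide)
    have a4 : cj n (X i (0, 0, -1)) = X i (0, 0, 1) := hact _ (by decide)
    have t1 : cj (n'⁻¹ * n) (X k v) = X k v := by
      rw [cj_mul, e2, a3, ← e3, ← a1, cj_inv_cj, e2]
    have t2 : cj (n'⁻¹ * n) (X k (-v)) = X k (-v) := by
      rw [cj_mul, e3, a4, ← e2, ← a2, cj_inv_cj, e3]
    have ht : n'⁻¹ * n ∈ JJ (X k) v := mul_mem (inv_mem hn') (by rw [e1]; exact hn)
    have t3 := (h.b3 k).tor v hv _ ht t1 t2 u hu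
    calc cj n (X k u) = cj n' (cj (n'⁻¹ * n) (X k u)) := by rw [← cj_mul]; congr 1; group
      _ = X k (refl v u) := by rw [t3, hact' u hu]
  have f1 := fin12 i
  have f2 := fin21 i
  refine ⟨n, hact, key (i + 1) (1, 1, 0) (by decide) ?_ ?_ ?_, key (i + 2) (1, -1, 0) (by decide) ?_ ?_ ?_⟩
  · rw [h.j2, f1]
  · rw [h.s2, f1]
  · rw [show -((1, 1, 0) : V) = (-1, -1, 0) by decide, h.s2', f1]
  · rw [h.j1, f2]
  · rw [h.s1, f2]
  · rw [show -((1, -1, 0) : V) = (-1, 1, 0) by decide, h.s1', f2]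

/-- **Solomon's configuration does not exist.** -/
theorem false (h : NTri F K c X z) : False := by
  obtain ⟨n0, hn0, hact⟩ := (h.b3 0).weyl (0, 1, 1) (by decide)
  have w : W F K c X z n0 := ⟨h, hn0, hact⟩
  have hww : z 0 (1, 0, 1) * z 0 (1, 0, 1) = 1 := (h.b3 0).z_sq (by decide)
  obtain ⟨b, hb, hd⟩ := h.step3 1
  -- `j = 1`
  have s1 : W.S4 K c X z n0 1 b b (z 0 (1, 0, 1) * z 1 b) (z 0 (1, 0, 1) * z 1 b) := by
    refine ⟨Or.inl rfl, hb, Or.inl hb, hd, hd 0, ?_, ?_, ?_⟩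
    · intro x hx
      rw [mem_cj] at hx
      have e1 := hd 1 _ hx
      have e2 := hd 0 n0 w.memK
      have e3 := hd 0 n0⁻¹ (inv_mem w.memK)
      calc z 0 (1, 0, 1) * z 1 b * x = (z 0 (1, 0, 1) * z 1 b) * n0 * (n0⁻¹ * x * n0) * n0⁻¹ := by group
        _ = n0 * ((z 0 (1, 0, 1) * z 1 b) * (n0⁻¹ * x * n0)) * n0⁻¹ := by rw [e2]; group
        _ = n0 * (n0⁻¹ * x * n0) * ((z 0 (1, 0, 1) * z 1 b) * n0⁻¹) := by rw [e1]; group
        _ = x * (z 0 (1, 0, 1) * z 1 b) := by rw [e3]; group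
    · rw [← mul_assoc, hww, one_mul]
    · have e2 := hd 0 n0 w.memK
      have e4 : z 1 b = z 0 (1, 0, 1) * (z 0 (1, 0, 1) * z 1 b) := by rw [← mul_assoc, hww, one_mul]
      calc n0 * z 1 b * n0⁻¹ = n0 * (z 0 (1, 0, 1) * (z 0 (1, 0, 1) * z 1 b)) * n0⁻¹ := by rw [← e4]
        _ = (n0 * z 0 (1, 0, 1) * n0⁻¹) * (n0 * (z 0 (1, 0, 1) * z 1 b)) * n0⁻¹ := by group
        _ = c 1 * (z 0 (1, 0, 1) * z 1 b) := by rw [w.n0w, ← e2]; group
  have d1 := w.d_one s1
  have s1' : W.S4 K c X z n0 1 b b 1 1 := by rw [d1] at s1; exact s1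
  have hzb : z 1 b = z 0 (1, 0, 1) := by rw [s1'.zb, mul_one]
  obtain ⟨p1, p2, p3⟩ := w.match_Pr s1'
  -- `j = 2`
  obtain ⟨b2, hb2, hd2⟩ := h.step3 2
  have hc12 : c 0 * c 1 = c 2 := by
    have h6 := (h.b3 2).z_orth (1, -1, 0) (1, 1, 0) (by decide) (by decide) (by decide)
    have e1 : z 2 (1, -1, 0) = c 0 := h.z1 2
    have e2 : z 2 (1, 1, 0) = c 1 := h.z2 2
    rwa [e1, e2] at h6
  have hβ : IsB (-(refl (1, 1, 0) b)) := by
    rcases hb with rfl | rfl | rfl | rfl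
    · exact Or.inr (Or.inr (Or.inr (by decide)))
    · exact Or.inr (Or.inr (Or.inl (by decide)))
    · exact Or.inr (Or.inl (by decide))
    · exact Or.inl (by decide)
  have hβL : IsL (refl (1, 1, 0) b) ∧ (1, 1, 0) + refl (1, 1, 0) b = b := by
    rcases hb with rfl | rfl | rfl | rfl <;> decide
  have s2 : W.S4 K c X z n0 2 b2 (refl (1, 1, 0) b) (z 0 (1, 0, 1) * z 2 b2) 1 := by
    refine ⟨Or.inr rfl, hb2, Or.inr hβ, hd2, by simp, by simp, ?_, ?_⟩
    · rw [← mul_assoc, hww, one_mul]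
    · have e1 : z 1 (1, 1, 0) * z 1 (refl (1, 1, 0) b) = z 1 ((1, 1, 0) + refl (1, 1, 0) b) :=
        (h.b3 1).z_add (1, 1, 0) (refl (1, 1, 0) b) (by decide) hβL.1 (by rw [hβL.2]; exact hb.isL)
      have e2 : z 1 (1, 1, 0) = c 0 := h.z2 1
      rw [hβL.2, e2, hzb] at e1
      have hcc : c 0 * c 0 = 1 := by
        have := pow_orderOf_eq_one (c 0)
        rwa [(h.b3 0).c_order, pow_two] at this
      have e3 : z 1 (refl (1, 1, 0) b) = c 0 * z 0 (1, 0, 1) := by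
        rw [← e1, ← mul_assoc, hcc, one_mul]
      calc n0 * z 1 (refl (1, 1, 0) b) * n0⁻¹ = (n0 * c 0 * n0⁻¹) * (n0 * z 0 (1, 0, 1) * n0⁻¹) := by
            rw [e3]; group
        _ = c 2 * 1 := by rw [w.n0c0, w.n0w, hc12, mul_one]
  have d2 := w.d_one s2
  have s2' : W.S4 K c X z n0 2 b2 (refl (1, 1, 0) b) 1 1 := by rw [d2] at s2; exact s2
  obtain ⟨q1, q2, q3⟩ := w.match_Pr s2'
  refine EndData.false (X := X) (Y := fun v => cj n0 (X 1 v)) (b := b) (c := b2)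
    ⟨fun i => (h.b3 i).rel, w.full.b3.rel, fun i => ⟨h.s1 i, h.s1' i⟩, fun i => ⟨h.s2 i, h.s2' i⟩,
      h.exists_ni, hb, hb2, ⟨?_, ?_⟩, ⟨?_, ?_⟩, ⟨?_, ?_⟩, p1, p2, p3, q1, q2, q3⟩
  · have e : X 0 (1, -1, 0) = X 1 (0, 0, 1) := h.s1 0
    change cj n0 (X 1 (0, 0, 1)) = _
    rw [← e]; exact hact _ (by decide)
  · have e : X 0 (-1, 1, 0) = X 1 (0, 0, -1) := h.s1' 0
    change cj n0 (X 1 (0, 0, -1)) = _
    rw [← e]; exact hact _ (by decide)
  · have e : X 1 (1, -1, 0) = X 2 (0, 0, 1) := h.s1 1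
    have e' : X 0 (1, 1, 0) = X 2 (0, 0, 1) := h.s2 0
    change cj n0 (X 1 (1, -1, 0)) = _
    rw [e, ← e']; exact hact _ (by decide)
  · have e : X 1 (-1, 1, 0) = X 2 (0, 0, -1) := h.s1' 1
    have e' : X 0 (-1, -1, 0) = X 2 (0, 0, -1) := h.s2' 0
    change cj n0 (X 1 (-1, 1, 0)) = _
    rw [e, ← e']; exact hact _ (by decide)
  · have e : X 1 (1, 1, 0) = X 0 (0, 0, 1) := h.s2 1
    change cj n0 (X 1 (1, 1, 0)) = _
    rw [e]; exact hact _ (by decide)
  · have e : X 1 (-1, -1, 0) = X 0 (0, 0, -1) := h.s2' 1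
    change cj n0 (X 1 (-1, -1, 0)) = _
    rw [e]; exact hact _ (by decide)

end NTri

/-- **Solomon's configuration does not exist.** -/
theorem Tri.false (h : Tri F K c X z) : False := by
  obtain ⟨X', z', h'⟩ := h.normalise
  exact h'.false

end Cfsg.Agent.OddHalf.NI3.Sol

end

-- merged: Cfsg.Agent.OddHalf.NI3.Sol.Transport
section

/-!
# Solomon's configuration: transport and the form with two groups

* `B3.map`, `full_of_sub` : from the group `↥K` to the subgroup `K`;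
* `Full.flip` : the change of coordinates `e₂ ↦ -e₂`; `Full.congr` : change of the field;
* `two_false` : Solomon's configuration with two groups only.
-/

set_option autoImplicit false
set_option linter.unusedSectionVars false
set_option linter.unusedVariables false

namespace Cfsg.Agent.OddHalf.NI3.Sol

open Subgroup Matrix
open Cfsg.Agent.OddHalf.NI (CompIn)

/-- (K5) for automorphisms -/
def KAut {N : Type*} [Group N] (X : V → Subgroup N) (z : V → N) : Prop :=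
  ∀ α : MulAut N, (∀ x ∈ JJ X (0, 0, 1), α x = x) → (∀ x ∈ JJ X (1, -1, 0), α x = x) →
    (∀ x ∈ JJ X (1, 1, 0), α x = x) → α = 1 ∨ α = MulAut.conj (z (1, 1, 0))

section Map

variable {G : Type*} [Group G] {F : Type} [Field F] [Fintype F] {K : Subgroup G} {c : K} {X : V → Subgroup K}
  {z : V → K}

theorem JJ_map (v : V) : JJ (fun v => (X v).map K.subtype) v = (JJ X v).map K.subtype :=
  (Subgroup.map_sup _ _ _).symm

theorem B3.map (h : B3 F (⊤ : Subgroup K) c X z) :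
    B3 F K (c : G) (fun v => (X v).map K.subtype) (fun v => (z v : G)) where
  odd := h.odd
  sl v hv := by
    obtain ⟨e⟩ := h.sl v hv
    rw [JJ_map]
    exact ⟨((JJ X v).equivMapOfInjective _ K.subtype_injective).symm.trans e⟩
  card v hv := by
    rw [Subgroup.card_map_of_injective K.subtype_injective]
    exact h.card v hv
  le v hv := by
    rintro _ ⟨x, -, rfl⟩
    exact x.2
  span H hH := by
    have h1 : (⊤ : Subgroup K) ≤ H.comap K.subtype := h.span _ fun v hv x hx => hH v hv ⟨x, hx, rfl⟩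
    intro x hx
    exact h1 (show (⟨x, hx⟩ : K) ∈ ⊤ from mem_top _)
  comm u v hu hv h1 h2 := by
    rintro _ ⟨a, ha, rfl⟩ _ ⟨b, hb, rfl⟩
    exact congrArg Subtype.val (h.comm u v hu hv h1 h2 a ha b hb)
  ncomm u v hu hv h1 := by
    intro hc
    apply h.ncomm u v hu hv h1
    intro a ha b hb
    exact Subtype.ext (hc a ⟨a, ha, rfl⟩ b ⟨b, hb, rfl⟩)
  gen u v hu hv h1 := by
    rw [← Subgroup.map_sup]
    exact Subgroup.map_mono (h.gen u v hu hv h1)
  c_order := by rw [Subgroup.orderOf_coe]; exact h.c_order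
  c_comm x hx := congrArg Subtype.val (h.c_comm ⟨x, hx⟩ (mem_top _))
  z_mem v hv := by rw [JJ_map]; exact ⟨z v, h.z_mem v hv, rfl⟩
  z_order v hv := by rw [Subgroup.orderOf_coe]; exact h.z_order v hv
  z_neg v hv := by rw [h.z_neg v hv]
  z_short v hv := by rw [h.z_short v hv]
  z_even u v hu hv h1 := by
    rintro _ ⟨a, ha, rfl⟩
    exact congrArg Subtype.val (h.z_even u v hu hv h1 a ha)
  z_odd u v hu hv h1 := by
    rintro _ ⟨a, ha, rfl⟩
    exact congrArg Subtype.val (h.z_odd u v hu hv h1 a ha)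
  z_orth u v hu hv h1 := congrArg Subtype.val (h.z_orth u v hu hv h1)
  z_add u v hu hv h1 := congrArg Subtype.val (h.z_add u v hu hv h1)
  weyl v hv := by
    obtain ⟨n, hn, h1⟩ := h.weyl v hv
    refine ⟨n, by rw [JJ_map]; exact ⟨n, hn, rfl⟩, fun u hu => ?_⟩
    rw [← h1 u hu]
    ext x
    rw [mem_cj]
    constructor
    · rintro ⟨a, ha, hx⟩
      refine ⟨n * a * n⁻¹, conj_mem_cj.2 ha, ?_⟩
      have e : (a : G) = (n : G)⁻¹ * x * n := hx
      change (n : G) * a * (n : G)⁻¹ = x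
      rw [e]; group
    · rintro ⟨a, ha, rfl⟩
      exact ⟨_, mem_cj.1 ha, rfl⟩
  tor v hv t ht h1 h2 u hu := by
    rw [JJ_map] at ht
    obtain ⟨s, hs, rfl⟩ := ht
    have key : ∀ A : Subgroup K, cj (s : G) (A.map K.subtype) = A.map K.subtype ↔ cj s A = A := by
      intro A
      have e : cj (s : G) (A.map K.subtype) = (cj s A).map K.subtype := by
        ext x
        rw [mem_cj]
        constructor
        · rintro ⟨a, ha, hx⟩
          refine ⟨s * a * s⁻¹, conj_mem_cj.2 ha, ?_⟩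
          have e : (a : G) = (s : G)⁻¹ * x * s := hx
          change (s : G) * a * (s : G)⁻¹ = x
          rw [e]; group
        · rintro ⟨a, ha, rfl⟩
          exact ⟨_, mem_cj.1 ha, rfl⟩
      rw [e]
      exact ⟨fun h => Subgroup.map_injective K.subtype_injective h, fun h => by rw [h]⟩
    exact (key _).2 (h.tor v hv s hs ((key _).1 h1) ((key _).1 h2) u hu)

theorem KAut.map (h : B3 F (⊤ : Subgroup K) c X z) (hk : KAut X z) :
    KFive K (fun v => (X v).map K.subtype) (fun v => (z v : G)) := by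
  intro f hf h1 h2 h3
  have hmem : ∀ x ∈ K, f * x * f⁻¹ ∈ K := fun x hx => by
    rw [← hf]; exact conj_mem_cj.2 hx
  have hmem' : ∀ x ∈ K, f⁻¹ * x * f ∈ K := fun x hx => by
    rw [← mem_cj, hf]; exact hx
  let α : MulAut K :=
    { toFun := fun x => ⟨f * x * f⁻¹, hmem x x.2⟩
      invFun := fun x => ⟨f⁻¹ * x * f, hmem' x x.2⟩
      left_inv := fun x => Subtype.ext (by change f⁻¹ * (f * (x : G) * f⁻¹) * f = x; group)
      right_inv := fun x => Subtype.ext (by change f * (f⁻¹ * (x : G) * f) * f⁻¹ = x; group)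
      map_mul' := fun x y => Subtype.ext (by
        change f * ((x : G) * y) * f⁻¹ = (f * x * f⁻¹) * (f * y * f⁻¹)
        group) }
  have hα : ∀ x : K, ((α x : K) : G) = f * x * f⁻¹ := fun x => rfl
  have key : ∀ v, (∀ x ∈ JJ (fun v => (X v).map K.subtype) v, f * x = x * f) → ∀ x ∈ JJ X v, α x = x := by
    intro v h4 x hx
    apply Subtype.ext
    rw [hα, h4 x (by rw [JJ_map]; exact ⟨x, hx, rfl⟩)]
    group
  rcases hk α (key _ h1) (key _ h2) (key _ h3) with h4 | h4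
  · left
    intro x hx
    have h5 := hα ⟨x, hx⟩
    rw [h4] at h5
    have h6 : x = f * x * f⁻¹ := h5
    calc f * x = (f * x * f⁻¹) * f := by group
      _ = x * f := by rw [← h6]
  · right
    intro x hx
    have hz := h.z_sq (v := (1, 1, 0)) (by decide)
    have hz' : (z (1, 1, 0) : G) * z (1, 1, 0) = 1 := congrArg Subtype.val hz
    have h5 := hα (z (1, 1, 0) * ⟨x, hx⟩ * (z (1, 1, 0))⁻¹)
    rw [h4] at h5
    have h6 : (z (1, 1, 0) : G) * ((z (1, 1, 0) : G) * x * (z (1, 1, 0) : G)⁻¹) * (z (1, 1, 0) : G)⁻¹ =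
      f * ((z (1, 1, 0) : G) * x * (z (1, 1, 0) : G)⁻¹) * f⁻¹ := h5
    have h7 : (z (1, 1, 0) : G)⁻¹ = z (1, 1, 0) := inv_eq_of_mul_eq_one_left hz'
    rw [h7] at h6
    have h8 : f * ((z (1, 1, 0) : G) * x * (z (1, 1, 0) : G)) * f⁻¹ = x := by
      rw [← h6]
      calc (z (1, 1, 0) : G) * ((z (1, 1, 0) : G) * x * (z (1, 1, 0) : G)) * (z (1, 1, 0) : G)
          = ((z (1, 1, 0) : G) * z (1, 1, 0)) * x * ((z (1, 1, 0) : G) * z (1, 1, 0)) := by group
        _ = x := by rw [hz']; group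
    calc f * (z (1, 1, 0) : G) * x = (f * ((z (1, 1, 0) : G) * x * (z (1, 1, 0) : G)) * f⁻¹) * f *
          (z (1, 1, 0) : G)⁻¹ := by group
      _ = x * (f * (z (1, 1, 0) : G)) := by rw [h8, h7]; group

theorem UU.map (h : UU F (⊤ : Subgroup K) X z) : UU F K (fun v => (X v).map K.subtype) (fun v => (z v : G)) := by
  intro v hv S hS hs hiso
  have hSK : S ≤ K := hS.trans inf_le_left
  have e1 : (⊤ : Subgroup K) ⊓ centralizer ({z v} : Set K) =
      (K ⊓ centralizer ({(z v : G)} : Set G)).subgroupOf K := by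
    ext x
    rw [mem_inf, mem_subgroupOf, mem_inf, mem_centralizer_singleton_iff, mem_centralizer_singleton_iff]
    constructor
    · rintro ⟨-, h1⟩
      exact ⟨x.2, congrArg Subtype.val h1⟩
    · rintro ⟨-, h1⟩
      exact ⟨mem_top _, Subtype.ext h1⟩
  have h1 : S.subgroupOf K ≤ ⊤ ⊓ centralizer ({z v} : Set K) := by
    rw [e1]
    intro x hx
    exact hS hx
  have h2 : ((S.subgroupOf K).subgroupOf ((⊤ : Subgroup K) ⊓ centralizer ({z v} : Set K))).IsSubnormal := by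
    rw [e1]
    exact hs.comap ((subgroupOfEquivOfLe (inf_le_left : K ⊓ centralizer ({(z v : G)} : Set G) ≤ K)).toMonoidHom)
  obtain ⟨e⟩ := hiso
  obtain ⟨u, hu, h3, h4⟩ := h v hv _ h1 h2 ⟨(subgroupOfEquivOfLe hSK).trans e⟩
  refine ⟨u, hu, h3, ?_⟩
  rw [JJ_map, ← h4, map_subgroupOf_eq_of_le hSK]

theorem SS.map (h : SS (⊤ : Subgroup K) X z) (hb : B3 F (⊤ : Subgroup K) c X z) :
    SS K (fun v => (X v).map K.subtype) (fun v => (z v : G)) := by
  intro v hv u hu h1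
  have key : ∀ v ∈ longL, ∀ u ∈ shortL ++ longL, (u = v ∨ dot u v = 0) → Even (pr u v) ∧ Even (pr (-u) v) := by
    decide
  have h2 := key v hv u hu.mem h1
  have h0 : Sb (JJ X u) ((⊤ : Subgroup K) ⊓ centralizer ({z v} : Set K)) := by
    refine ⟨le_inf le_top (sup_le ?_ ?_), h v hv u hu h1⟩
    · intro x hx
      rw [mem_centralizer_singleton_iff]
      exact (hb.z_even u v hu hv.isR h2.1 x hx).symm
    · intro x hx
      rw [mem_centralizer_singleton_iff]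
      exact (hb.z_even (-u) v hu.neg hv.isR h2.2 x hx).symm
  have h3 := h0.map K.subtype
  have e1 : ((⊤ : Subgroup K) ⊓ centralizer ({z v} : Set K)).map K.subtype =
      K ⊓ centralizer ({(z v : G)} : Set G) := by
    ext x
    rw [mem_inf, mem_centralizer_singleton_iff]
    constructor
    · rintro ⟨y, hy, rfl⟩
      exact ⟨y.2, congrArg Subtype.val (mem_centralizer_singleton_iff.1 hy.2)⟩
    · rintro ⟨hx, h4⟩
      exact ⟨⟨x, hx⟩, ⟨mem_top _, mem_centralizer_singleton_iff.2 (Subtype.ext h4)⟩, rfl⟩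
  rw [e1] at h3
  rw [JJ_map]
  exact h3.2

theorem full_of_sub (h : B3 F (⊤ : Subgroup K) c X z) (hk : KAut X z) (hu : UU F (⊤ : Subgroup K) X z)
    (hs : SS (⊤ : Subgroup K) X z) (hc : CompIn (centralizer ({(c : G)} : Set G)) K) :
    Full F K (c : G) (fun v => (X v).map K.subtype) (fun v => (z v : G)) :=
  ⟨h.map, hk.map h, hu.map, hs.map h, hc⟩

end Map

/-! ### The change of coordinates `e₂ ↦ -e₂` -/

/-- `e₂ ↦ -e₂` -/
def fl (v : V) : V := (v.1, -v.2.1, v.2.2)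

theorem fl_fl (v : V) : fl (fl v) = v := by unfold fl; simp

theorem fl_add (u v : V) : fl (u + v) = fl u + fl v := by
  unfold fl
  simp only [Prod.fst_add, Prod.snd_add, Prod.mk_add_mk]
  congr 2
  ring

theorem fl_neg (v : V) : fl (-v) = -fl v := by unfold fl; simp

theorem fl_S {v : V} (h : IsS v) : IsS (fl v) := by
  have key : ∀ v ∈ shortL, IsS (fl v) := by decide
  exact key v h

theorem fl_L {v : V} (h : IsL v) : IsL (fl v) := by
  have key : ∀ v ∈ longL, IsL (fl v) := by decide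
  exact key v h

theorem fl_R {v : V} (h : IsR v) : IsR (fl v) := h.imp fl_S fl_L

theorem fl_R_iff {v : V} : IsR (fl v) ↔ IsR v := ⟨fun h => by have := fl_R h; rwa [fl_fl] at this, fl_R⟩

theorem fl_dot (u v : V) : dot (fl u) (fl v) = dot u v := by
  unfold dot fl
  ring

theorem fl_pr (u v : V) : pr (fl u) (fl v) = pr u v := by
  unfold pr
  rw [fl_dot, fl_dot]

theorem fl_refl (u v : V) : refl (fl v) (fl u) = fl (refl v u) := by
  unfold refl
  rw [fl_pr]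
  unfold fl
  apply Prod.ext
  · simp
  · apply Prod.ext
    · simp; ring
    · simp

section Flip

variable {G : Type*} [Group G] {F : Type} [Field F] [Fintype F] {K : Subgroup G} {c : G} {X : V → Subgroup G}
  {z : V → G}

theorem JJ_fl (v : V) : JJ (fun v => X (fl v)) v = JJ X (fl v) := by
  change X (fl v) ⊔ X (fl (-v)) = X (fl v) ⊔ X (-fl v)
  rw [fl_neg]

theorem B3.flip (h : B3 F K c X z) : B3 F K c (fun v => X (fl v)) (fun v => z (fl v)) where
  odd := h.odd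
  sl v hv := by rw [JJ_fl]; exact h.sl _ (fl_R hv)
  card v hv := h.card _ (fl_R hv)
  le v hv := h.le _ (fl_R hv)
  span H hH := h.span H fun v hv => by
    have := hH (fl v) (fl_R hv)
    simpa only [fl_fl] using this
  comm u v hu hv h1 h2 := h.comm _ _ (fl_R hu) (fl_R hv) (by rw [← fl_add, fl_R_iff]; exact h1) (by
    rw [← fl_add]
    intro h3
    apply h2
    have := congrArg fl h3
    rw [fl_fl] at this
    rw [this]; rfl)
  ncomm u v hu hv h1 := h.ncomm _ _ (fl_R hu) (fl_R hv) (by rw [← fl_add]; exact fl_R h1)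
  gen u v hu hv h1 := by
    have := h.gen _ _ (fl_R hu) (fl_R hv) (by rw [← fl_add]; exact fl_R h1)
    rwa [← fl_add] at this
  c_order := h.c_order
  c_comm := h.c_comm
  z_mem v hv := by rw [JJ_fl]; exact h.z_mem _ (fl_R hv)
  z_order v hv := h.z_order _ (fl_R hv)
  z_neg v hv := by rw [fl_neg]; exact h.z_neg _ (fl_R hv)
  z_short v hv := h.z_short _ (fl_S hv)
  z_even u v hu hv h1 := h.z_even _ _ (fl_R hu) (fl_R hv) (by rw [fl_pr]; exact h1)
  z_odd u v hu hv h1 := h.z_odd _ _ (fl_R hu) (fl_R hv) (by rw [fl_pr]; exact h1)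
  z_orth u v hu hv h1 := h.z_orth _ _ (fl_L hu) (fl_L hv) (by rw [fl_dot]; exact h1)
  z_add u v hu hv h1 := by
    have := h.z_add _ _ (fl_L hu) (fl_L hv) (by rw [← fl_add]; exact fl_L h1)
    rwa [← fl_add] at this
  weyl v hv := by
    obtain ⟨n, hn, h1⟩ := h.weyl _ (fl_R hv)
    refine ⟨n, by rw [JJ_fl]; exact hn, fun u hu => ?_⟩
    rw [h1 _ (fl_R hu), fl_refl]
  tor v hv t ht h1 h2 u hu := by
    rw [JJ_fl] at ht
    rw [fl_neg] at h2
    exact h.tor _ (fl_R hv) t ht h1 h2 _ (fl_R hu)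

theorem Full.flip (h : Full F K c X z) : Full F K c (fun v => X (fl v)) (fun v => z (fl v)) where
  b3 := h.b3.flip
  five := by
    intro f hf h1 h2 h3
    rw [JJ_fl] at h1 h2 h3
    rcases h.five f hf h1 h3 h2 with h4 | h4
    · exact Or.inl h4
    · right
      intro x hx
      have e1 : z (1, 1, 0) * z (1, -1, 0) = c := h.b3.z_orth _ _ (by decide) (by decide) (by decide)
      have e2 : z (1, -1, 0) = z (1, 1, 0) * c := by
        rw [← e1, ← mul_assoc, h.b3.z_sq (by decide), one_mul]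
      change f * z (1, -1, 0) * x = x * (f * z (1, -1, 0))
      rw [e2, ← mul_assoc, mul_assoc (f * z (1, 1, 0)), h.b3.c_comm x hx, ← mul_assoc, h4 x hx, mul_assoc]
  uu := by
    intro v hv S hS hs hiso
    obtain ⟨u, hu, h1, h2⟩ := h.uu (fl v) (fl_L hv) S hS hs hiso
    refine ⟨fl u, fl_R hu, ?_, ?_⟩
    · rcases h1 with rfl | h1
      · exact Or.inl (fl_fl v)
      · right
        rw [← fl_dot, fl_fl]; exact h1
    · rw [JJ_fl, fl_fl]; exact h2
  ss := by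
    intro v hv u hu h1
    rw [JJ_fl]
    refine h.ss (fl v) (fl_L hv) (fl u) (fl_R hu) ?_
    rcases h1 with rfl | h1
    · exact Or.inl rfl
    · exact Or.inr (by rw [fl_dot]; exact h1)
  comp := h.comp

theorem Full.congr (h : Full F K c X z) {F' : Type} [Field F'] [Fintype F'] (hc : Fintype.card F = Fintype.card F')
    (e : Matrix.SpecialLinearGroup (Fin 2) F ≃* Matrix.SpecialLinearGroup (Fin 2) F') : Full F' K c X z where
  b3 :=
    { odd := by rw [← hc]; exact h.b3.odd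
      sl := fun v hv => by
        obtain ⟨f⟩ := h.b3.sl v hv
        exact ⟨f.trans e⟩
      card := fun v hv => by rw [← hc]; exact h.b3.card v hv
      le := h.b3.le
      span := h.b3.span
      comm := h.b3.comm
      ncomm := h.b3.ncomm
      gen := h.b3.gen
      c_order := h.b3.c_order
      c_comm := h.b3.c_comm
      z_mem := h.b3.z_mem
      z_order := h.b3.z_order
      z_neg := h.b3.z_neg
      z_short := h.b3.z_short
      z_even := h.b3.z_even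
      z_odd := h.b3.z_odd
      z_orth := h.b3.z_orth
      z_add := h.b3.z_add
      weyl := h.b3.weyl
      tor := h.b3.tor }
  five := h.five
  uu := by
    intro v hv S hS hs hiso
    obtain ⟨f⟩ := hiso
    exact h.uu v hv S hS hs ⟨f.trans e.symm⟩
  ss := h.ss
  comp := h.comp

end Flip

/-! ### Two groups -/

section Two

variable {G : Type*} [Group G] {F : Type} [Field F] [Fintype F] {K₁ K₂ J₀ J₁ J₂ : Subgroup G} {c₁ c₂ : G}
  {X₁ X₂ : V → Subgroup G} {z₁ z₂ : V → G}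

/-- **Solomon's configuration with two groups does not exist.** -/
theorem two_false (h1 : Full F K₁ c₁ X₁ z₁) (h2 : Full F K₂ c₂ X₂ z₂)
    (a1 : JJ X₁ (0, 0, 1) = J₁) (a2 : JJ X₁ (1, 1, 0) = J₂) (a3 : JJ X₁ (1, -1, 0) = J₀)
    (b1 : JJ X₂ (0, 0, 1) = J₂) (b2 : JJ X₂ (1, 1, 0) = J₁) (b3 : JJ X₂ (1, -1, 0) = J₀) : False := by
  have h1' := h1.flip
  have a1' : JJ (fun v => X₁ (fl v)) (0, 0, 1) = J₁ := by rw [JJ_fl]; exact a1
  have a2' : JJ (fun v => X₁ (fl v)) (1, -1, 0) = J₂ := by rw [JJ_fl]; exact a2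
  have a3' : JJ (fun v => X₁ (fl v)) (1, 1, 0) = J₀ := by rw [JJ_fl]; exact a3
  obtain ⟨k, hk, hact⟩ := h1'.b3.weyl (0, 1, 0) (by decide)
  have k1 : cj k J₁ = J₁ := by rw [← a1']; exact weyl_JJ hact (by decide)
  have k2 : cj k J₂ = J₀ := by rw [← a2', ← a3']; exact weyl_JJ hact (by decide)
  have k3 : cj k J₀ = J₂ := by rw [← a2', ← a3']; exact weyl_JJ hact (by decide)
  have h0 := (h2.conj k).flip
  have e1 : JJ (fun v => cj k (X₂ (fl v))) (0, 0, 1) = J₀ := by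
    rw [JJ_fl (X := fun v => cj k (X₂ v)), ← cj_JJ]
    exact (congrArg (cj k) b1).trans k2
  have e2 : JJ (fun v => cj k (X₂ (fl v))) (1, -1, 0) = J₁ := by
    rw [JJ_fl (X := fun v => cj k (X₂ v)), ← cj_JJ]
    exact (congrArg (cj k) b2).trans k1
  have e3 : JJ (fun v => cj k (X₂ (fl v))) (1, 1, 0) = J₂ := by
    rw [JJ_fl (X := fun v => cj k (X₂ v)), ← cj_JJ]
    exact (congrArg (cj k) b3).trans k3
  refine Tri.false (F := F) (K := ![cj k K₂, K₁, K₂]) (c := ![k * c₂ * k⁻¹, c₁, c₂])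
    (X := ![fun v => cj k (X₂ (fl v)), fun v => X₁ (fl v), X₂])
    (z := ![fun v => k * z₂ (fl v) * k⁻¹, fun v => z₁ (fl v), z₂]) ⟨?_, ?_, ?_⟩
  · intro i
    fin_cases i
    · exact h0
    · exact h1'
    · exact h2
  · intro i
    fin_cases i
    · exact e2.trans a1'.symm
    · exact a2'.trans b1.symm
    · exact b3.trans e1.symm
  · intro i
    fin_cases i
    · exact e3.trans b1.symm
    · exact a3'.trans e1.symm
    · exact b2.trans a1'.symm

end Two

end Cfsg.Agent.OddHalf.NI3.Sol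

end

-- merged: Cfsg.Agent.OddHalf.NI3.Sol.Main
section

/-!
# Solomon's configuration: the final form

`KF F N c d A B A'` : `N` has a chart of type `B₃` over `F` in the position `(c, d, A, B, A')` with all the facts.
`chart_false` : Solomon's configuration does not exist.
-/

set_option autoImplicit false
set_option linter.unusedSectionVars false
set_option linter.unusedVariables false

namespace Cfsg.Agent.OddHalf.NI3.Sol

open Subgroup Matrix
open Cfsg.Agent.OddHalf.NI (CompIn)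

/-- `N` has a chart of type `B₃` over `F` in the position `(c, d, A, B, A')`: `A = JJ X e₃` short, `c` its involution,
`B = JJ X (e₁ + e₂)`, `A' = JJ X (e₁ - e₂)`. -/
def KF (F : Type) [Field F] [Fintype F] (N : Type*) [Group N] (c : N) (A B A' : Subgroup N) : Prop :=
  ∃ (X : V → Subgroup N) (z : V → N), B3 F (⊤ : Subgroup N) c X z ∧ KAut X z ∧ UU F (⊤ : Subgroup N) X z ∧
    SS (⊤ : Subgroup N) X z ∧ JJ X (0, 0, 1) = A ∧ JJ X (1, 1, 0) = B ∧ JJ X (1, -1, 0) = A'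

theorem card_eq_of_sl {F F' : Type} [Field F] [Fintype F] [Field F'] [Fintype F']
    (e : Matrix.SpecialLinearGroup (Fin 2) F ≃* Matrix.SpecialLinearGroup (Fin 2) F') :
    Fintype.card F = Fintype.card F' := by
  have h := Nat.card_congr e.toEquiv
  rw [LieClassical.SmallIso.card_sl_two, LieClassical.SmallIso.card_sl_two] at h
  have h1 : 1 < Fintype.card F := Fintype.one_lt_card
  have h2 : 1 < Fintype.card F' := Fintype.one_lt_card
  set q := Fintype.card F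
  set q' := Fintype.card F'
  have key : ∀ a b : ℕ, 1 < a → a < b → a * (a ^ 2 - 1) < b * (b ^ 2 - 1) := by
    intro a b ha hab
    have : a ^ 2 - 1 < b ^ 2 - 1 := by
      have : a ^ 2 < b ^ 2 := Nat.pow_lt_pow_left hab (by norm_num)
      have : 1 ≤ a ^ 2 := Nat.one_le_pow _ _ (by omega)
      omega
    exact Nat.mul_lt_mul'' hab this
  rcases lt_trichotomy q q' with h3 | h3 | h3
  · have := key q q' h1 h3; omega
  · exact h3
  · have := key q' q h2 h3; omega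

/-- **Solomon's configuration does not exist.** -/
theorem chart_false {X : Type*} [Group X] {u v : X} {Lu Lv Ju Jv Jw : Subgroup X} {F F' : Type} [Field F] [Fintype F]
    [Field F'] [Fintype F'] (cu : CompIn (centralizer ({u} : Set X)) Lu) (cv : CompIn (centralizer ({v} : Set X)) Lv)
    (hu : u ∈ Lu) (hv : v ∈ Lv) (l1 : Ju ≤ Lu) (l2 : Jv ≤ Lu) (l3 : Jw ≤ Lu) (m1 : Ju ≤ Lv) (m2 : Jv ≤ Lv)
    (m3 : Jw ≤ Lv) (ku : KF F ↥Lu ⟨u, hu⟩ (Ju.subgroupOf Lu) (Jv.subgroupOf Lu) (Jw.subgroupOf Lu))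
    (kv : KF F' ↥Lv ⟨v, hv⟩ (Jv.subgroupOf Lv) (Ju.subgroupOf Lv) (Jw.subgroupOf Lv)) : False := by
  obtain ⟨X1, z1, b1, k1, u1, s1, p1, p2, p3⟩ := ku
  obtain ⟨X2, z2, b2, k2, u2, s2, q1, q2, q3⟩ := kv
  have f1 := full_of_sub b1 k1 u1 s1 cu
  have f2 := full_of_sub b2 k2 u2 s2 cv
  have a1 : JJ (fun v => (X1 v).map Lu.subtype) (0, 0, 1) = Ju := by
    rw [JJ_map, p1, map_subgroupOf_eq_of_le l1]
  have a2 : JJ (fun v => (X1 v).map Lu.subtype) (1, 1, 0) = Jv := by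
    rw [JJ_map, p2, map_subgroupOf_eq_of_le l2]
  have a3 : JJ (fun v => (X1 v).map Lu.subtype) (1, -1, 0) = Jw := by
    rw [JJ_map, p3, map_subgroupOf_eq_of_le l3]
  have c1 : JJ (fun v => (X2 v).map Lv.subtype) (0, 0, 1) = Jv := by
    rw [JJ_map, q1, map_subgroupOf_eq_of_le m2]
  have c2 : JJ (fun v => (X2 v).map Lv.subtype) (1, 1, 0) = Ju := by
    rw [JJ_map, q2, map_subgroupOf_eq_of_le m1]
  have c3 : JJ (fun v => (X2 v).map Lv.subtype) (1, -1, 0) = Jw := by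
    rw [JJ_map, q3, map_subgroupOf_eq_of_le m3]
  obtain ⟨e1⟩ := f1.b3.sl (0, 0, 1) (by decide)
  obtain ⟨e2⟩ := f2.b3.sl (1, 1, 0) (by decide)
  rw [a1] at e1
  rw [c2] at e2
  have hc := card_eq_of_sl (e1.symm.trans e2)
  have f1' := f1.congr hc (e1.symm.trans e2)
  exact two_false f1' f2 a1 a2 a3 c1 c2 c3

end Cfsg.Agent.OddHalf.NI3.Sol

end

-- merged: Cfsg.Agent.OddHalf.NI3.Sol.UU
section

/-!
# `UU` from a chart of type `B₃`

`uu_of_pos` : for `v` long every subnormal subgroup `S ≅ SL₂(F)` of the centraliser of `z v` is one of the three groups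
`JJ v`, `JJ (ol v)`, `JJ (sh v)`.
-/

set_option autoImplicit false
set_option linter.dupNamespace false
set_option linter.unusedSectionVars false

namespace Cfsg.Agent.OddHalf.NI3.Sol.CenB

/-! ### Abstract part -/

section Abs

open Subgroup Cfsg Cfsg.Agent.Cit Cfsg.Agent.Cit.SLThree Cfsg.Agent.Cit.SolvTwo

variable {G : Type*} [Group G]

theorem exists_mul {A B : Subgroup G} (h : ∀ a ∈ A, ∀ b ∈ B, a * b = b * a) {x : G} (hx : x ∈ A ⊔ B) :
    ∃ a ∈ A, ∃ b ∈ B, x = a * b := by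
  let K : Subgroup G :=
    { carrier := {x | ∃ a ∈ A, ∃ b ∈ B, x = a * b}
      one_mem' := ⟨1, one_mem _, 1, one_mem _, (mul_one 1).symm⟩
      mul_mem' := by
        rintro _ _ ⟨a, ha, b, hb, rfl⟩ ⟨a', ha', b', hb', rfl⟩
        refine ⟨a * a', mul_mem ha ha', b * b', mul_mem hb hb', ?_⟩
        calc a * b * (a' * b') = a * (b * a') * b' := by group
          _ = a * (a' * b) * b' := by rw [h a' ha' b hb]
          _ = _ := by group
      inv_mem' := by
        rintro _ ⟨a, ha, b, hb, rfl⟩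
        exact ⟨a⁻¹, inv_mem ha, b⁻¹, inv_mem hb, by rw [h a ha b hb]; group⟩ }
  have h1 : A ⊔ B ≤ K := sup_le (fun a ha => ⟨a, ha, 1, one_mem _, (mul_one a).symm⟩)
    (fun b hb => ⟨1, one_mem _, b, hb, (one_mul b).symm⟩)
  exact h1 hx

/-- the quaternion group `O₂(J)` -/
def Qo (J : Subgroup G) (z : G) : Subgroup G := closure {y | y ∈ J ∧ y * y = z}

theorem Qo_le {J : Subgroup G} {z : G} : Qo J z ≤ J := (closure_le J).2 fun _ hy => hy.1

theorem Qo_isPGroup {J : Subgroup G} {z : G} (h : IsPr J z) : IsPGroup 2 ↥(Qo J z) := by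
  obtain ⟨i, j, d, hl⟩ := h.sl
  have hi : i ∈ closure ({i, j} : Set G) := Qt.mem_i z i j
  have h1 : Qo J z ≤ closure {i, j} := by
    unfold Qo
    rw [closure_le]
    rintro y ⟨hy, hyz⟩
    obtain ⟨g, hg, e⟩ := h.t3.conj i hl.hi y hy hl.q.i2 hyz
    obtain ⟨q, hq, hc⟩ := hl.mem_cases hg
    rw [← e]
    rcases hc with rfl | rfl | rfl
    · exact mul_mem (mul_mem hq hi) (inv_mem hq)
    · have e1 : q * d * i * (q * d)⁻¹ = q * (d * i * d⁻¹) * q⁻¹ := by group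
      rw [SetLike.mem_coe, e1]
      exact mul_mem (mul_mem hq (hl.conj_mem hi)) (inv_mem hq)
    · have e1 : q * (d * d) * i * (q * (d * d))⁻¹ = q * (d * (d * i * d⁻¹) * d⁻¹) * q⁻¹ := by group
      rw [SetLike.mem_coe, e1]
      exact mul_mem (mul_mem hq (hl.conj_mem (hl.conj_mem hi))) (inv_mem hq)
  exact hl.q.isPGroup.to_le h1

theorem fix_z {J : Subgroup G} {z : G} (h : IsPr J z) {g : G} (hg : g ∈ normalizer (J : Set G)) :
    g * z * g⁻¹ = z := by
  have h1 : g * z * g⁻¹ ∈ J := (mem_normalizer_iff.1 hg z).1 h.mem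
  have h2 : (g * z * g⁻¹) * (g * z * g⁻¹) = 1 := by
    calc (g * z * g⁻¹) * (g * z * g⁻¹) = g * (z * z) * g⁻¹ := by group
      _ = 1 := by rw [h.t3.z_sq]; group
  have h3 : g * z * g⁻¹ ≠ 1 := by
    intro h4
    apply h.t3.z_ne
    have : z = g⁻¹ * (g * z * g⁻¹) * g := by group
    rw [this, h4]; group
  rcases h.t3.cases _ h1 with h9 | h9 | h9 | h9 | h9
  · exact absurd (h9.symm.trans h2) h.t3.z_ne
  · exact absurd h9 h3
  · exact h9
  · rw [h2, one_mul] at h9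
    exact absurd h9 h3
  · rw [h2, one_mul] at h9
    exact h9

theorem norm_Qo {J : Subgroup G} {z : G} (h : IsPr J z) : normalizer (J : Set G) ≤ normalizer (Qo J z : Set G) := by
  have key : ∀ g ∈ normalizer (J : Set G), ∀ y ∈ Qo J z, g * y * g⁻¹ ∈ Qo J z := by
    intro g hg y hy
    induction hy using closure_induction with
    | mem y hy =>
      refine subset_closure ⟨(mem_normalizer_iff.1 hg y).1 hy.1, ?_⟩
      calc g * y * g⁻¹ * (g * y * g⁻¹) = g * (y * y) * g⁻¹ := by group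
        _ = z := by rw [hy.2, fix_z h hg]
    | one => rw [mul_one, mul_inv_cancel]; exact one_mem _
    | mul a b _ _ ha hb =>
      have : g * (a * b) * g⁻¹ = g * a * g⁻¹ * (g * b * g⁻¹) := by group
      rw [this]; exact mul_mem ha hb
    | inv a _ ha =>
      have : g * a⁻¹ * g⁻¹ = (g * a * g⁻¹)⁻¹ := by group
      rw [this]; exact inv_mem ha
  intro g hg
  rw [mem_normalizer_iff]
  intro y
  refine ⟨key g hg y, fun hy => ?_⟩
  have h1 := key g⁻¹ (inv_mem hg) _ hy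
  have h2 : g⁻¹ * (g * y * g⁻¹) * g⁻¹⁻¹ = y := by group
  rwa [h2] at h1

/-- `SL₂(3)` subnormal in a product of three commuting `SL₂(3)`'s -/
theorem three [Finite G] {C0 S J1 J2 J3 : Subgroup G} {z z1 z2 z3 : G} (hS : IsPr S z) (h1 : IsPr J1 z1)
    (h2 : IsPr J2 z2) (h3 : IsPr J3 z3) (c12 : ∀ a ∈ J1, ∀ b ∈ J2, a * b = b * a)
    (c13 : ∀ a ∈ J1, ∀ b ∈ J3, a * b = b * a) (c23 : ∀ a ∈ J2, ∀ b ∈ J3, a * b = b * a)
    (n1 : S ≤ normalizer (J1 : Set G)) (n2 : S ≤ normalizer (J2 : Set G)) (n3 : S ≤ normalizer (J3 : Set G))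
    (hs : Sn S C0) (l1 : J1 ≤ C0) (l2 : J2 ≤ C0) (l3 : J3 ≤ C0) (hSD : S ≤ J1 ⊔ J2 ⊔ J3) :
    S ≤ J1 ∨ S ≤ J2 ∨ S ≤ J3 := by
  -- elements of order 3 of `S` centralise `O₂(J)` or `O₂(S) ≤ O₂(J)`
  have key : ∀ {J : Subgroup G} {w : G}, IsPr J w → S ≤ normalizer (J : Set G) → J ≤ C0 →
      (∀ y ∈ S, y * y = z → y ∈ J) ∨ ∀ v ∈ S, v * v * v = 1 → ∀ q ∈ Qo J w, v * q = q * v := by
    intro J w hJ hn hl
    by_cases hc : ∀ y ∈ S, y * y = z → y ∈ Qo J w
    · exact Or.inl fun y hy hyz => Qo_le (hc y hy hyz)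
    · exact Or.inr fun v hv h3 q hq => T3.comm_of_sn hS.t3 hs (Qo_le.trans hl) (Qo_isPGroup hJ)
        (hn.trans (norm_Qo hJ)) hc hv h3 hq
  have cen : ∀ {J : Subgroup G} {w a : G}, IsPr J w → a ∈ J → (∀ q ∈ Qo J w, a * q = q * a) → a * a = 1 := by
    intro J w a hJ ha hq
    rcases hJ.t3.cen a ha fun y hy hyw => hq y (subset_closure ⟨hy, hyw⟩) with rfl | rfl
    · exact one_mul 1
    · exact hJ.t3.z_sq
  have dis : ∀ {J J' : Subgroup G}, (∀ a ∈ J, ∀ b ∈ J', a * b = b * a) → (∀ y ∈ S, y * y = z → y ∈ J) →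
      (∀ y ∈ S, y * y = z → y ∈ J') → False := by
    intro J J' hc hJ hJ'
    obtain ⟨x, hx, y, hy, hxz, hyz, hne⟩ := hS.t3.ex4
    exact hne (hc x (hJ x hx hxz) y (hJ' y hy hyz))
  -- the decomposition
  have dec : ∀ v ∈ S, ∃ a ∈ J1, ∃ b ∈ J2, ∃ c ∈ J3, v = a * b * c := by
    intro v hv
    have hc : ∀ x ∈ J1 ⊔ J2, ∀ c ∈ J3, x * c = c * x := by
      intro x hx c hc
      obtain ⟨a, ha, b, hb, rfl⟩ := exists_mul c12 hx
      calc a * b * c = a * (b * c) := by group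
        _ = a * c * b := by rw [c23 b hb c hc]; group
        _ = _ := by rw [c13 a ha c hc]; group
    obtain ⟨x, hx, c, hc', rfl⟩ := exists_mul hc (hSD hv)
    obtain ⟨a, ha, b, hb, rfl⟩ := exists_mul c12 hx
    exact ⟨a, ha, b, hb, c, hc', rfl⟩
  -- projections of commuting facts
  have p1 : ∀ {a b c : G}, a ∈ J1 → b ∈ J2 → c ∈ J3 → (∀ q ∈ Qo J1 z1, a * b * c * q = q * (a * b * c)) →
      a * a = 1 := by
    intro a b c ha hb hc hq
    refine cen h1 ha fun q hq' => ?_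
    have e1 := hq q hq'
    have hq1 : q ∈ J1 := Qo_le hq'
    have e2 : a * b * c * q = a * q * b * c := by
      calc a * b * c * q = a * b * (c * q) := by group
        _ = a * (b * q) * c := by rw [← c13 q hq1 c hc]; group
        _ = _ := by rw [← c12 q hq1 b hb]; group
    rw [e2] at e1
    have e3 : q * (a * b * c) = q * a * b * c := by group
    rw [e3] at e1
    exact mul_right_cancel (mul_right_cancel e1)
  have p2 : ∀ {a b c : G}, a ∈ J1 → b ∈ J2 → c ∈ J3 → (∀ q ∈ Qo J2 z2, a * b * c * q = q * (a * b * c)) →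
      b * b = 1 := by
    intro a b c ha hb hc hq
    refine cen h2 hb fun q hq' => ?_
    have e1 := hq q hq'
    have hq1 : q ∈ J2 := Qo_le hq'
    have e2 : a * b * c * q = a * (b * q) * c := by
      calc a * b * c * q = a * b * (c * q) := by group
        _ = _ := by rw [← c23 q hq1 c hc]; group
    have e3 : q * (a * b * c) = a * (q * b) * c := by
      calc q * (a * b * c) = (q * a) * b * c := by group
        _ = _ := by rw [← c12 a ha q hq1]; group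
    rw [e2, e3] at e1
    exact mul_left_cancel (mul_right_cancel e1)
  have p3 : ∀ {a b c : G}, a ∈ J1 → b ∈ J2 → c ∈ J3 → (∀ q ∈ Qo J3 z3, a * b * c * q = q * (a * b * c)) →
      c * c = 1 := by
    intro a b c ha hb hc hq
    refine cen h3 hc fun q hq' => ?_
    have e1 := hq q hq'
    have hq1 : q ∈ J3 := Qo_le hq'
    have e3 : q * (a * b * c) = a * b * (q * c) := by
      calc q * (a * b * c) = (q * a) * b * c := by group
        _ = a * (q * b) * c := by rw [← c13 a ha q hq1]; group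
        _ = _ := by rw [← c23 b hb q hq1]; group
    have e2 : a * b * c * q = a * b * (c * q) := by group
    rw [e2, e3] at e1
    exact mul_left_cancel e1
  -- fourth power
  have pw : ∀ {a b c : G}, a ∈ J1 → b ∈ J2 → c ∈ J3 →
      (a * b * c) * (a * b * c) = (a * a) * (b * b) * (c * c) := by
    intro a b c ha hb hc
    calc (a * b * c) * (a * b * c) = a * b * (c * a) * b * c := by group
      _ = a * (b * a) * (c * b) * c := by rw [← c13 a ha c hc]; group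
      _ = a * (a * b) * (b * c) * c := by rw [← c12 a ha b hb, ← c23 b hb c hc]
      _ = _ := by group
  have pw4 : ∀ {a b c v : G}, a ∈ J1 → b ∈ J2 → c ∈ J3 → v = a * b * c → v * v * v = 1 →
      v = (a * a * (a * a)) * (b * b * (b * b)) * (c * c * (c * c)) := by
    intro a b c v ha hb hc hv h3
    have e1 : v = (v * v) * (v * v) := by
      calc v = 1 * v := by group
        _ = v * v * v * v := by rw [h3]
        _ = _ := by group
    conv_lhs => rw [e1, hv, pw ha hb hc, pw (mul_mem ha ha) (mul_mem hb hb) (mul_mem hc hc)]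
  rcases key h1 n1 l1 with k1 | k1
  · left
    rcases key h2 n2 l2 with k2 | k2
    · exact (dis c12 k1 k2).elim
    rcases key h3 n3 l3 with k3 | k3
    · exact (dis c13 k1 k3).elim
    refine hS.le_of_cube fun v hv hv3 => ?_
    obtain ⟨a, ha, b, hb, c, hc, e⟩ := dec v hv
    have e2 : b * b = 1 := p2 ha hb hc (by rw [← e]; exact k2 v hv hv3)
    have e3 : c * c = 1 := p3 ha hb hc (by rw [← e]; exact k3 v hv hv3)
    rw [pw4 ha hb hc e hv3, e2, e3]
    simp only [mul_one]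
    exact mul_mem (mul_mem ha ha) (mul_mem ha ha)
  rcases key h2 n2 l2 with k2 | k2
  · right; left
    rcases key h3 n3 l3 with k3 | k3
    · exact (dis c23 k2 k3).elim
    refine hS.le_of_cube fun v hv hv3 => ?_
    obtain ⟨a, ha, b, hb, c, hc, e⟩ := dec v hv
    have e1 : a * a = 1 := p1 ha hb hc (by rw [← e]; exact k1 v hv hv3)
    have e3 : c * c = 1 := p3 ha hb hc (by rw [← e]; exact k3 v hv hv3)
    rw [pw4 ha hb hc e hv3, e1, e3]
    simp only [mul_one, one_mul]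
    exact mul_mem (mul_mem hb hb) (mul_mem hb hb)
  rcases key h3 n3 l3 with k3 | k3
  · right; right
    refine hS.le_of_cube fun v hv hv3 => ?_
    obtain ⟨a, ha, b, hb, c, hc, e⟩ := dec v hv
    have e1 : a * a = 1 := p1 ha hb hc (by rw [← e]; exact k1 v hv hv3)
    have e2 : b * b = 1 := p2 ha hb hc (by rw [← e]; exact k2 v hv hv3)
    rw [pw4 ha hb hc e hv3, e1, e2]
    simp only [mul_one, one_mul]
    exact mul_mem (mul_mem hc hc) (mul_mem hc hc)
  · exfalso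
    obtain ⟨v, hv, hv3, hne⟩ := hS.t3.ex3
    obtain ⟨a, ha, b, hb, c, hc, e⟩ := dec v hv
    have e1 : a * a = 1 := p1 ha hb hc (by rw [← e]; exact k1 v hv hv3)
    have e2 : b * b = 1 := p2 ha hb hc (by rw [← e]; exact k2 v hv hv3)
    have e3 : c * c = 1 := p3 ha hb hc (by rw [← e]; exact k3 v hv hv3)
    apply hne
    rw [pw4 ha hb hc e hv3, e1, e2, e3]
    group

end Abs

/-! ### The chart -/

section Chart

open Cfsg Cfsg.Agent.Cit.SolvTwo Cfsg.Agent.Cit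
open CoxeterSystem Cfsg.Agent.ChevalleyStructure.CoxeterGeom Cfsg.Agent.Tits.Roots Cfsg.Agent.Tits.Core
  Cfsg.Agent.Tits.RootComb Cfsg.Agent.Nodes.Comb Cfsg.Agent.Nodes.BNOf
  Cfsg.Agent.Nodes.RGDLib Cfsg.Agent.Nodes.Chart Cfsg.Agent.Nodes.Coroot Cfsg.Agent.Nodes.FreeTorus
open Cfsg.Agent.OddHalf.NI.FTwo Cfsg.Agent.OddHalf.NI.FTwo.FactsV Cfsg.Agent.OddHalf.NI.FTwo.FactsCo
  Cfsg.Agent.OddHalf.NI.FTwo.Facts

variable {N : Type*} [Group N] {Om : Set (Subgroup N)} {p : ℕ}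

/-- an element of `p`-power order of `D T`, `T` a `p'`-group normalising `D`, lies in `D` -/
theorem mem_of_pow {D T : Subgroup N} (hn : T ≤ Subgroup.normalizer (D : Set N))
    (hT : Nat.Coprime p (Nat.card T)) {g : N} (hg : g ∈ D ⊔ T) {k : ℕ} (hk : g ^ p ^ k = 1) : g ∈ D := by
  obtain ⟨d, hd, t, ht, rfl⟩ : ∃ d ∈ D, ∃ t ∈ T, d * t = g := by
    have h1 : g ∈ ((D ⊔ T : Subgroup N) : Set N) := hg
    rw [Subgroup.coe_mul_of_right_le_normalizer_left D T hn] at h1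
    obtain ⟨d, hd, t, ht, e⟩ := h1
    exact ⟨d, hd, t, ht, e⟩
  have hpw : ∀ n : ℕ, ∃ d' ∈ D, (d * t) ^ n = d' * t ^ n := by
    intro n
    induction n with
    | zero => exact ⟨1, one_mem _, by simp⟩
    | succ n ih =>
      obtain ⟨d', hd', e⟩ := ih
      have h1 : t ^ n * d * (t ^ n)⁻¹ ∈ D :=
        (Subgroup.mem_normalizer_iff.1 (hn (pow_mem ht n)) d).1 hd
      refine ⟨d' * (t ^ n * d * (t ^ n)⁻¹), mul_mem hd' h1, ?_⟩
      rw [pow_succ, e, pow_succ]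
      group
  obtain ⟨d', hd', e⟩ := hpw (p ^ k)
  rw [hk] at e
  have h1 : t ^ p ^ k ∈ D := by
    rw [eq_inv_of_mul_eq_one_right e.symm]
    exact inv_mem hd'
  have h2 : Nat.Coprime (p ^ k) (orderOf t) :=
    (Nat.Coprime.pow_left k hT).coprime_dvd_right (Subgroup.orderOf_dvd_natCard T ht)
  obtain ⟨m, hm⟩ := exists_pow_eq_self_of_coprime h2
  have h3 : t ∈ D := by rw [← hm]; exact pow_mem h1 m
  exact mul_mem hd h3

theorem tab_distinct : ∀ v ∈ longL, v ≠ ol v ∧ v ≠ -ol v ∧ v ≠ sh v ∧ v ≠ -sh v ∧ ol v ≠ sh v ∧ ol v ≠ -sh v := by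
  decide +kernel

section Main

variable {C : Chart Om p (⊤ : Subgroup N)} {F : Type} [Field F] [Fintype F] {c d : N} {A B A' : Subgroup N}
  {r r' b : C.I → ℤ} (H : PosB3 C F c d A B A' r r' b) {P : V → (C.I → ℤ)} (Q : Co C P)

include H Q

theorem T_norm {u : V} (hu : IsR u) : C.T ≤ Subgroup.normalizer (LL C.X (P u) : Set N) := by
  intro t ht
  rw [Cfsg.Agent.Nodes.Reps.mem_normalizer_iff_cj]
  unfold LL
  rw [Cfsg.Agent.Nodes.Reps.cj_sup, C.cls.rgd.tor _ (Q.root u hu) t ht, C.cls.rgd.tor _ (Q.root u hu).neg t ht]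

theorem le_of_equiv {v : V} (hv : IsL v) {S : Subgroup N} (hS : S ≤ Subgroup.centralizer ({C.z (P v)} : Set N))
    (e : ↥S ≃* Matrix.SpecialLinearGroup (Fin 2) F) :
    S ≤ LL C.X (P v) ⊔ LL C.X (P (ol v)) ⊔ LL C.X (P (sh v)) := by
  obtain ⟨t1, t2, t3, t4, t5⟩ := tab_ols v hv
  have hr := Q.root v (Or.inr hv)
  obtain ⟨e'⟩ := H.sl _ hr
  let φ : ↥(LL C.X (P v)) →* N := S.subtype.comp (e'.trans e.symm).toMonoidHom
  set D : Subgroup N := LL C.X (P v) ⊔ LL C.X (P (ol v)) ⊔ LL C.X (P (sh v)) with hD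
  have hT : C.T ≤ Subgroup.normalizer (D : Set N) := by
    intro t ht
    rw [Cfsg.Agent.Nodes.Reps.mem_normalizer_iff_cj, hD, Cfsg.Agent.Nodes.Reps.cj_sup,
      Cfsg.Agent.Nodes.Reps.cj_sup, Cfsg.Agent.Nodes.Reps.mem_normalizer_iff_cj.1 (T_norm H Q (Or.inr hv) ht),
      Cfsg.Agent.Nodes.Reps.mem_normalizer_iff_cj.1 (T_norm H Q (Or.inr t1) ht),
      Cfsg.Agent.Nodes.Reps.mem_normalizer_iff_cj.1 (T_norm H Q (Or.inl t2) ht)]
  have key : ∀ u, IsRoot C.cs C.h u → C.X u ≤ LL C.X (P v) → C.X u ≤ (D.comap φ).map (LL C.X (P v)).subtype := by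
    intro u hu hle x hx
    refine ⟨⟨x, hle hx⟩, ?_, rfl⟩
    change φ ⟨x, hle hx⟩ ∈ D
    obtain ⟨k, hk⟩ := C.cls.rgd.pgrp' hu ⟨x, hx⟩
    have hk' : x ^ p ^ k = 1 := congrArg Subtype.val hk
    refine mem_of_pow (k := k) hT (Nat.Coprime.symm C.cls.rgd.tcop) ?_ ?_
    · refine cen H Q hv ?_
      have h1 : φ ⟨x, hle hx⟩ ∈ S := (e.symm (e' ⟨x, hle hx⟩)).2
      exact (Subgroup.mem_centralizer_singleton_iff.1 (hS h1)).symm
    · rw [← map_pow]
      have : (⟨x, hle hx⟩ : ↥(LL C.X (P v))) ^ p ^ k = 1 := Subtype.ext hk'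
      rw [this, map_one]
  have h1 : LL C.X (P v) ≤ (D.comap φ).map (LL C.X (P v)).subtype :=
    sup_le (key _ hr le_sup_left) (key _ hr.neg le_sup_right)
  intro s hs
  obtain ⟨y, hy, e2⟩ := h1 (e'.symm (e ⟨s, hs⟩)).2
  have h2 : y = e'.symm (e ⟨s, hs⟩) := Subtype.ext e2
  rw [h2] at hy
  have h3 : φ (e'.symm (e ⟨s, hs⟩)) = s := by
    change ((e.symm (e' (e'.symm (e ⟨s, hs⟩))) : S) : N) = s
    rw [e'.apply_symm_apply, e.symm_apply_apply]
  rw [← h3]
  exact hy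

omit H Q in
theorem exists_isPr {J : Subgroup N} (e : ↥J ≃* SL23) : ∃ z, IsPr J z := by
  refine ⟨((e.symm (-1) : J) : N), ⟨e⟩, ?_, (e.symm (-1)).2⟩
  rw [Subgroup.orderOf_coe, MulEquiv.orderOf_eq, orderOf_eq_prime_iff]
  exact ⟨by decide +kernel, by decide +kernel⟩

/-- `JJ u` centralises `z v` -/
theorem LL_le_cen {v : V} (hv : IsL v) {u : V} (hu : IsR u) (hu' : u = v ∨ dot u v = 0) :
    LL C.X (P u) ≤ Subgroup.centralizer ({C.z (P v)} : Set N) := by
  have hur : IsR (-u) := (tab_neg u (mem_rootsL.2 hu)).1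
  have h1 : dot u v = 0 ∨ u = v ∨ u = -v := by tauto
  have h2 : dot (-u) v = 0 ∨ -u = v ∨ -u = -v := by
    rcases hu' with h | h
    · exact Or.inr (Or.inr (by rw [h]))
    · refine Or.inl ?_
      simp only [dot, Prod.fst_neg, Prod.snd_neg] at h ⊢
      linarith
  unfold LL
  refine sup_le (fun x hx => ?_) (fun x hx => ?_)
  · rw [Subgroup.mem_centralizer_singleton_iff]
    exact (z_even Q H hv hu h1 hx).symm
  · rw [Subgroup.mem_centralizer_singleton_iff]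
    rw [← Q.neg u hu] at hx
    exact (z_even Q H hv hur h2 hx).symm

/-- **`UU` for a chart.** -/
theorem uu_of_pos [Finite N] : UU F (⊤ : Subgroup N) (fun v => C.X (P v)) (zv C P c) := by
  intro v hv S hS hs ⟨e⟩
  obtain ⟨t1, t2, t3, t4, t5⟩ := tab_ols v hv
  have hvR : IsR v := Or.inr hv
  have hoR : IsR (ol v) := Or.inr t1
  have hsR : IsR (sh v) := Or.inl t2
  have hC0 : (⊤ : Subgroup N) ⊓ Subgroup.centralizer ({zv C P c v} : Set N) =
      Subgroup.centralizer ({C.z (P v)} : Set N) := by rw [top_inf_eq, zv_L hv]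
  rw [hC0] at hS hs
  have hSn : Sn S (Subgroup.centralizer ({C.z (P v)} : Set N)) := ⟨hS, hs⟩
  have hSD := le_of_equiv H Q hv hS e
  -- the three groups
  have hcard : ∀ {u : V}, IsR u → Nat.card S = Nat.card (LL C.X (P u)) := by
    intro u hu
    obtain ⟨e'⟩ := H.sl _ (Q.root u hu)
    exact Nat.card_congr (e.trans e'.symm).toEquiv
  have hnv : ∀ {u : V}, IsR u → (u = v ∨ dot u v = 0) →
      Subgroup.centralizer ({C.z (P v)} : Set N) ≤ Subgroup.normalizer (LL C.X (P u) : Set N) :=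
    fun hu hu' g hg => normalizes H Q hv hu hu' (Subgroup.mem_centralizer_singleton_iff.1 hg).symm
  have l1 := LL_le_cen H Q hv hvR (Or.inl rfl)
  have l2 := LL_le_cen H Q hv hoR (Or.inr t3)
  have l3 := LL_le_cen H Q hv hsR (Or.inr t4)
  have n1 := hnv hvR (Or.inl rfl)
  have n2 := hnv hoR (Or.inr t3)
  have n3 := hnv hsR (Or.inr t4)
  have tb := tab_distinct v hv
  have c12 : ∀ a ∈ LL C.X (P v), ∀ b ∈ LL C.X (P (ol v)), a * b = b * a := fun a ha b hb =>
    comm_JJ H Q hv hvR hoR (Or.inl rfl) (Or.inr (Or.inr t3)) tb.1 tb.2.1 ha hb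
  have c13 : ∀ a ∈ LL C.X (P v), ∀ b ∈ LL C.X (P (sh v)), a * b = b * a := fun a ha b hb =>
    comm_JJ H Q hv hvR hsR (Or.inl rfl) (Or.inr (Or.inr t4)) tb.2.2.1 tb.2.2.2.1 ha hb
  have c23 : ∀ a ∈ LL C.X (P (ol v)), ∀ b ∈ LL C.X (P (sh v)), a * b = b * a := fun a ha b hb =>
    comm_JJ H Q hv hoR hsR (Or.inr (Or.inr t3)) (Or.inr (Or.inr t4)) tb.2.2.2.2.1 tb.2.2.2.2.2 ha hb
  -- it suffices that `S` is contained in or contains one of them
  have hfin : ∀ {u : V}, IsR u → (u = v ∨ dot u v = 0) → (S ≤ LL C.X (P u) ∨ LL C.X (P u) ≤ S) →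
      ∃ u, IsR u ∧ (u = v ∨ dot u v = 0) ∧ S = JJ (fun v => C.X (P v)) u := by
    intro u hu hu' h
    refine ⟨u, hu, hu', ?_⟩
    rw [JJ_eq Q hu]
    rcases h with h | h
    · exact Subgroup.eq_of_le_of_card_ge h (hcard hu).ge
    · exact (Subgroup.eq_of_le_of_card_ge h (hcard hu).le).symm
  by_cases h3 : Fintype.card F = 3
  · obtain ⟨f⟩ := Cfsg.Agent.Cit.LongAbs.equiv_S3 h3
    obtain ⟨z0, hz0⟩ := exists_isPr (e.trans f)
    obtain ⟨e1⟩ := H.sl _ (Q.root v hvR)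
    obtain ⟨e2⟩ := H.sl _ (Q.root _ hoR)
    obtain ⟨e3⟩ := H.sl _ (Q.root _ hsR)
    obtain ⟨z1, hz1⟩ := exists_isPr (e1.trans f)
    obtain ⟨z2, hz2⟩ := exists_isPr (e2.trans f)
    obtain ⟨z3, hz3⟩ := exists_isPr (e3.trans f)
    rcases three hz0 hz1 hz2 hz3 c12 c13 c23 (hS.trans n1) (hS.trans n2) (hS.trans n3) hSn l1 l2 l3 hSD with h | h | h
    · exact hfin hvR (Or.inl rfl) (Or.inl h)
    · exact hfin hoR (Or.inr t3) (Or.inl h)
    · exact hfin hsR (Or.inr t4) (Or.inl h)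
  · -- quasisimple
    have hq : IsQuasisimple (Matrix.SpecialLinearGroup (Fin 2) F) := Cfsg.Agent.Cit.LongAbs.quasisimple_SL2 H.odd h3
    have hcomp : ∀ {u : V}, IsR u → (u = v ∨ dot u v = 0) → LL C.X (P u) ≤ S ∨ ∀ x ∈ S, ∀ y ∈ LL C.X (P u),
        x * y = y * x := by
      intro u hu hu'
      obtain ⟨e'⟩ := H.sl _ (Q.root u hu)
      have hl := LL_le_cen H Q hv hu hu'
      have h1 : IsComponent ((LL C.X (P u)).subgroupOf (Subgroup.centralizer ({C.z (P v)} : Set N))) := by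
        refine ⟨(Sn.of_normal hl (hnv hu hu')).2, ?_⟩
        exact Cfsg.Agent.SignalizersComponents.ComponentNormalize.quasisimple_congr ((Subgroup.subgroupOfEquivOfLe hl).trans e').symm hq
      rcases Cfsg.Agent.SignalizersComponents.Components.component_le_or_commutator_eq_bot h1 hs with h | h
      · left
        intro x hx
        exact h (show (⟨x, hl hx⟩ : ↥(Subgroup.centralizer ({C.z (P v)} : Set N))) ∈ _ from hx)
      · right
        rw [Subgroup.commutator_eq_bot_iff_le_centralizer] at h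
        intro x hx y hy
        have h2 := Subgroup.mem_centralizer_iff.1
          (h (show (⟨y, hl hy⟩ : ↥(Subgroup.centralizer ({C.z (P v)} : Set N))) ∈ _ from hy)) ⟨x, hS hx⟩ hx
        exact congrArg Subtype.val h2
    rcases hcomp hvR (Or.inl rfl) with h | k1
    · exact hfin hvR (Or.inl rfl) (Or.inr h)
    rcases hcomp hoR (Or.inr t3) with h | k2
    · exact hfin hoR (Or.inr t3) (Or.inr h)
    rcases hcomp hsR (Or.inr t4) with h | k3
    · exact hfin hsR (Or.inr t4) (Or.inr h)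
    exfalso
    refine Cfsg.Agent.Cit.LongAbs.not_comm_of_equiv H.odd e fun x hx y hy => ?_
    have h1 : LL C.X (P v) ⊔ LL C.X (P (ol v)) ⊔ LL C.X (P (sh v)) ≤ Subgroup.centralizer ({x} : Set N) := by
      refine sup_le (sup_le (fun w hw => ?_) (fun w hw => ?_)) (fun w hw => ?_)
      · exact Subgroup.mem_centralizer_singleton_iff.2 (k1 x hx w hw).symm
      · exact Subgroup.mem_centralizer_singleton_iff.2 (k2 x hx w hw).symm
      · exact Subgroup.mem_centralizer_singleton_iff.2 (k3 x hx w hw).symm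
    exact (Subgroup.mem_centralizer_singleton_iff.1 (h1 (hSD hy))).symm

end Main

end Chart

end Cfsg.Agent.OddHalf.NI3.Sol.CenB

end

-- merged: Cfsg.Agent.OddHalf.NI3.Sol.Final
section

/-!
# Solomon's configuration does not exist: charts of type `B₃`, all odd `q`

* `kf_of_chart` : `ChartB3 F N c d A B A'` gives `KF F N c A B A'`;
* `sol_core` : Solomon's configuration with two charts of type `B₃` is impossible in any group `X` (`Lu`, `Lv` finite);
* `sol_of`, `sol` : `NI.Sol S7` for every `S7` which gives `ChartB3`;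
* `sol3_of`, `sol3` : the same for `SL₂(3)` (node NI over `F₃`).
-/

set_option autoImplicit false

namespace Cfsg.Agent.OddHalf.NI3.Sol

open Subgroup Matrix
open Cfsg.Agent.OddHalf.NI (CompIn)
open Cfsg.Agent.OddHalf.D3 (Comp)

/-- A chart of type `B₃` gives all facts. -/
theorem kf_of_chart {N : Type*} [Group N] [Finite N] {F : Type} [Field F] [Fintype F] {c d : N}
    {A B A' : Subgroup N} (H : NI.FTwo.ChartB3 F N c d A B A') : KF F N c A B A' := by
  obtain ⟨Om, p, C, r, r', b, hOm, H'⟩ := id H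
  obtain ⟨P, Q, e1, e2, e3⟩ := NI.FTwo.FactsCo.exists_co H'
  have p1 : JJ (fun v => C.X (P v)) (0, 0, 1) = A := by
    rw [NI.FTwo.Facts.JJ_eq Q (by decide), e3, H'.A_eq]
  have p2 : JJ (fun v => C.X (P v)) (1, 1, 0) = B := by
    rw [NI.FTwo.Facts.JJ_eq Q (by decide), e1, H'.B_eq]
  have p3 : JJ (fun v => C.X (P v)) (1, -1, 0) = A' := by
    rw [NI.FTwo.Facts.JJ_eq Q (by decide), e2, H'.A'_eq]
  have p4 : NI.FTwo.Facts.zv C P c (1, 1, 0) = d := by
    rw [NI.FTwo.Facts.zv_L (by decide), e1, H'.zr]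
  refine ⟨fun v => C.X (P v), NI.FTwo.Facts.zv C P c, NI.FTwo.Facts.b3_of_pos Q H', ?_,
    CenB.uu_of_pos H' Q, CenB.ss_of_pos H' Q, p1, p2, p3⟩
  intro α h1 h2 h3
  rw [p1] at h1
  rw [p3] at h2
  rw [p2] at h3
  rw [p4]
  exact NI.PosStd.aut_eq H α h1 h3 h2

/-- **Solomon's configuration does not exist.** -/
theorem sol_core {X : Type*} [Group X] {u v : X} {Lu Lv Ju Jv Jw : Subgroup X} [Finite Lu] [Finite Lv]
    (cu : CompIn (centralizer ({u} : Set X)) Lu) (cv : CompIn (centralizer ({v} : Set X)) Lv)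
    (hu : u ∈ Lu) (hv : v ∈ Lv) (l1 : Ju ≤ Lu) (l2 : Jv ≤ Lu) (l3 : Jw ≤ Lu) (m1 : Ju ≤ Lv) (m2 : Jv ≤ Lv)
    (m3 : Jw ≤ Lv) {d : Lu} {d' : Lv}
    (ku : ∃ (F : Type) (_ : Field F) (_ : Fintype F), NI.FTwo.ChartB3 F ↥Lu ⟨u, hu⟩ d (Ju.subgroupOf Lu)
      (Jv.subgroupOf Lu) (Jw.subgroupOf Lu))
    (kv : ∃ (F : Type) (_ : Field F) (_ : Fintype F), NI.FTwo.ChartB3 F ↥Lv ⟨v, hv⟩ d' (Jv.subgroupOf Lv)
      (Ju.subgroupOf Lv) (Jw.subgroupOf Lv)) : False := by
  obtain ⟨F, _, _, ku⟩ := ku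
  obtain ⟨F', _, _, kv⟩ := kv
  exact chart_false cu cv hu hv l1 l2 l3 m1 m2 m3 (kf_of_chart ku) (kf_of_chart kv)

universe w

/-- **(Sol)** for every `S7` giving a chart of type `B₃`. -/
theorem sol_of {S7 : ∀ (N : Type w) [Group N], N → N → Subgroup N → Subgroup N → Subgroup N → Prop}
    (h : ∀ (N : Type w) [Group N] [Finite N] (c d : N) (A B A' : Subgroup N), S7 N c d A B A' →
      ∃ (F : Type) (_ : Field F) (_ : Fintype F), NI.FTwo.ChartB3 F N c d A B A') : NI.Sol.{w} S7 := by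
  intro X _ _ u v Lu Lv Ju Jv Jw _ _ _ _ hLu hLv hu hv _ _ l1 l2 l3 m1 m2 m3 ku kv
  exact sol_core ⟨hLu.le, hLu.comp⟩ ⟨hLv.le, hLv.comp⟩ (l1 hu) (m2 hv) l1 l2 l3 m1 m2 m3
    (h _ _ _ _ _ _ (ku (l1 hu) (l2 hv))) (h _ _ _ _ _ _ (kv (m1 hu) (m2 hv)))

/-- **(Sol)** for charts of type `B₃`. -/
theorem sol : NI.Sol.{w} NI.PosStd.S7B3.{w} := sol_of fun _ _ _ _ _ _ _ _ h => h

/-- **(Sol) over `F₃`** for every `S7` giving a chart of type `B₃` (the form consumed by THEOREM X(3)). -/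
theorem sol3_of {S7 : ∀ (N : Type w) [Group N], N → N → Subgroup N → Subgroup N → Subgroup N → Prop}
    (h : ∀ (N : Type w) [Group N] [Finite N] (c d : N) (A B A' : Subgroup N), S7 N c d A B A' →
      ∃ (F : Type) (_ : Field F) (_ : Fintype F), NI.FTwo.ChartB3 F N c d A B A') :
    ∀ (X : Type w) [Group X] [Finite X] (u v : X) (Lu Lv Ju Jv Jw : Subgroup X), orderOf u = 2 → orderOf v = 2 →
    u ≠ v → u * v = v * u → Comp u Lu → Comp v Lv → u ∈ Ju → v ∈ Jv → u * v ∈ Jw →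
    Nonempty (↥Ju ≃* Matrix.SpecialLinearGroup (Fin 2) (ZMod 3)) →
    Nonempty (↥Jv ≃* Matrix.SpecialLinearGroup (Fin 2) (ZMod 3)) →
    Ju ≤ Lu → Jv ≤ Lu → Jw ≤ Lu → Ju ≤ Lv → Jv ≤ Lv → Jw ≤ Lv →
    (∀ (hu : u ∈ Lu) (hv : v ∈ Lu), S7 ↥Lu ⟨u, hu⟩ ⟨v, hv⟩ (Ju.subgroupOf Lu) (Jv.subgroupOf Lu) (Jw.subgroupOf Lu)) →
    (∀ (hu : u ∈ Lv) (hv : v ∈ Lv), S7 ↥Lv ⟨v, hv⟩ ⟨u, hu⟩ (Jv.subgroupOf Lv) (Ju.subgroupOf Lv) (Jw.subgroupOf Lv)) →
    False := by
  intro X _ _ u v Lu Lv Ju Jv Jw _ _ _ _ hLu hLv hu hv _ _ _ l1 l2 l3 m1 m2 m3 ku kv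
  exact sol_core ⟨hLu.le, hLu.comp⟩ ⟨hLv.le, hLv.comp⟩ (l1 hu) (m2 hv) l1 l2 l3 m1 m2 m3
    (h _ _ _ _ _ _ (ku (l1 hu) (l2 hv))) (h _ _ _ _ _ _ (kv (m1 hu) (m2 hv)))

end Cfsg.Agent.OddHalf.NI3.Sol

end
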